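import Cfsg.Agent.Lib.OddOrder41.FixOmega

/-!
# Coprime automorphisms fixing the elements of order `p` (and `4`)
The proof is the one of `CfsgLib.OddOrder41.fixes_of_fixes_exponent_p`, extended to `p = 2`.
-/

set_option autoImplicit false

namespace CfsgLib.LocalEvenSix

open CfsgLib.OddOrder41

variable {G : Type*} [Group G]

/-- An element of order prime to `p` normalising a `p`-subgroup and fixing all its elements of order dividing
`p` (and of order dividing `4` when `p = 2`) fixes it. -/
theorem fixes_of_fixes_small [Finite G] {p : ℕ} [hp : Fact p.Prime] (a : G)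
    (hcop : (orderOf a).Coprime p) :
    ∀ (n : ℕ) (H : Subgroup G), Nat.card H = n → IsPGroup p H → (∀ x ∈ H, a * x * a⁻¹ ∈ H) →
      (∀ x ∈ H, x ^ p = 1 ∨ (p = 2 ∧ x ^ 4 = 1) → a * x = x * a) → ∀ x ∈ H, a * x = x * a := by
  intro n
  induction n using Nat.strong_induction_on with
  | _ n ih =>
    intro H hn hH hinv hfix
    have hprop : ∀ K : Subgroup G, K ≤ H → K ≠ H → (∀ x ∈ K, a * x * a⁻¹ ∈ K) →
        ∀ x ∈ K, a * x = x * a := by
      intro K hKH hne hKinv
      have hlt : Nat.card K < n := by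
        rw [← hn]
        exact lt_of_le_of_ne (Subgroup.card_le_of_le hKH)
          (fun he => hne (Subgroup.eq_of_le_of_card_ge hKH he.ge))
      exact ih _ hlt K rfl (hH.to_le hKH) hKinv (fun x hx => hfix x (hKH hx))
    have hcopH : (orderOf a).Coprime (Nat.card H) := by
      obtain ⟨k, hk⟩ := hH.exists_card_eq
      rw [hk]; exact Nat.Coprime.pow_right _ hcop
    -- the displacements
    let Y : Set G := (fun x => x⁻¹ * (a * x * a⁻¹)) '' (H : Set G)
    have hYH : Y ⊆ H := by
      rintro _ ⟨x, hx, rfl⟩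
      exact H.mul_mem (H.inv_mem hx) (hinv x hx)
    have hYle : Subgroup.closure Y ≤ H := (Subgroup.closure_le H).mpr hYH
    have hdone : (∀ y ∈ Y, a * y = y * a) → ∀ x ∈ H, a * x = x * a := by
      intro hY x hx
      refine fixes_of_step_fixed hcopH (hYH ⟨x, hx, rfl⟩) ?_ ?_
      · show a * x * a⁻¹ = x * (x⁻¹ * (a * x * a⁻¹))
        group
      · rw [hY _ ⟨x, hx, rfl⟩]; group
    by_cases hYeq : Subgroup.closure Y = H
    swap
    · apply hdone
      intro y hy
      refine hprop _ hYle hYeq (closure_conj_invariant ?_) y (Subgroup.subset_closure hy)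
      rintro _ ⟨x, hx, rfl⟩
      refine Subgroup.subset_closure ⟨a * x * a⁻¹, hinv x hx, ?_⟩
      simp only
      group
    rcases eq_or_ne H ⊥ with hbot | hbot
    · intro x hx
      rw [hbot, Subgroup.mem_bot] at hx
      simp [hx]
    -- the subgroup generated by commutators and p-th powers
    let T : Set G := {g | ∃ x ∈ H, ∃ y ∈ H, g = x * y * x⁻¹ * y⁻¹} ∪ {g | ∃ x ∈ H, g = x ^ p}
    have hTH : Subgroup.closure T ≤ H := by
      rw [Subgroup.closure_le]
      rintro g (⟨x, hx, y, hy, rfl⟩ | ⟨x, hx, rfl⟩)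
      · exact H.mul_mem (H.mul_mem (H.mul_mem hx hy) (H.inv_mem hx)) (H.inv_mem hy)
      · exact H.pow_mem hx p
    have hSne : Subgroup.closure T ≠ H := by
      intro heq
      haveI : Nontrivial H := (Subgroup.nontrivial_iff_ne_bot H).mpr hbot
      haveI : Group.IsNilpotent H := hH.isNilpotent
      haveI : Group.IsSolvable H := inferInstance
      have hAne : Nontrivial (Abelianization H) := by
        by_contra hA
        rw [not_nontrivial_iff_subsingleton] at hA
        have : commutator H = ⊤ := by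
          rw [eq_top_iff]
          intro g _
          rw [← Abelianization.ker_of (G := H)]
          exact Subsingleton.elim _ _
        exact (lt_top_iff_ne_top.mp (Group.IsSolvable.commutator_lt_top_of_nontrivial H)) this
      have hA : IsPGroup p (Abelianization H) := hH.to_quotient _
      let R : Subgroup H := ((powMonoidHom p : Abelianization H →* Abelianization H).range).comap Abelianization.of
      have hR : Subgroup.closure T ≤ R.map H.subtype := by
        rw [Subgroup.closure_le]
        rintro g (⟨x, hx, y, hy, rfl⟩ | ⟨x, hx, rfl⟩)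
        · refine ⟨(⟨x, hx⟩ : H) * ⟨y, hy⟩ * (⟨x, hx⟩ : H)⁻¹ * (⟨y, hy⟩ : H)⁻¹, ?_, rfl⟩
          apply Subgroup.mem_comap.mpr
          simp only [map_mul, map_inv]
          rw [mul_inv_cancel_comm, mul_inv_cancel]
          exact one_mem _
        · refine ⟨(⟨x, hx⟩ : H) ^ p, ?_, rfl⟩
          exact ⟨Abelianization.of ⟨x, hx⟩, (map_pow _ _ _).symm⟩
      have hRtop : R = ⊤ := by
        rw [eq_top_iff]
        intro g _
        obtain ⟨r, hr, hrg⟩ := hR (show (g : G) ∈ Subgroup.closure T by rw [heq]; exact g.2)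
        have : r = g := Subtype.ext hrg
        exact this ▸ hr
      have hsurj : Function.Surjective (powMonoidHom p : Abelianization H →* Abelianization H) := by
        intro b
        obtain ⟨g, rfl⟩ : ∃ g : H, Abelianization.of g = b := QuotientGroup.mk'_surjective _ b
        have : g ∈ R := hRtop ▸ Subgroup.mem_top _
        exact this
      haveI : Finite (Abelianization H) := Quotient.finite _
      have hinj := Finite.injective_iff_surjective.mpr hsurj
      obtain ⟨k, hk0, hk⟩ := (IsPGroup.nontrivial_iff_card hA).mp hAne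
      obtain ⟨g, hg⟩ := exists_prime_orderOf_dvd_card' p (hk ▸ dvd_pow_self p hk0.ne')
      have hg1 : g = 1 := hinj (by simp [← hg, pow_orderOf_eq_one])
      rw [hg1, orderOf_one] at hg
      exact hp.out.ne_one hg.symm
    have hSfix : ∀ s ∈ Subgroup.closure T, a * s = s * a := by
      refine hprop _ hTH hSne (closure_conj_invariant ?_)
      rintro g (⟨x, hx, y, hy, rfl⟩ | ⟨x, hx, rfl⟩)
      · refine Subgroup.subset_closure (Or.inl ⟨a * x * a⁻¹, hinv x hx, a * y * a⁻¹, hinv y hy, ?_⟩)
        group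
      · exact Subgroup.subset_closure (Or.inr ⟨a * x * a⁻¹, hinv x hx, conj_pow.symm⟩)
    have hSnorm : ∀ h ∈ H, ∀ s ∈ Subgroup.closure T, h * s * h⁻¹ ∈ Subgroup.closure T := by
      intro h hh s hs
      have h1 : h * s * h⁻¹ * s⁻¹ ∈ Subgroup.closure T :=
        Subgroup.subset_closure (Or.inl ⟨h, hh, s, hTH hs, rfl⟩)
      have := mul_mem h1 hs
      simpa using this
    have hcentral : ∀ h ∈ H, ∀ s ∈ Subgroup.closure T, h * s = s * h := by
      have hY : Y ⊆ (Subgroup.centralizer (Subgroup.closure T : Set G) : Set G) := by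
        rintro _ ⟨x, hx, rfl⟩
        refine Subgroup.mem_centralizer_iff.mpr fun s hs => ?_
        have h1 := hSfix s hs
        have h2 := hSfix _ (hSnorm x hx s hs)
        have h1' : a⁻¹ * s = s * a⁻¹ := by
          calc a⁻¹ * s = a⁻¹ * (s * a) * a⁻¹ := by group
            _ = a⁻¹ * (a * s) * a⁻¹ := by rw [h1]
            _ = s * a⁻¹ := by group
        calc s * (x⁻¹ * (a * x * a⁻¹)) = x⁻¹ * ((x * s * x⁻¹) * a) * (x * a⁻¹) := by group
          _ = x⁻¹ * (a * (x * s * x⁻¹)) * (x * a⁻¹) := by rw [h2]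
          _ = x⁻¹ * a * x * (s * a⁻¹) := by group
          _ = x⁻¹ * a * x * (a⁻¹ * s) := by rw [h1']
          _ = _ := by group
      intro h hh s hs
      have : h ∈ Subgroup.centralizer (Subgroup.closure T : Set G) :=
        (Subgroup.closure_le _).mpr hY (hYeq.symm ▸ hh)
      exact ((Subgroup.mem_centralizer_iff.mp this) s hs).symm
    apply hdone
    rintro _ ⟨x, hx, rfl⟩
    show a * (x⁻¹ * (a * x * a⁻¹)) = x⁻¹ * (a * x * a⁻¹) * a
    set y := x⁻¹ * (a * x * a⁻¹) with hy_def
    have hy : y ∈ H := hYH ⟨x, hx, rfl⟩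
    let c := y⁻¹ * x⁻¹ * y * x
    have hcT : c ∈ Subgroup.closure T :=
      Subgroup.subset_closure (Or.inl ⟨y⁻¹, H.inv_mem hy, x⁻¹, H.inv_mem hx, by simp [c]⟩)
    have hyx : y * x = x * y * c := by simp only [c]; group
    have hcx : c * x = x * c := (hcentral x hx c hcT).symm
    have hcy : c * y = y * c := (hcentral y hy c hcT).symm
    obtain ⟨e1, e2⟩ := pow_mul_eq_of_central_step hyx hcx hcy p
    have hyp : y ^ p ∈ Subgroup.closure T := Subgroup.subset_closure (Or.inr ⟨y, hy, rfl⟩)
    have hcp : c ^ p = 1 := by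
      rw [← hcentral x hx _ hyp] at e1
      exact left_eq_mul.mp e1
    have hxy : x * y = a * x * a⁻¹ := by rw [hy_def]; group
    have hxp : x ^ p ∈ Subgroup.closure T := Subgroup.subset_closure (Or.inr ⟨x, hx, rfl⟩)
    rw [hxy, conj_pow, hSfix _ hxp, mul_assoc (x ^ p) a a⁻¹, mul_inv_cancel, mul_one, mul_assoc,
      left_eq_mul] at e2
    refine hfix y hy ?_
    by_cases h2 : p = 2
    · refine Or.inr ⟨h2, ?_⟩
      subst h2
      rw [Nat.choose_self, pow_one] at e2
      rw [show (4 : ℕ) = 2 * 2 by norm_num, pow_mul, eq_inv_of_mul_eq_one_left e2, inv_pow, hcp, inv_one]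
    · refine Or.inl ?_
      obtain ⟨q, hq⟩ := hp.out.dvd_choose_self two_ne_zero (lt_of_le_of_ne hp.out.two_le (Ne.symm h2))
      rw [hq, pow_mul, hcp, one_pow, mul_one] at e2
      exact e2
end CfsgLib.LocalEvenSix
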