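import Mathlib.GroupTheory.Index
import Mathlib.Tactic.Group
import Mathlib.Tactic.Ring
import Mathlib.GroupTheory.Subgroup.Centralizer
import Mathlib.GroupTheory.GroupAction.Quotient

/-!
# Card inequalities for the Chermak–Delgado style measures
-/

set_option autoImplicit false

namespace CfsgLib.LocalEvenSix

open Subgroup

variable {G : Type*} [Group G] [Finite G]

theorem card_mul_relIndex' {H K : Subgroup G} (h : H ≤ K) :
    Nat.card H * H.relIndex K = Nat.card K := by
  rw [← relIndex_bot_left, relIndex_mul_relIndex _ _ _ bot_le h, relIndex_bot_left]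

theorem card_mul_card_le (A B : Subgroup G) :
    Nat.card A * Nat.card B ≤ Nat.card ↥(A ⊔ B) * Nat.card ↥(A ⊓ B) := by
  have h1 := card_mul_relIndex' (inf_le_right : A ⊓ B ≤ B)
  rw [inf_relIndex_right] at h1
  have h2 := card_mul_relIndex' (le_sup_left : A ≤ A ⊔ B)
  have h3 : A.relIndex B ≤ A.relIndex (A ⊔ B) :=
    relIndex_le_of_le_right le_sup_right FiniteIndex.index_ne_zero
  calc Nat.card A * Nat.card B = Nat.card A * A.relIndex B * Nat.card ↥(A ⊓ B) := by rw [← h1]; ring
    _ ≤ Nat.card A * A.relIndex (A ⊔ B) * Nat.card ↥(A ⊓ B) :=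
        Nat.mul_le_mul_right _ (Nat.mul_le_mul_left _ h3)
    _ = Nat.card ↥(A ⊔ B) * Nat.card ↥(A ⊓ B) := by rw [h2]

theorem card_centralizer_mul_le (V A B : Subgroup G) :
    Nat.card ↥(V ⊓ centralizer (A : Set G)) * Nat.card ↥(V ⊓ centralizer (B : Set G)) ≤
      Nat.card ↥(V ⊓ centralizer ((A ⊓ B : Subgroup G) : Set G)) *
        Nat.card ↥(V ⊓ centralizer ((A ⊔ B : Subgroup G) : Set G)) := by
  refine (card_mul_card_le _ _).trans (Nat.mul_le_mul (Nat.le_of_dvd Nat.card_pos (card_dvd_of_le ?_)) (Nat.le_of_dvd Nat.card_pos (card_dvd_of_le ?_)))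
  · refine sup_le (inf_le_inf_left _ (centralizer_le ?_)) (inf_le_inf_left _ (centralizer_le ?_))
    · exact fun x hx => hx.1
    · exact fun x hx => hx.2
  · refine le_inf (inf_le_left.trans inf_le_left) (Subgroup.le_centralizer_iff.mp ?_)
    exact sup_le (Subgroup.le_centralizer_iff.mp (inf_le_left.trans inf_le_right))
      (Subgroup.le_centralizer_iff.mp (inf_le_right.trans inf_le_right))

/-- If the relative index of `M` in `N` equals the index of `M`, then `G = N M`. -/
theorem exists_mul_of_relIndex_eq_index (M N : Subgroup G) (h : M.relIndex N = M.index) (g : G) :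
    ∃ n ∈ N, ∃ m ∈ M, g = n * m := by
  set c : G ⧸ M := QuotientGroup.mk 1
  have hstab : MulAction.stabilizer N c = M.subgroupOf N := by
    ext n
    rw [MulAction.mem_stabilizer_iff, mem_subgroupOf]
    show (QuotientGroup.mk ((n : G) * 1) : G ⧸ M) = QuotientGroup.mk 1 ↔ _
    rw [QuotientGroup.eq]
    simp
  have horb : (MulAction.orbit N c).ncard = Nat.card (G ⧸ M) := by
    rw [← MulAction.index_stabilizer, hstab]; exact h
  have huniv : MulAction.orbit N c = Set.univ :=
    Set.eq_of_subset_of_ncard_le (Set.subset_univ _) (by rw [horb, Set.ncard_univ])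
  have hg : (QuotientGroup.mk g : G ⧸ M) ∈ MulAction.orbit N c := huniv ▸ Set.mem_univ _
  obtain ⟨n, hn⟩ := hg
  change (QuotientGroup.mk ((n : G) * 1) : G ⧸ M) = QuotientGroup.mk g at hn
  rw [QuotientGroup.eq] at hn
  exact ⟨n, n.2, (n : G)⁻¹ * g, by simpa using hn, by group⟩

omit [Finite G] in
theorem centralizer_map_mulEquiv {H : Type*} [Group H] (e : G ≃* H) (S : Subgroup G) :
    (centralizer (S : Set G)).map e.toMonoidHom = centralizer ((S.map e.toMonoidHom : Subgroup H) : Set H) := by
  ext x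
  rw [mem_centralizer_iff, mem_map]
  constructor
  · rintro ⟨y, hy, rfl⟩ _ ⟨s, hs, rfl⟩
    rw [← map_mul, ← map_mul, mem_centralizer_iff.mp hy s hs]
  · intro hx
    refine ⟨e.symm x, mem_centralizer_iff.mpr fun s hs => e.injective ?_, by simp⟩
    simpa using hx (e s) ⟨s, hs, rfl⟩

end CfsgLib.LocalEvenSix
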