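import Cfsg.Agent.Lib.Frobenius.ZJComplement
import Cfsg.Agent.Lib.Coprime.HyperplaneGeneration
import Cfsg.Prelude.Def_TwoFusion

/-!
# `Z(J(D))` for a subgroup `D` strongly closed in a Sylow subgroup
-/

set_option autoImplicit false
set_option linter.style.haveILetI false

namespace CfsgLib.LocalEvenSix.ZJClosed

open CfsgLib CfsgLib.PLocal CfsgLib.Frobenius
open scoped commutatorElement

section Basic

variable {G : Type*} [Group G]

theorem le_normalizer_of_stronglyClosed {D S : Subgroup G} (h : Cfsg.IsStronglyClosed D S) :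
    S ≤ Subgroup.normalizer (D : Set G) := fun s hs => Subgroup.mem_normalizer_iff.mpr fun x =>
  ⟨fun hx => h.2 x hx s (mul_mem (mul_mem hs (h.1 hx)) (inv_mem hs)), fun hx => by
    have h1 := h.2 _ hx s⁻¹ (mul_mem (mul_mem (inv_mem hs) (h.1 hx)) (inv_mem (inv_mem hs)))
    simpa [mul_assoc] using h1⟩

theorem inf_normal_of_stronglyClosed {D S B : Subgroup G} [hB : B.Normal]
    (h : Cfsg.IsStronglyClosed D S) (hBS : B ≤ S) : (B ⊓ D).Normal :=
  ⟨fun x hx g => ⟨hB.conj_mem x hx.1 g, h.2 x hx.2 g (hBS (hB.conj_mem x hx.1 g))⟩⟩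

theorem normalizer_inf_le_of_stronglyClosed {D S K : Subgroup G} (h : Cfsg.IsStronglyClosed D S) :
    Subgroup.normalizer ((S ⊓ K : Subgroup G) : Set G) ≤
      Subgroup.normalizer ((D ⊓ K : Subgroup G) : Set G) := by
  intro g hg
  refine Subgroup.mem_normalizer_iff.mpr fun x => ⟨fun hx => ?_, fun hx => ?_⟩
  · have h1 := (Subgroup.mem_normalizer_iff.mp hg x).mp ⟨h.1 hx.1, hx.2⟩
    exact ⟨h.2 x hx.1 g h1.1, h1.2⟩
  · have h1 := (Subgroup.mem_normalizer_iff.mp hg x).mpr ⟨h.1 hx.1, hx.2⟩
    refine ⟨?_, h1.2⟩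
    have h2 := h.2 _ hx.1 g⁻¹ (by simpa [mul_assoc] using h1.1)
    simpa [mul_assoc] using h2

theorem stronglyClosed_conj {p : ℕ} {D : Subgroup G} {P : Sylow p G}
    (h : Cfsg.IsStronglyClosed D (P : Subgroup G)) (g : G) :
    Cfsg.IsStronglyClosed (D.map (MulAut.conj g : G →* G)) ((g • P : Sylow p G) : Subgroup G) := by
  rw [Sylow.coe_subgroup_smul]
  refine ⟨Subgroup.map_mono h.1, ?_⟩
  rintro _ ⟨x, hx, rfl⟩ k ⟨y, hy, hye⟩
  have e : y = (g⁻¹ * k * g) * x * (g⁻¹ * k * g)⁻¹ := by
    have h1 : g * y * g⁻¹ = k * (g * x * g⁻¹) * k⁻¹ := hye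
    calc y = g⁻¹ * (g * y * g⁻¹) * g := by group
      _ = _ := by rw [h1]; group
  exact ⟨y, e ▸ h.2 x hx _ (e ▸ hy), hye⟩

theorem stronglyClosed_map_of_le {D S O : Subgroup G} [O.Normal]
    (h : Cfsg.IsStronglyClosed D S) (hO : O ≤ S) :
    Cfsg.IsStronglyClosed (D.map (QuotientGroup.mk' O)) (S.map (QuotientGroup.mk' O)) := by
  refine ⟨Subgroup.map_mono h.1, ?_⟩
  rintro _ ⟨x, hx, rfl⟩ k hk
  obtain ⟨k, rfl⟩ := QuotientGroup.mk'_surjective O k
  obtain ⟨y, hy, hye⟩ := hk
  rw [← map_inv, ← map_mul, ← map_mul] at hye ⊢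
  have h1 : y⁻¹ * (k * x * k⁻¹) ∈ O := QuotientGroup.eq.mp hye
  have h2 := mul_mem hy (hO h1)
  rw [mul_inv_cancel_left] at h2
  exact ⟨_, h.2 x hx k h2, rfl⟩

theorem stronglyClosed_map_of_coprime [Finite G] {p : ℕ} [Fact p.Prime] {D K : Subgroup G}
    {P : Sylow p G} [K.Normal] (h : Cfsg.IsStronglyClosed D (P : Subgroup G))
    (hK : (Nat.card K).Coprime p) :
    Cfsg.IsStronglyClosed (D.map (QuotientGroup.mk' K))
      ((P : Subgroup G).map (QuotientGroup.mk' K)) := by
  refine ⟨Subgroup.map_mono h.1, ?_⟩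
  rintro _ ⟨x, hx, rfl⟩ k hk
  obtain ⟨k, rfl⟩ := QuotientGroup.mk'_surjective K k
  rw [← map_inv, ← map_mul, ← map_mul] at hk ⊢
  set T := ((P : Subgroup G).map (QuotientGroup.mk' K)).comap (QuotientGroup.mk' K) with hTdef
  have hT : T = K ⊔ (P : Subgroup G) := by
    rw [hTdef, Subgroup.comap_map_eq, QuotientGroup.ker_mk', sup_comm]
  have hy : k * x * k⁻¹ ∈ T := hk
  have hPT : (P : Subgroup G) ≤ T := hT ▸ le_sup_right
  obtain ⟨R, hR⟩ := ((P.isPGroup'.to_le h.1).map (MulAut.conj k : G →* G) |>.comap_subtype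
    (K := T)).exists_le_sylow
  obtain ⟨t, rfl⟩ := MulAction.exists_smul_eq T (P.subtype hPT) R
  have h1 := hR (x := ⟨_, hy⟩) ⟨x, hx, rfl⟩
  rw [Sylow.coe_subgroup_smul, Subgroup.mem_pointwise_smul_iff_inv_smul_mem] at h1
  have h2 : (t : G)⁻¹ * (k * x * k⁻¹) * t ∈ (P : Subgroup G) := by
    simpa [MulAut.smul_def, Subgroup.mem_subgroupOf] using h1
  obtain ⟨c, hc, u, hu, hcu⟩ := Subgroup.mem_sup_of_normal_left.mp (hT ▸ t.2 : (t : G) ∈ K ⊔ (P : Subgroup G))
  have h3 : (c⁻¹ * k) * x * (c⁻¹ * k)⁻¹ ∈ (P : Subgroup G) := by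
    rw [← hcu] at h2
    convert mul_mem (mul_mem hu h2) (inv_mem hu) using 1
    group
  refine ⟨_, h.2 x hx _ h3, ?_⟩
  simp [(QuotientGroup.eq_one_iff c).mpr hc]

end Basic

section ZJ

variable {G : Type*} [Group G] [Finite G] {p e : ℕ} [Fact p.Prime]

/-- `B ∩ ZJ(D)` is normal for every normal `p`-subgroup `B`, `D` strongly closed in a Sylow subgroup. -/
theorem inf_zjClosed_normal (hp : p ≠ 2) (he : e = 0 ∨ e = p)
    (hst : ∀ (P : Subgroup G) [P.Normal], IsPGroup p P → Cfsg.IsPStableOn p P) (S : Sylow p G)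
    {D : Subgroup G} (hD : Cfsg.IsStronglyClosed D (S : Subgroup G))
    (B : Subgroup G) [B.Normal] (hB : IsPGroup p B) : (B ⊓ zj e D).Normal := by
  suffices key : ∀ n, ∀ B : Subgroup G, B.Normal → IsPGroup p B → Nat.card B = n →
      (B ⊓ zj e D).Normal from key _ B inferInstance hB rfl
  intro n
  induction n using Nat.strong_induction_on with
  | _ n ih =>
  intro B hBn hB hcard
  subst hcard
  set Z := zj e D with hZ
  have small : ∀ B' : Subgroup G, B'.Normal → B' < B → (B' ⊓ Z).Normal := fun B' hn hlt =>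
    ih _ (lt_of_not_ge fun h => hlt.ne (Subgroup.eq_of_le_of_card_ge hlt.le h)) B' hn
      (hB.to_le hlt.le) rfl
  by_contra hnot
  have hBS : B ≤ (S : Subgroup G) :=
    (CfsgLib.PCore.le_pCore hBn hB).trans (CfsgLib.PCore.pCore_le_sylow S)
  have hSB : (S : Subgroup G) ≤ Subgroup.normalizer (B : Set G) := fun x _ => by
    rw [Subgroup.normalizer_eq_top B]; trivial
  -- `B` is the normal closure of `B ⊓ Z`
  have hcl : ∀ M : Subgroup G, M.Normal → B ⊓ Z ≤ M → B ≤ M := by
    intro M hM hle
    by_contra hnle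
    apply hnot
    have hlt : M ⊓ B < B := lt_of_le_of_ne inf_le_right fun h => hnle (h ▸ inf_le_left)
    have := small (M ⊓ B) inferInstance hlt
    rwa [inf_assoc, inf_eq_right.mpr hle] at this
  have hBD : B ≤ D := by
    haveI := inf_normal_of_stronglyClosed hD hBS (B := B)
    exact (hcl (B ⊓ D) inferInstance (inf_le_inf_left _ (zj_le e D))).trans inf_le_right
  have hSD : (S : Subgroup G) ≤ Subgroup.normalizer (D : Set G) :=
    le_normalizer_of_stronglyClosed hD
  have hBne : B ≠ ⊥ := by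
    rintro rfl
    apply hnot
    rw [bot_inf_eq]
    infer_instance
  -- the derived subgroup
  have hder : ⁅B, B⁆ < B := by
    haveI : Group.IsNilpotent B := hB.isNilpotent
    haveI : Nontrivial B := (Subgroup.nontrivial_iff_ne_bot B).mpr hBne
    refine lt_of_le_of_ne B.commutator_le_self fun h => ?_
    have h1 : commutator B < ⊤ := IsSolvable.commutator_lt_top_of_nontrivial B
    apply h1.ne
    apply Subgroup.map_injective B.subtype_injective
    rw [Subgroup.map_subtype_commutator, map_subtype_top, h]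
  haveI hKn : (⁅B, B⁆ ⊓ Z).Normal := small _ inferInstance hder
  have hK : ⁅B, B⁆ ≤ ⁅B, B⁆ ⊓ Z := by
    set K := ⁅B, B⁆ ⊓ Z with hKdef
    set q := QuotientGroup.mk' K with hq
    haveI : (B.map q).Normal := hBn.map q (QuotientGroup.mk'_surjective K)
    have h1 : B ≤ (Subgroup.centralizer ((B.map q : Subgroup (G ⧸ K)) : Set (G ⧸ K))).comap q := by
      refine hcl _ inferInstance ?_
      intro x hx
      obtain ⟨hxB, hxZ⟩ := Subgroup.mem_inf.mp hx
      rw [Subgroup.mem_comap, Subgroup.mem_centralizer_iff]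
      rintro _ ⟨y, hy, rfl⟩
      rw [← map_mul, ← map_mul, hq, QuotientGroup.mk'_apply, QuotientGroup.mk'_apply,
        QuotientGroup.eq]
      refine Subgroup.mem_inf.mpr ⟨?_, ?_⟩
      · have := Subgroup.commutator_mem_commutator (inv_mem hxB) (inv_mem hy) (H₁ := B) (H₂ := B)
        simpa [commutatorElement_def, mul_assoc] using this
      · have h2 : y⁻¹ * x * y ∈ Z :=
          inv_conj_mem_of_mem_normalizer (le_normalizer_zj e _ (hBD hy)) hxZ
        have := mul_mem (inv_mem hxZ) h2
        simpa [mul_assoc] using this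
    rw [Subgroup.commutator_le]
    intro x hx y hy
    have h2 : q y * q x = q x * q y := Subgroup.mem_centralizer_iff.mp (h1 hx) (q y) ⟨y, hy, rfl⟩
    have h3 : q ⁅x, y⁆ = 1 := by
      rw [map_commutatorElement, commutatorElement_eq_one_iff_mul_comm]
      exact h2.symm
    exact (QuotientGroup.eq_one_iff _).mp h3
  have hB'Z : ⁅B, B⁆ ≤ Z := hK.trans inf_le_right
  -- a maximal member normalized by `B`
  obtain ⟨A₀, hA₀⟩ := exists_isMaxElemIn e D
  obtain ⟨A₁, hA₁, hBA₁⟩ : ∃ A, IsMaxElemIn e D A ∧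
      B ≤ Subgroup.normalizer (A : Set G) := by
    by_cases h : B ≤ A₀
    · exact ⟨A₀, hA₀, h.trans Subgroup.le_normalizer⟩
    · obtain ⟨A, h1, -, -, h4⟩ := exists_maxElemIn_normalized S.isPGroup' hD.1
        hSD hBS hSB hA₀ (hB'Z.trans (zj_le_of_isMaxElemIn hA₀))
        (fun h2 => absurd h2 hp) he h
      exact ⟨A, h1, h4⟩
  set L := D ⊓ stabD p B with hL
  have hstB := hst B hB
  have hA₁L : A₁ ≤ L := le_inf hA₁.le (by haveI := hA₁.elem.1; exact le_stabD_of_normalizes hstB hBA₁)
  have hZL : Z ≤ zj e L := zj_le_zj inf_le_left hA₁ hA₁L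
  -- `B ⊓ zj L` is normal, hence contains `B`
  have hXn : (B ⊓ zj e L).Normal := by
    rw [← Subgroup.normalizer_eq_top_iff, eq_top_iff, ← centralizer_sup_normalizer_stabD B S]
    refine sup_le ?_ ?_
    · intro c hc
      refine Subgroup.mem_normalizer_iff.mpr fun x => ?_
      constructor
      · intro hx
        rwa [show c * x * c⁻¹ = x by
          rw [← Subgroup.mem_centralizer_iff.mp hc x hx.1, mul_inv_cancel_right]]
      · intro hx
        have h1 : c * x * c⁻¹ ∈ B := hx.1
        have h2 := Subgroup.mem_centralizer_iff.mp hc _ h1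
        have h3 : x = c * x * c⁻¹ := by
          calc x = c⁻¹ * (c * x * c⁻¹ * c) := by group
            _ = c⁻¹ * (c * (c * x * c⁻¹)) := by rw [h2]
            _ = c * x * c⁻¹ := by group
        rwa [h3]
    · intro n hn
      exact CfsgLib.Techniques.mem_normalizer_inf (by rw [Subgroup.normalizer_eq_top B]; trivial)
        (normalizer_le_normalizer_zj e L (normalizer_inf_le_of_stronglyClosed hD hn))
  have hBL : B ≤ zj e L := (hcl _ hXn (inf_le_inf_left B hZL)).trans inf_le_right
  have hBel : Cfsg.IsElementaryAbelian e B := elemAb_of_le (zj_elemAb e L) hBL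
  -- all maximal members lie in `L`
  have hall : ∀ A, IsMaxElemIn e D A → A ≤ L := by
    by_contra h
    push Not at h
    classical
    obtain ⟨A, ⟨hA, hAL⟩, hmax⟩ := Set.exists_max_image
      {A : Subgroup G | IsMaxElemIn e D A ∧ ¬ A ≤ L}
      (fun A => Nat.card (A ⊓ B : Subgroup G)) (Set.toFinite _) h
    haveI := hA.elem.1
    have hnN : ¬ B ≤ Subgroup.normalizer (A : Set G) := fun hN =>
      hAL (le_inf hA.le (le_stabD_of_normalizes hstB hN))
    obtain ⟨A', h1, -, h3, h4, -⟩ := exists_maxElemIn_replacement S.isPGroup' hD.1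
      hSD hBS hSB hA
      (by rw [Subgroup.commutator_self_eq_bot_iff.mpr hBel.1]; exact bot_le)
      (fun h2 => absurd h2 hp) he hnN
    have hA'L : A' ≤ L := by
      by_contra h'
      exact h3.ne (Subgroup.eq_of_le_of_card_ge h3.le (hmax A' ⟨h1, h'⟩))
    refine h4.ne (inf_eq_right.mpr (hBL.trans (zj_le_of_isMaxElemIn ?_)))
    exact h1.restrict inf_le_left hA'L
  apply hnot
  have heq : Z = zj e L := by
    refine le_antisymm hZL ?_
    rw [hZ, zj_eq_sInf e D]
    refine le_sInf fun A hA => zj_le_of_isMaxElemIn ?_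
    exact hA.restrict inf_le_left (hall A hA)
  rw [heq, inf_eq_left.mpr hBL]
  exact hBn

/-- Glauberman's `ZJ` theorem for a strongly closed subgroup. -/
theorem zjClosed_normal (hp : p ≠ 2) (he : e = 0 ∨ e = p)
    (hc : Subgroup.centralizer (Cfsg.pCore p G : Set G) ≤ Cfsg.pCore p G)
    (hst : ∀ (P : Subgroup G) [P.Normal], IsPGroup p P → Cfsg.IsPStableOn p P) (S : Sylow p G)
    {D : Subgroup G} (hD : Cfsg.IsStronglyClosed D (S : Subgroup G)) : (zj e D).Normal := by
  have hle : zj e D ≤ Cfsg.pCore p G := by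
    haveI := (zj_elemAb e D).1
    have hOS := CfsgLib.PCore.pCore_le_sylow S
    refine (le_stabD_of_normalizes (hst _ CfsgLib.PCore.pCore_isPGroup)
      (hOS.trans ((le_normalizer_of_stronglyClosed hD).trans (normalizer_le_normalizer_zj e _)))).trans ?_
    exact CfsgLib.PCore.le_pCore (stabD_normal p _)
      (stabD_isPGroup (CfsgLib.PCore.pCore_isPGroup.to_le hc))
  have h := inf_zjClosed_normal hp he hst S hD (Cfsg.pCore p G) CfsgLib.PCore.pCore_isPGroup
  rwa [inf_eq_right.mpr hle] at h

end ZJ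

section Complement

universe u

variable {p : ℕ} [hp : Fact p.Prime]

set_option maxHeartbeats 1000000 in
/-- The induction. -/
theorem hasNormalPComplement_zjClosed_aux (hp2 : p ≠ 2) {e : ℕ} (he : e = 0 ∨ e = p) :
    ∀ (n : ℕ) {G : Type u} [Group G] [Finite G],
    Nat.card G = n → ∀ (P : Sylow p G) (D : Subgroup G), Cfsg.IsStronglyClosed D (P : Subgroup G) →
      Cfsg.HasNormalPComplement p (Subgroup.normalizer (zj e D : Set G)) →
      Cfsg.HasNormalPComplement p G := by
  intro n
  induction n using Nat.strong_induction_on with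
  | _ n IH =>
  intro G _ _ hn P D hD hP
  subst hn
  by_contra hno
  have hDp : IsPGroup p D := P.isPGroup'.to_le hD.1
  have htop0 : Subgroup.normalizer (zj e D : Set G) ≠ ⊤ := fun h => hno
    (Transfer.hasNormalPComplement_of_surjective
      (Subgroup.normalizer (zj e D : Set G)).subtype (fun x => ⟨⟨x, h ▸ Subgroup.mem_top x⟩, rfl⟩) hP)
  have hD0 : D ≠ ⊥ := fun h => htop0 (Subgroup.normalizer_eq_top_iff.2 (by
    rw [le_bot_iff.1 ((zj_le e D).trans h.le)]; infer_instance))
  -- proper subgroups whose functor normaliser is good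
  have hsub : ∀ H : Subgroup G, H ≠ ⊤ → ∀ (S : Sylow p H) (E : Subgroup H),
      Cfsg.IsStronglyClosed E (S : Subgroup H) →
      Cfsg.HasNormalPComplement p (Subgroup.normalizer (zj e (E.map H.subtype) : Set G)) →
      Cfsg.HasNormalPComplement p H := by
    intro H hH S E hE h
    refine IH (Nat.card H) (lt_of_le_of_ne (Subgroup.card_le_card_group H) fun h' =>
      hH (Subgroup.eq_top_of_card_eq H h')) rfl S E hE ?_
    rw [zj_map H.subtype_injective] at h
    refine Transfer.hasNormalPComplement_of_injective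
      ((H.subtype.comp (Subgroup.normalizer (zj e E : Set H)).subtype).codRestrict
        (Subgroup.normalizer (((zj e E).map H.subtype : Subgroup G) : Set G))
        fun x => ZJComp.normalizer_map_le H.subtype _ (Subgroup.mem_map_of_mem H.subtype x.2)) ?_ h
    intro x y hxy
    have h0 := congrArg Subtype.val hxy
    have h' : ((x : H) : G) = ((y : H) : G) := h0
    exact Subtype.ext (Subtype.ext h')
  -- a proper subgroup containing `P`
  have hsubP : ∀ H : Subgroup G, (P : Subgroup G) ≤ H → H ≠ ⊤ → Cfsg.HasNormalPComplement p H := by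
    intro H hle hH
    refine hsub H hH (P.subtype hle) (D.subgroupOf H) ⟨Subgroup.comap_mono hD.1,
      fun x hx g hg => hD.2 x hx g hg⟩ ?_
    rwa [Subgroup.map_subgroupOf_eq_of_le (hD.1.trans hle)]
  -- some nontrivial `p`-subgroup is normal
  have hOne : Cfsg.pCore p G ≠ ⊥ := by
    classical
    have hex : ∃ X : Subgroup G, IsPGroup p X ∧ X ≠ ⊥ ∧
        ¬ Cfsg.HasNormalPComplement p (Subgroup.normalizer (X : Set G)) := by
      by_contra hall
      push Not at hall
      refine hno (Transfer.hasNormalPComplement_of_frobeniusCond fun Q hQ g hg hc => ?_)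
      by_cases hQ0 : Q = ⊥
      · subst hQ0
        rw [Subgroup.mem_centralizer_iff]
        intro x hx
        rw [Subgroup.coe_bot, Set.mem_singleton_iff] at hx
        simp [hx]
      · have h1 := Transfer.frobeniusCond_of_hasNormalPComplement (hall Q hQ hQ0)
          (Q.subgroupOf (Subgroup.normalizer (Q : Set G))) (hQ.comap_subtype) ⟨g, hg⟩
          (by rw [Subgroup.mem_normalizer_iff]; exact fun x => Subgroup.mem_normalizer_iff.1 hg x)
          (by rwa [Subgroup.orderOf_mk])
        rw [Subgroup.mem_centralizer_iff] at h1 ⊢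
        intro x hx
        exact congrArg Subtype.val (h1 ⟨x, Subgroup.le_normalizer hx⟩ hx)
    obtain ⟨X, ⟨hXp, hX0, hXno⟩, hmax⟩ := Set.exists_max_image
      {X : Subgroup G | IsPGroup p X ∧ X ≠ ⊥ ∧
        ¬ Cfsg.HasNormalPComplement p (Subgroup.normalizer (X : Set G))}
      (fun X => (Nat.card (Subgroup.normalizer (X : Set G))).factorization p) (Set.toFinite _) hex
    let N := Subgroup.normalizer (X : Set G)
    by_cases hN : N = ⊤
    · intro h0
      exact hX0 (le_bot_iff.1 (h0 ▸ PCore.le_pCore (Subgroup.normalizer_eq_top_iff.1 hN) hXp))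
    exfalso
    obtain ⟨Q, hXQ⟩ := hXp.exists_le_sylow
    obtain ⟨g, rfl⟩ := MulAction.exists_smul_eq G P Q
    obtain ⟨d, hdD, hdC, hd1⟩ : ∃ d ∈ D.map (MulAut.conj g : G →* G),
        (∀ y ∈ ((g • P : Sylow p G) : Subgroup G), y * d = d * y) ∧ d ≠ 1 := by
      haveI : Group.IsNilpotent (P : Subgroup G) := P.isPGroup'.isNilpotent
      haveI : (D.subgroupOf (P : Subgroup G)).Normal :=
        Subgroup.normal_subgroupOf_of_le_normalizer (le_normalizer_of_stronglyClosed hD)
      obtain ⟨d, hd, hdc, hd1⟩ := CfsgLib.Coprime39.exists_central_mem (D.subgroupOf (P : Subgroup G))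
        (by rw [Ne, Subgroup.subgroupOf_eq_bot, disjoint_iff, inf_eq_left.2 hD.1]; exact hD0)
      refine ⟨g * d * g⁻¹, ⟨d, hd, rfl⟩, ?_, fun h => hd1 ?_⟩
      · intro y hy
        rw [Sylow.coe_subgroup_smul] at hy
        obtain ⟨y, hy', rfl⟩ := hy
        have h1 : y * (d : G) = d * y := congrArg Subtype.val (Subgroup.mem_center_iff.1 hdc ⟨y, hy'⟩)
        simp only [MulDistribMulAction.toMonoidEnd_apply, MulDistribMulAction.toMonoidHom_apply,
          MulAut.smul_def, MulAut.conj_apply]
        calc g * y * g⁻¹ * (g * d * g⁻¹) = g * (y * d) * g⁻¹ := by group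
          _ = g * (d * y) * g⁻¹ := by rw [h1]
          _ = g * d * g⁻¹ * (g * y * g⁻¹) := by group
      · exact Subtype.ext (conj_eq_one_iff.1 h)
    have hdQ : d ∈ ((g • P : Sylow p G) : Subgroup G) := by
      rw [Sylow.coe_subgroup_smul]
      exact Subgroup.map_mono hD.1 hdD
    have hdN : d ∈ N := Subgroup.mem_normalizer_iff.2 fun x => ⟨fun hx => by
      rwa [← hdC x (hXQ hx), mul_inv_cancel_right], fun hx => by
      have h1 := hdC _ (hXQ hx)
      have h2 : d * x * d⁻¹ = x := by
        calc d * x * d⁻¹ = d⁻¹ * (d * (d * x * d⁻¹)) := by group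
          _ = d⁻¹ * (d * x * d⁻¹ * d) := by rw [h1]
          _ = x := by group
      rwa [h2] at hx⟩
    obtain ⟨S, hS⟩ := ((g • P).isPGroup'.comap_subtype (K := N)).exists_le_sylow
    let S' := (S : Subgroup N).map N.subtype
    have hdS' : d ∈ S' := ⟨⟨d, hdN⟩, hS hdQ, rfl⟩
    have hS'p : IsPGroup p S' := S.isPGroup'.map _
    have hS'card : Nat.card S' = p ^ (Nat.card N).factorization p := by
      rw [Subgroup.card_map_of_injective N.subtype_injective]; exact S.card_eq_multiplicity
    obtain ⟨R, hR⟩ := hS'p.exists_le_sylow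
    obtain ⟨h, rfl⟩ := MulAction.exists_smul_eq G P R
    have hDh : Cfsg.IsStronglyClosed (D.map (MulAut.conj h : G →* G)) ((h • P : Sylow p G) : Subgroup G) :=
      stronglyClosed_conj hD h
    set Dh := D.map (MulAut.conj h : G →* G) with hDhdef
    have hdDh : d ∈ Dh := by
      obtain ⟨y, hy, hyd⟩ := hdD
      have hdR : d ∈ ((h • P : Sylow p G) : Subgroup G) := hR hdS'
      rw [Sylow.coe_subgroup_smul] at hdR
      obtain ⟨w, hw, hwd⟩ := hdR
      refine ⟨w, ?_, hwd⟩
      have e : w = (h⁻¹ * g) * y * (h⁻¹ * g)⁻¹ := by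
        have h1 : h * w * h⁻¹ = g * y * g⁻¹ := hwd.trans hyd.symm
        calc w = h⁻¹ * (h * w * h⁻¹) * h := by group
          _ = _ := by rw [h1]; group
      rw [e]
      exact hD.2 y hy _ (e ▸ hw)
    let E := (Dh.subgroupOf N) ⊓ (S : Subgroup N)
    have hE : Cfsg.IsStronglyClosed E (S : Subgroup N) := ⟨inf_le_right,
      fun x hx n hn => ⟨hDh.2 x hx.1 n (hR ⟨_, hn, rfl⟩), hn⟩⟩
    have hEmap : E.map N.subtype = Dh ⊓ S' := by
      rw [Subgroup.map_inf _ _ _ N.subtype_injective, Subgroup.subgroupOf_map_subtype, inf_assoc,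
        inf_eq_right.2 (Subgroup.map_subtype_le _)]
    refine hXno (hsub N hN S E hE ?_)
    rw [hEmap]
    rcases eq_or_lt_of_le hR with heq | hlt
    · -- conjugate to the given one
      have hmap : zj e (Dh ⊓ S') = (zj e D).map (MulAut.conj h : G →* G) := by
        rw [inf_eq_left.2 (heq ▸ hDh.1), hDhdef, zj_map (MulAut.conj h).injective]
      rw [hmap, show (MulAut.conj h : G →* G) = (MulAut.conj h).toMonoidHom from rfl,
        ← Subgroup.map_equiv_normalizer_eq]
      exact Transfer.hasNormalPComplement_of_mulEquiv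
        (Subgroup.equivMapOfInjective _ (MulAut.conj h : G →* G) (MulAut.conj h).injective) hP
    · by_contra hbad
      have hES'p : IsPGroup p (Dh ⊓ S' : Subgroup G) := hS'p.to_le inf_le_right
      have hES'0 : Dh ⊓ S' ≠ ⊥ := fun h0 => hd1 (by
        have : d ∈ (⊥ : Subgroup G) := h0 ▸ ⟨hdDh, hdS'⟩
        exact Subgroup.mem_bot.1 this)
      have hZ0 : zj e (Dh ⊓ S') ≠ ⊥ := ZJComp.zj_ne_bot he hES'p hES'0
      have h3 := hmax (zj e (Dh ⊓ S')) ⟨hES'p.to_le (zj_le e _), hZ0, hbad⟩
      have hRnc : NormalizerCondition ((h • P : Sylow p G) : Subgroup G) :=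
        haveI := (h • P).isPGroup'.isNilpotent
        Group.normalizerCondition_of_isNilpotent
      have hne : S'.subgroupOf ((h • P : Sylow p G) : Subgroup G) < ⊤ := by
        rw [lt_top_iff_ne_top, Ne, Subgroup.subgroupOf_eq_top]
        exact fun h => hlt.not_ge h
      let T := (Subgroup.normalizer (S'.subgroupOf ((h • P : Sylow p G) : Subgroup G) : Set ((h • P : Sylow p G) : Subgroup G))).map
        ((h • P : Sylow p G) : Subgroup G).subtype
      have hT : T ≤ Subgroup.normalizer (zj e (Dh ⊓ S') : Set G) := by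
        intro t ht
        have htS : t ∈ Subgroup.normalizer (S' : Set G) := by
          have := ZJComp.normalizer_map_le ((h • P : Sylow p G) : Subgroup G).subtype _ ht
          rwa [Subgroup.map_subgroupOf_eq_of_le hR] at this
        have htD : t ∈ Subgroup.normalizer (Dh : Set G) :=
          le_normalizer_of_stronglyClosed hDh (Subgroup.map_subtype_le _ ht)
        exact normalizer_le_normalizer_zj e _ (CfsgLib.Techniques.mem_normalizer_inf htD htS)
      have hcard : Nat.card S' < Nat.card T := by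
        have h4 := hRnc _ hne
        have h5 : (S'.subgroupOf ((h • P : Sylow p G) : Subgroup G)).map ((h • P : Sylow p G) : Subgroup G).subtype < T :=
          Subgroup.map_subtype_lt_map_subtype.2 h4
        rw [Subgroup.map_subgroupOf_eq_of_le hR] at h5
        exact lt_of_not_ge fun h => h5.ne (Subgroup.eq_of_le_of_card_ge h5.le h)
      have := ZJComp.factorization_card_lt hS'p hS'card ((h • P).isPGroup'.to_le (Subgroup.map_subtype_le _))
        hT hcard
      exact absurd h3 (by exact this.not_ge)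
  -- `O_{p'}` is trivial
  have hcore : Cfsg.pPrimeCore p G = ⊥ := by
    by_contra hK
    have hKc : (Nat.card (Cfsg.pPrimeCore p G)).Coprime p := PCore.pPrimeCore_coprime
    let q := QuotientGroup.mk' (Cfsg.pPrimeCore p G)
    have hqs : Function.Surjective q := QuotientGroup.mk'_surjective _
    refine hno (ZJComp.hasNormalPComplement_of_quotient _ hKc ?_)
    refine IH (Nat.card (G ⧸ Cfsg.pPrimeCore p G)) ?_ rfl (P.mapSurjective hqs) (D.map q) ?_ ?_
    · have h1 := (Cfsg.pPrimeCore p G).card_mul_index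
      have h2 := (Subgroup.one_lt_card_iff_ne_bot _).2 hK
      have h3 : 0 < Nat.card (G ⧸ Cfsg.pPrimeCore p G) := Nat.card_pos
      rw [Subgroup.index] at h1
      nlinarith
    · rw [Sylow.coe_mapSurjective]
      exact stronglyClosed_map_of_coprime hD hKc
    · have hinj : Function.Injective (q.comp D.subtype) := by
        rw [injective_iff_map_eq_one]
        intro x hx
        exact Subtype.ext (eq_one_of_mem_pGroup_of_mem_coprime hDp hKc x.2
          ((QuotientGroup.eq_one_iff (x : G)).mp hx))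
      rw [zj_map_of_injOn q _ hinj]
      exact Transfer.hasNormalPComplement_of_surjective _
        (normalizerMap_surjective hKc (hDp.to_le (zj_le e _))) hP
  let O := Cfsg.pCore p G
  haveI : O.Normal := Cfsg.pCore_normal p G
  have hOp : IsPGroup p O := PCore.pCore_isPGroup
  have hOP : O ≤ (P : Subgroup G) := PCore.pCore_le_sylow P
  let q := QuotientGroup.mk' O
  have hqs : Function.Surjective q := QuotientGroup.mk'_surjective _
  -- `G / O` has a normal `p`-complement
  have hbar : Cfsg.HasNormalPComplement p (G ⧸ O) := by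
    let Pb := P.mapSurjective hqs
    have hDb : Cfsg.IsStronglyClosed (D.map q) (Pb : Subgroup (G ⧸ O)) := by
      rw [Sylow.coe_mapSurjective]
      exact stronglyClosed_map_of_le hD hOP
    have hDb0 : D.map q ≠ ⊥ := by
      intro h0
      rw [Subgroup.map_eq_bot_iff, QuotientGroup.ker_mk'] at h0
      haveI : D.Normal := by
        have := inf_normal_of_stronglyClosed hD hOP
        rwa [inf_eq_right.2 h0] at this
      refine htop0 (top_le_iff.1 ?_)
      rw [← Subgroup.normalizer_eq_top D]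
      exact normalizer_le_normalizer_zj e D
    refine IH (Nat.card (G ⧸ O)) ?_ rfl Pb (D.map q) hDb ?_
    · have h1 := O.card_mul_index
      have h2 := (Subgroup.one_lt_card_iff_ne_bot O).2 hOne
      have h3 : 0 < Nat.card (G ⧸ O) := Nat.card_pos
      rw [Subgroup.index] at h1
      nlinarith
    let Nb := Subgroup.normalizer (zj e (D.map q) : Set (G ⧸ O))
    let L := Nb.comap q
    have hPL : (P : Subgroup G) ≤ L := by
      refine Subgroup.map_le_iff_le_comap.1 ?_
      rw [← Sylow.coe_mapSurjective hqs]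
      exact (le_normalizer_of_stronglyClosed hDb).trans (normalizer_le_normalizer_zj e _)
    have hL : L ≠ ⊤ := by
      intro h0
      have h1 : Nb = ⊤ := by
        rw [← Subgroup.map_comap_eq_self_of_surjective hqs Nb, show Nb.comap q = ⊤ from h0,
          Subgroup.map_top_of_surjective q hqs]
      refine ZJComp.zj_ne_bot he (hDp.map q) hDb0 (le_bot_iff.1 ?_)
      refine le_trans (PCore.le_pCore (p := p) (Subgroup.normalizer_eq_top_iff.1 h1)
        ((hDp.map q).to_le (zj_le e _))) ?_
      exact (PCore.pCore_quotient_pCore).le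
    have hLc := hsubP L hPL hL
    refine Transfer.hasNormalPComplement_of_surjective
      ((q.comp L.subtype).codRestrict Nb fun x => x.2) ?_ hLc
    rintro ⟨y, hy⟩
    obtain ⟨x, rfl⟩ := hqs y
    exact ⟨⟨x, hy⟩, rfl⟩
  haveI : (Cfsg.pResidual p (G ⧸ O)).Normal := Transfer.pResidual_normal
  let Kb := Cfsg.pResidual p (G ⧸ O)
  have hKb : ¬ p ∣ Nat.card Kb := Transfer.hasNormalPComplement_iff.1 hbar
  let M := Kb.comap q
  have hOM : O ≤ M := by
    intro x hx
    show q x ∈ Kb
    rw [show q x = 1 from (QuotientGroup.eq_one_iff x).2 hx]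
    exact one_mem _
  have hidx : (O.relIndex M).Coprime p := by
    rw [← PCore.card_map_mk', Subgroup.map_comap_eq_self_of_surjective hqs]
    exact PCore.coprime_of_not_dvd_card hKb
  have hqM : IsPGroup p (G ⧸ M) := by
    intro x
    induction x using QuotientGroup.induction_on with
    | H y =>
      obtain ⟨k, hk⟩ := Transfer.exists_pow_mem_pResidual (p := p) (q y)
      refine ⟨k, ?_⟩
      rw [← QuotientGroup.mk_pow, QuotientGroup.eq_one_iff]
      show q (y ^ p ^ k) ∈ Kb
      rwa [map_pow]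
  -- `G` is `p`-solvable
  have hsolv : Cfsg.IsPSolvable p G := by
    rw [PCore.isPSolvable_iff_upperPSeries]
    refine ⟨0 + 2 + 2 + 2, top_le_iff.1 ?_⟩
    refine PCore.le_upperPSeries_add_two (A := M) (PCore.le_upperPSeries_add_two (A := O)
      (PCore.le_upperPSeries_add_two (A := ⊥) bot_le (Or.inl ?_)) (Or.inr hidx)) (Or.inl ?_)
    · rw [Subgroup.relIndex_bot_left]; exact IsPGroup.iff_card.1 hOp
    · rw [Subgroup.relIndex_top_right, Subgroup.index]
      exact IsPGroup.iff_card.1 hqM
  have hc : Subgroup.centralizer (O : Set G) ≤ O := PCore.centralizer_pCore_le hsolv hcore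
  -- `P` is maximal
  have hPmax : ∀ L : Subgroup G, (P : Subgroup G) ≤ L → L ≠ ⊤ → L = P := by
    intro L hPL hL
    have hLc := Transfer.hasNormalPComplement_iff.1 (hsubP L hPL hL)
    haveI : (Cfsg.pResidual p L).Normal := Transfer.pResidual_normal
    have hd : Disjoint (Cfsg.pResidual p L) (O.subgroupOf L) := by
      rw [disjoint_iff]
      exact PCore.eq_bot_of_isPGroup_coprime
        (hOp.comap_subtype.to_le inf_le_right)
        ((PCore.coprime_of_not_dvd_card hLc).coprime_dvd_left (Subgroup.card_dvd_of_le inf_le_left))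
    have hbot : Cfsg.pResidual p L = ⊥ := by
      rw [Subgroup.eq_bot_iff_forall]
      intro x hx
      have hxO : x ∈ O.subgroupOf L := by
        refine hc ?_
        rw [Subgroup.mem_centralizer_iff]
        intro y hy
        have := Subgroup.commute_of_normal_of_disjoint _ _ inferInstance inferInstance hd x
          ⟨y, hPL (hOP hy)⟩ hx hy
        exact (congrArg Subtype.val this).symm
      exact Subgroup.disjoint_def.1 hd hx hxO
    have hLp : IsPGroup p L := by
      intro x
      obtain ⟨k, hk⟩ := Transfer.exists_pow_mem_pResidual (p := p) x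
      exact ⟨k, by rwa [hbot, Subgroup.mem_bot] at hk⟩
    exact P.3 hLp hPL
  -- the complement is abelian modulo `O`
  have hab : ⁅M, M⁆ ≤ O := by
    let Pb := P.mapSurjective hqs
    have hover : ∀ R : Subgroup (G ⧸ O), (Nat.card R).Coprime p →
        (Pb : Subgroup (G ⧸ O)) ⊔ R ≠ ⊤ → R = ⊥ := by
      intro R hRc hRt
      have h1 := hPmax (((Pb : Subgroup (G ⧸ O)) ⊔ R).comap q)
        ((Subgroup.map_le_iff_le_comap.1 (Sylow.coe_mapSurjective hqs P).ge).trans
          (Subgroup.comap_mono le_sup_left))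
        (fun h => hRt (by
          rw [← Subgroup.map_comap_eq_self_of_surjective hqs ((Pb : Subgroup (G ⧸ O)) ⊔ R), h,
            Subgroup.map_top_of_surjective q hqs]))
      have h2 := congrArg (Subgroup.map q) h1
      rw [Subgroup.map_comap_eq_self_of_surjective hqs] at h2
      refine PCore.eq_bot_of_isPGroup_coprime (Pb.isPGroup'.to_le ?_) hRc
      rw [Sylow.coe_mapSurjective]
      exact h2 ▸ le_sup_right
    have hKbne : Kb ≠ ⊥ := by
      intro h0
      refine hno (Transfer.hasNormalPComplement_of_coprime ⊥ (by simp [hp.out.ne_one]) ?_)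
      refine IsPGroup.of_equiv ?_ QuotientGroup.quotientBot.symm
      intro x
      obtain ⟨i, hi⟩ := Transfer.exists_pow_mem_pResidual (p := p) (q x)
      rw [show Cfsg.pResidual p (G ⧸ O) = ⊥ from h0, Subgroup.mem_bot, ← map_pow] at hi
      obtain ⟨j, hj⟩ := hOp ⟨_, (QuotientGroup.eq_one_iff _).1 hi⟩
      exact ⟨i + j, by rw [pow_add, pow_mul]; simpa using congrArg Subtype.val hj⟩
    obtain ⟨r, hr, hrd⟩ : ∃ r, r.Prime ∧ r ∣ Nat.card Kb :=
      ⟨_, Nat.minFac_prime ((Subgroup.one_lt_card_iff_ne_bot Kb).2 hKbne).ne', Nat.minFac_dvd _⟩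
    haveI : Fact r.Prime := ⟨hr⟩
    have hcop : (Nat.card (Pb : Subgroup (G ⧸ O))).Coprime (Nat.card Kb) := by
      obtain ⟨i, hi⟩ := Pb.isPGroup'.exists_card_eq
      rw [hi]; exact ((hp.out.coprime_iff_not_dvd).2 hKb).pow_left i
    have hsolvP : Group.IsSolvable (Pb : Subgroup (G ⧸ O)) := by
      haveI := Pb.isPGroup'.isNilpotent; infer_instance
    obtain ⟨R, hR⟩ := Coprime.exists_invariant_sylow (Pb : Subgroup (G ⧸ O)) Kb
      (le_top.trans (Subgroup.normalizer_eq_top Kb).ge) hcop (Or.inl hsolvP) r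
    let R' := (R : Subgroup Kb).map Kb.subtype
    have hRc : (Nat.card R').Coprime p :=
      (PCore.coprime_of_not_dvd_card hKb).coprime_dvd_left
        (Subgroup.card_dvd_of_le (Subgroup.map_subtype_le _))
    have hR0 : R' ≠ ⊥ := by
      rw [Ne, Subgroup.map_eq_bot_iff_of_injective _ Kb.subtype_injective]
      exact R.ne_bot_of_dvd_card hrd
    have htop : (Pb : Subgroup (G ⧸ O)) ⊔ R' = ⊤ := by
      by_contra h; exact hR0 (hover R' hRc h)
    haveI hRn : R'.Normal := by
      rw [← Subgroup.normalizer_eq_top_iff, ← top_le_iff, ← htop, sup_le_iff]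
      exact ⟨hR, Subgroup.le_normalizer⟩
    have hquot : ∀ R₀ : Subgroup (G ⧸ O), R₀.Normal → (Pb : Subgroup (G ⧸ O)) ⊔ R₀ = ⊤ →
        Kb ≤ R₀ := by
      intro R₀ hn' ht
      haveI := hn'
      refine Transfer.pResidual_le_of_isPGroup_quotient R₀ ?_
      refine IsPGroup.of_surjective Pb.isPGroup'
        ((QuotientGroup.mk' R₀).comp (Pb : Subgroup (G ⧸ O)).subtype) ?_
      intro y
      obtain ⟨y, rfl⟩ := QuotientGroup.mk'_surjective R₀ y
      have hy : y ∈ (Pb : Subgroup (G ⧸ O)) ⊔ R₀ := by rw [ht]; exact Subgroup.mem_top y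
      rw [← SetLike.mem_coe, Subgroup.mul_normal] at hy
      obtain ⟨a, ha, b, hb, rfl⟩ := hy
      exact ⟨⟨a, ha⟩, by simp [(QuotientGroup.eq_one_iff b).2 hb]⟩
    have hKbr : IsPGroup r Kb := (R.isPGroup'.map Kb.subtype).to_le (hquot R' hRn htop)
    haveI := hKbr.isNilpotent
    haveI : Nontrivial Kb := (Subgroup.nontrivial_iff_ne_bot Kb).2 hKbne
    have hcomm : ⁅Kb, Kb⁆ = ⊥ := by
      refine hover _ ((PCore.coprime_of_not_dvd_card hKb).coprime_dvd_left
        (Subgroup.card_dvd_of_le (Kb.commutator_le_self))) fun ht => ?_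
      have h1 : Kb ≤ ⁅Kb, Kb⁆ := hquot _ inferInstance ht
      refine (Group.IsSolvable.commutator_lt_top_of_nontrivial Kb).ne ?_
      apply Subgroup.map_injective Kb.subtype_injective
      rw [Subgroup.map_subtype_commutator, ← MonoidHom.range_eq_map, Subgroup.range_subtype]
      exact le_antisymm Kb.commutator_le_self h1
    have h2 : (⁅M, M⁆).map q = ⊥ := by
      rw [Subgroup.map_commutator, Subgroup.map_comap_eq_self_of_surjective hqs, hcomm]
    rwa [Subgroup.map_eq_bot_iff, QuotientGroup.ker_mk'] at h2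
  refine htop0 (Subgroup.normalizer_eq_top_iff.2 (zjClosed_normal hp2 he hc (fun V _ hV => ?_) P hD))
  exact ZJComp.isPStableOn_of_abelian_quotient hp2 O M hOp hab hidx hqM V
    (PCore.le_pCore inferInstance hV)

end Complement

end CfsgLib.LocalEvenSix.ZJClosed
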