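import Cfsg.Agent.Lib.PLocal.SectionStable
import Cfsg.Agent.Lib.LocalEven.Qd
import Cfsg.Agent.Classical.SLGen
import Cfsg.Agent.Lib.LocalEven.InvolvesFour
import Cfsg.Prelude.Def_LocalEven

/-!
# A failure of `p`-stability makes `Qd(p)` involved
-/

set_option autoImplicit false
set_option linter.unusedSectionVars false
set_option linter.style.haveILetI false

open scoped MatrixGroups commutatorElement

namespace CfsgLib.LocalEvenSix.QdStable

open CfsgLib CfsgLib.QuadPair CfsgLib.SL2Unipotent Matrix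

universe u v w

/-- The matrices of `SL₂`. -/
def mat (K : Type*) [CommRing K] : SL(2, K) →* Matrix (Fin 2) (Fin 2) K where
  toFun g := g.1
  map_one' := rfl
  map_mul' _ _ := rfl

/-- Every linear relation among the values of `ρ` holds among those of `π`. -/
def KerLE (k : Type*) [Field k] {H A B : Type*} [Group H] [Ring A] [Algebra k A] [Ring B]
    [Algebra k B] (ρ : H →* A) (π : H →* B) : Prop :=
  ∀ x : MonoidAlgebra k H, MonoidAlgebra.lift k A H ρ x = 0 → MonoidAlgebra.lift k B H π x = 0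

theorem lift_mapDomain {k : Type*} [Field k] {H H' C : Type*} [Group H] [Group H'] [Ring C]
    [Algebra k C] (σ : H →* C) (f : H' →* H) (y : MonoidAlgebra k H') :
    MonoidAlgebra.lift k C H σ (MonoidAlgebra.mapDomainAlgHom k k f y) =
      MonoidAlgebra.lift k C H' (σ.comp f) y := by
  induction y using MonoidAlgebra.induction_on with
  | of m => simp [MonoidAlgebra.of_apply]
  | add a b ha hb => rw [map_add, map_add, map_add, ha, hb]
  | smul r a ha => rw [map_smul, map_smul, map_smul, ha]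

/-- Evaluation commutes with extension of scalars. -/
theorem lift_mapRingHom {k L : Type*} [Field k] [Field L] {H A B : Type*} [Group H] [Ring A]
    [Algebra k A] [Ring B] [Algebra L B] (ι : k →+* L) (ρ : H →* A) (e : A →+* B)
    (he : ∀ r : k, e (algebraMap k A r) = algebraMap L B (ι r)) (x : MonoidAlgebra k H) :
    MonoidAlgebra.lift L B H (e.toMonoidHom.comp ρ) (MonoidAlgebra.mapRingHom H ι x) =
      e (MonoidAlgebra.lift k A H ρ x) := by
  suffices h : ((MonoidAlgebra.lift L B H (e.toMonoidHom.comp ρ)).toRingHom.comp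
      (MonoidAlgebra.mapRingHom H ι)) = e.comp (MonoidAlgebra.lift k A H ρ).toRingHom by
    exact congrArg (fun f : MonoidAlgebra k H →+* B => f x) h
  refine MonoidAlgebra.ringHom_ext (fun r => ?_) (fun m => ?_)
  · simp [Algebra.smul_def, he]
  · simp

theorem KerLE.comp {k : Type*} [Field k] {H H' A B : Type*} [Group H] [Group H'] [Ring A] [Algebra k A]
    [Ring B] [Algebra k B] {ρ : H →* A} {π : H →* B} (h : KerLE k ρ π) (f : H' →* H) :
    KerLE k (ρ.comp f) (π.comp f) := by
  intro x hx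
  rw [← lift_mapDomain] at hx ⊢
  exact h _ hx

section Closed

variable {K : Type u} [Field K] [IsAlgClosed K] {H : Type w} [Group H] [Finite H] {a b : H}

/-- An element which is not unipotent survives in a plane constituent. -/
theorem exists_plane {W : Type v} [AddCommGroup W] [Module K W]
    [FiniteDimensional K W] (ρ : H →* Module.End K W)
    (hgen : Subgroup.closure ({a, b} : Set H) = ⊤)
    (ha : (ρ a - 1) * (ρ a - 1) = 0) (hb : (ρ b - 1) * (ρ b - 1) = 0) {h : H}
    (hh : ¬ IsNilpotent (ρ h - 1)) :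
    ∃ (μ : K) (φ : H →* SL(2, K)), μ ≠ 0 ∧ φ a = up μ ∧ φ b = low 1 ∧
      KerLE K ρ ((mat K).comp φ) := by
    have hT : ¬ IsNilpotent ((ρ a - 1) * (ρ b - 1)) := fun hT =>
      hh (isNilpotent_sub_one_all ρ hgen ha hb hT h)
    obtain ⟨μ, hμ, v, hv, hTv⟩ := CfsgLib.OddOrder.QuadraticPair.exists_ne_zero_eigen hT
    obtain ⟨φ, ι, hφa, hφb, hι, hinter⟩ := exists_hom_of_eigen ρ hgen ha hb hμ hv hTv
    refine ⟨μ, φ, hμ, hφa, hφb, fun x hx => ?_⟩
    have key : ∀ y : MonoidAlgebra K H, ∀ z, MonoidAlgebra.lift K (Module.End K W) H ρ y (ι z) =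
        ι (MonoidAlgebra.lift K _ H ((mat K).comp φ) y *ᵥ z) := by
      intro y
      induction y using MonoidAlgebra.induction_on with
      | of m => intro z; simp [MonoidAlgebra.of_apply, mat, hinter]
      | add u u' hu hu' =>
        intro z
        rw [map_add, map_add, LinearMap.add_apply, hu, hu', Matrix.add_mulVec, map_add]
      | smul r u hu =>
        intro z
        rw [map_smul, map_smul, LinearMap.smul_apply, hu, Matrix.smul_mulVec, map_smul]
    apply Matrix.ext_of_mulVec_single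
    intro i
    apply hι
    rw [← key, hx, LinearMap.zero_apply, Matrix.zero_mulVec, map_zero]

end Closed

/-- `up 1` and `low 1` generate `SL(2, p)`. -/
theorem closure_up_low (p : ℕ) [Fact p.Prime] :
    Subgroup.closure ({up 1, low 1} : Set SL(2, ZMod p)) = ⊤ := by
  refine Cfsg.Agent.Classical.sl_subgroup_eq_top_of_transvection_mem _ fun i j hij c => ?_
  obtain ⟨m, rfl⟩ : ∃ m : ℕ, (m : ZMod p) = c := ⟨c.val, ZMod.natCast_zmod_val c⟩
  fin_cases i <;> fin_cases j
  · exact absurd rfl hij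
  · convert pow_mem (Subgroup.subset_closure (Set.mem_insert (up (1 : ZMod p)) _)) m using 1
    rw [up_pow, mul_one]
    ext r s
    fin_cases r <;> fin_cases s <;>
      simp [Matrix.SpecialLinearGroup.transvection, Matrix.transvection]
  · convert pow_mem (Subgroup.subset_closure (Set.mem_insert_of_mem (up (1 : ZMod p)) (Set.mem_singleton (low 1)))) m using 1
    rw [low_pow, mul_one]
    ext r s
    fin_cases r <;> fin_cases s <;>
      simp [Matrix.SpecialLinearGroup.transvection, Matrix.transvection]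
  · exact absurd rfl hij

variable {p : ℕ} [hp : Fact p.Prime]

theorem neg_one_ne_one (hp2 : p ≠ 2) : (-1 : SL(2, ZMod p)) ≠ 1 := by
  intro h
  have h1 : (-1 : ZMod p) = 1 := by
    simpa using congrFun (congrFun (congrArg Subtype.val h) 0) 0
  haveI : Fact (2 < p) := ⟨lt_of_le_of_ne hp.out.two_le (Ne.symm hp2)⟩
  exact ZMod.neg_one_ne_one h1

/-- A quadratic pair with a non-unipotent element gives a natural `SL(2, p)`-constituent. -/
theorem exists_natural (hp2 : p ≠ 2) {D : Type u} [Group D] [Finite D] {W : Type v}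
    [AddCommGroup W] [Module (ZMod p) W] [FiniteDimensional (ZMod p) W]
    (ρ : D →* Module.End (ZMod p) W) {a b : D} (hgen : Subgroup.closure ({a, b} : Set D) = ⊤)
    (ha : (ρ a - 1) * (ρ a - 1) = 0) (hb : (ρ b - 1) * (ρ b - 1) = 0) {d : D}
    (hd : ¬ IsNilpotent (ρ d - 1)) :
    ∃ (M : Subgroup D) (f : M →* SL(2, ZMod p)), Function.Surjective f ∧
      KerLE (ZMod p) (ρ.comp M.subtype) ((mat (ZMod p)).comp f) := by
  set K := AlgebraicClosure (ZMod p)
  haveI : CharP K p := charP_of_injective_algebraMap (algebraMap (ZMod p) K).injective p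
  set e := extendEnd (ZMod p) W with he
  have hq : ∀ c : D, (ρ c - 1) * (ρ c - 1) = 0 →
      ((e.toMonoidHom.comp ρ) c - 1) * ((e.toMonoidHom.comp ρ) c - 1) = 0 := by
    intro c hc
    have := congrArg e hc
    rwa [map_mul, map_sub, map_one, map_zero] at this
  obtain ⟨μ, φ, hμ, hφa, hφb, hrel⟩ := exists_plane (e.toMonoidHom.comp ρ) hgen (hq a ha) (hq b hb)
    (h := d) (fun hn => hd (by
      rw [← IsNilpotent.map_iff (extendEnd_injective (ZMod p) W), map_sub, map_one]
      exact hn))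
  -- relations over the prime field
  have hrel' : KerLE (ZMod p) ρ ((mat K).comp φ) := by
    intro x hx
    have h1 := lift_mapRingHom (algebraMap (ZMod p) K) ρ e
      (fun r => extendEnd_algebraMap (ZMod p) W r) x
    rw [hx, map_zero] at h1
    have h2 := lift_mapRingHom (algebraMap (ZMod p) K) ((mat K).comp φ) (RingHom.id _)
      (fun r => IsScalarTower.algebraMap_apply (ZMod p) K (Matrix (Fin 2) (Fin 2) K) r) x
    exact h2.symm.trans (hrel _ h1)
  haveI : Finite φ.range := Finite.of_surjective φ.rangeRestrict φ.rangeRestrict_surjective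
  obtain ⟨ψ, hinj, hr⟩ := PLocal.SLTwo.exists_sl2_le (p := p) (H := φ.range) hp2 hμ
    (show PLocal.SLTwo.upper μ ∈ φ.range from ⟨a, hφa⟩) ⟨b, hφb⟩
  -- `ψ` is natural up to the choice of a basis
  let ρψ : SL(2, ZMod p) →* Module.End K (Fin 2 → K) :=
    (Matrix.toLinAlgEquiv' (R := K) (n := Fin 2)).toMonoidHom.comp ((mat K).comp ψ)
  have hgen' := closure_up_low p
  have hquad : ∀ g : SL(2, ZMod p), g ^ p = 1 → (ρψ g - 1) * (ρψ g - 1) = 0 := by
    intro g hg
    have hn : IsNilpotent (ρψ g - 1) := by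
      have : CharP (Module.End K (Fin 2 → K)) p := charP_of_injective_algebraMap' K p
      refine ⟨p, ?_⟩
      rw [sub_pow_char_of_commute p (Commute.one_right _), one_pow, ← map_pow, hg, map_one, sub_self]
    have h2 := hn.charpoly_eq_X_pow_finrank
    have h3 := LinearMap.aeval_self_charpoly (ρψ g - 1)
    rw [h2] at h3
    simpa [Module.finrank_fintype_fun_eq_card, pow_two] using h3
  have hup : (up (1 : ZMod p)) ^ p = 1 := by
    rw [up_pow, CharP.cast_eq_zero, zero_mul]
    ext r s; fin_cases r <;> fin_cases s <;> simp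
  have hlow : (low (1 : ZMod p)) ^ p = 1 := by
    rw [low_pow, CharP.cast_eq_zero, zero_mul]
    ext r s; fin_cases r <;> fin_cases s <;> simp
  obtain ⟨ν, φ2, hν, h2a, h2b, hrel2⟩ := exists_plane ρψ hgen' (hquad _ hup) (hquad _ hlow)
    (h := -1) (fun hn => by
      obtain ⟨n, hn'⟩ := eq_one_of_isNilpotent_pow (p := p) hn
      rw [← map_pow, Odd.neg_one_pow ((hp.out.odd_of_ne_two hp2).pow)] at hn'
      apply neg_one_ne_one (p := p) hp2
      apply hinj
      rw [map_one]
      apply Subtype.ext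
      apply (Matrix.toLinAlgEquiv' (R := K) (n := Fin 2)).injective
      refine hn'.trans ?_
      exact (map_one _).symm)
  have hν1 : ν = 1 := by
    have hid : up (1 : ZMod p) * (low 1)⁻¹ * up 1 * up 1 =
        (low 1)⁻¹ * (up (1 : ZMod p) * (low 1)⁻¹ * up 1) := by
      ext r s
      fin_cases r <;> fin_cases s <;>
        simp [Matrix.SpecialLinearGroup.coe_inv, Matrix.adjugate_fin_two, Matrix.mul_apply, Fin.sum_univ_two]
    have h := congrArg φ2 hid
    simp only [map_mul, map_inv, h2a, h2b] at h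
    have h01 := congrFun (congrFun (congrArg Subtype.val h) 0) 1
    simp [Matrix.SpecialLinearGroup.coe_inv, Matrix.adjugate_fin_two, Matrix.mul_apply, Fin.sum_univ_two] at h01
    linear_combination -(h01.resolve_right hν)
  set ι := algebraMap (ZMod p) K with hι
  have hφ2 : φ2 = Matrix.SpecialLinearGroup.map ι := by
    refine MonoidHom.eq_of_eqOn_dense hgen' ?_
    rintro g (rfl | rfl)
    · rw [h2a, hν1]; ext r s; fin_cases r <;> fin_cases s <;> simp
    · rw [h2b]; ext r s; fin_cases r <;> fin_cases s <;> simp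
  let eψ := MonoidHom.ofInjective hinj
  let M := ψ.range.comap φ
  let f : M →* SL(2, ZMod p) := eψ.symm.toMonoidHom.comp
    ((φ.comp M.subtype).codRestrict ψ.range fun x => x.2)
  have hψf : ∀ m : M, ψ (f m) = φ m := fun m => by
    exact (MonoidHom.ofInjective_apply hinj).symm.trans
      (congrArg Subtype.val (eψ.apply_symm_apply ⟨φ m, m.2⟩))
  refine ⟨M, f, fun y => ?_, fun x hx => ?_⟩
  · obtain ⟨x, hx⟩ := hr y
    exact ⟨⟨x, ⟨y, hx.symm⟩⟩, hinj (by rw [hψf]; exact hx)⟩
  · have h1 := (hrel'.comp M.subtype) x hx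
    have hfac : ((mat K).comp φ).comp M.subtype = ((mat K).comp ψ).comp f :=
      MonoidHom.ext fun m => congrArg (mat K) (hψf m).symm
    rw [hfac, ← lift_mapDomain] at h1
    rw [← lift_mapDomain]
    set y := MonoidAlgebra.mapDomainAlgHom (ZMod p) (ZMod p) f x
    have h3 := lift_mapRingHom ι ((mat K).comp ψ)
      (Matrix.toLinAlgEquiv' (R := K) (n := Fin 2)).toRingEquiv.toRingHom
      (fun r => by
        rw [IsScalarTower.algebraMap_apply (ZMod p) K (Matrix (Fin 2) (Fin 2) K)]
        exact (Matrix.toLinAlgEquiv' (R := K) (n := Fin 2)).commutes _) y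
    rw [h1, map_zero] at h3
    have h4 := lift_mapRingHom ι (mat (ZMod p)) ι.mapMatrix
      (fun r => by
        simp only [Algebra.algebraMap_eq_smul_one]
        ext i j
        fin_cases i <;> fin_cases j <;> simp) y
    have hfac2 : ι.mapMatrix.toMonoidHom.comp (mat (ZMod p)) = (mat K).comp φ2 := by
      rw [hφ2]; rfl
    rw [hfac2, hrel2 _ h3] at h4
    exact Matrix.map_injective ι.injective (h4.symm.trans (Matrix.map_zero _ (map_zero ι)).symm)

/-- A natural constituent is a section of the module. -/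
theorem exists_natural_section {N : Type u} [Group N] {W : Type v} [AddCommGroup W]
    [Module (ZMod p) W] [Finite W] (ρ : N →* Module.End (ZMod p) W) (f : N →* SL(2, ZMod p))
    (hf : Function.Surjective f) (hk : KerLE (ZMod p) ρ ((mat (ZMod p)).comp f)) :
    ∃ (U : Submodule (ZMod p) W) (hU : ∀ n, ∀ u ∈ U, ρ n u ∈ U)
      (g : U →ₗ[ZMod p] (Fin 2 → ZMod p)), Function.Surjective g ∧
        ∀ (n : N) (u : U), g ⟨ρ n u, hU n u u.2⟩ = (f n).1 *ᵥ g u := by
  classical
  haveI : Fintype W := Fintype.ofFinite W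
  set lW := MonoidAlgebra.lift (ZMod p) (Module.End (ZMod p) W) N ρ with hlW
  set lF := MonoidAlgebra.lift (ZMod p) (Matrix (Fin 2) (Fin 2) (ZMod p)) N ((mat (ZMod p)).comp f)
    with hlF
  have hlFof : ∀ n : N, lF (MonoidAlgebra.of (ZMod p) N n) = (f n).1 := fun n =>
    MonoidAlgebra.lift_of _ n
  have hlWof : ∀ n : N, lW (MonoidAlgebra.of (ZMod p) N n) = ρ n := fun n =>
    MonoidAlgebra.lift_of _ n
  -- a set of vectors whose annihilator survives, but no longer with one more vector
  let P : Finset W → Prop := fun s =>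
    ∃ x, (∀ w ∈ s, lW x w = 0) ∧ lF x ≠ 0
  have hP0 : P ∅ := ⟨MonoidAlgebra.of (ZMod p) N 1, by simp, by
    rw [hlFof, map_one]; exact one_ne_zero⟩
  have hPu : ¬ P Finset.univ := fun ⟨x, hx, hx'⟩ =>
    hx' (hk x (LinearMap.ext fun w => hx w (Finset.mem_univ w)))
  obtain ⟨s, w, hs, hsw⟩ : ∃ s w, P s ∧ ¬ P (insert w s) := by
    by_contra! hcon
    exact hPu (Finset.induction_on (Finset.univ : Finset W) hP0 fun a t _ ht => hcon t a ht)
  obtain ⟨x₀, hx₀, hx₀'⟩ := hs
  obtain ⟨z, hz⟩ : ∃ z, lF x₀ *ᵥ z ≠ 0 := by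
    by_contra! hcon
    exact hx₀' (Matrix.ext_of_mulVec_single fun i => (hcon _).trans (Matrix.zero_mulVec _).symm)
  let L : Submodule (ZMod p) (MonoidAlgebra (ZMod p) N) :=
    { carrier := {x | ∀ v ∈ s, lW x v = 0}
      zero_mem' := fun v _ => by simp
      add_mem' := fun {a b} ha hb v hv => by simp [ha v hv, hb v hv]
      smul_mem' := fun c a ha v hv => by simp [ha v hv] }
  let T : L →ₗ[ZMod p] W := (LinearMap.applyₗ w).comp (lW.toLinearMap.comp L.subtype)
  let Q : L →ₗ[ZMod p] (Fin 2 → ZMod p) :=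
    (LinearMap.applyₗ z).comp ((Matrix.toLin' (R := ZMod p) (m := Fin 2) (n := Fin 2)).toLinearMap.comp
      (lF.toLinearMap.comp L.subtype))
  have hQ : ∀ x : L, Q x = lF x.1 *ᵥ z := fun x => by simp [Q]
  have hT : ∀ x : L, T x = lW x.1 w := fun x => rfl
  have hmove : ∀ (n : N) (x : L), MonoidAlgebra.of (ZMod p) N n * x.1 ∈ L := fun n x v hv => by
    rw [map_mul, Module.End.mul_apply, x.2 v hv, map_zero]
  have hker : LinearMap.ker T ≤ LinearMap.ker Q := by
    intro x hx
    rw [LinearMap.mem_ker, hQ]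
    by_contra hne
    refine hsw ⟨x.1, fun v hv => ?_, fun h0 => hne (by rw [h0, Matrix.zero_mulVec])⟩
    rcases Finset.mem_insert.1 hv with rfl | hv
    · exact hx
    · exact x.2 v hv
  let g : LinearMap.range T →ₗ[ZMod p] (Fin 2 → ZMod p) :=
    (Submodule.liftQ _ Q hker).comp T.quotKerEquivRange.symm.toLinearMap
  have hg : ∀ x : L, g ⟨T x, x, rfl⟩ = Q x := fun x => by
    have : T.quotKerEquivRange.symm ⟨T x, x, rfl⟩ = Submodule.Quotient.mk x :=
      T.quotKerEquivRange.injective (by simp; rfl)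
    simp [g, this]
  have hinv : ∀ n, ∀ u ∈ LinearMap.range T, ρ n u ∈ LinearMap.range T := by
    rintro n _ ⟨x, rfl⟩
    exact ⟨⟨_, hmove n x⟩, by rw [hT, hT, map_mul, hlWof, Module.End.mul_apply]⟩
  have hequi : ∀ (n : N) (u : LinearMap.range T),
      g ⟨ρ n u, hinv n u u.2⟩ = (f n).1 *ᵥ g u := by
    rintro n ⟨_, x, rfl⟩
    have e : (⟨ρ n (T x), hinv n _ ⟨x, rfl⟩⟩ : LinearMap.range T) =
        ⟨T ⟨_, hmove n x⟩, _, rfl⟩ :=
      Subtype.ext (by
        show ρ n (T x) = T ⟨_, hmove n x⟩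
        rw [hT, hT, map_mul, hlWof, Module.End.mul_apply])
    rw [e, hg, hg, hQ, hQ, map_mul, hlFof, Matrix.mulVec_mulVec]
  refine ⟨LinearMap.range T, hinv, g, ?_, hequi⟩
  rw [← LinearMap.range_eq_top, eq_top_iff]
  have hR : ∀ (A : SL(2, ZMod p)), ∀ v ∈ LinearMap.range g, A.1 *ᵥ v ∈ LinearMap.range g := by
    rintro A _ ⟨u, rfl⟩
    obtain ⟨n, rfl⟩ := hf A
    exact ⟨_, hequi n u⟩
  set v := g ⟨T ⟨x₀, hx₀⟩, _, rfl⟩ with hvdef
  have hv : v ≠ 0 := by rwa [hvdef, hg, hQ]
  have hvR : v ∈ LinearMap.range g := ⟨_, rfl⟩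
  have e0 : ![(1 : ZMod p), 0] ∈ LinearMap.range g := by
    by_cases h1 : v 1 = 0
    · have h0 : v 0 ≠ 0 := fun h0 => hv (funext fun i => by fin_cases i <;> assumption)
      convert (LinearMap.range g).smul_mem (v 0)⁻¹ hvR using 1
      funext i; fin_cases i <;> simp [h0, h1]
    · convert (LinearMap.range g).smul_mem (v 1)⁻¹ (sub_mem (hR (up 1) v hvR) hvR) using 1
      funext i; fin_cases i <;> simp [h1, Matrix.mulVec, dotProduct, Fin.sum_univ_two, Matrix.vecHead, Matrix.vecTail]
  have e1 : ![(0 : ZMod p), 1] ∈ LinearMap.range g := by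
    convert sub_mem (hR (low 1) _ e0) e0 using 1
    funext i; fin_cases i <;> simp [Matrix.mulVec, dotProduct, Fin.sum_univ_two]
  intro y _
  convert add_mem ((LinearMap.range g).smul_mem (y 0) e0) ((LinearMap.range g).smul_mem (y 1) e1)
    using 1
  funext i; fin_cases i <;> simp

open CfsgLib.LocalEven.Qd in
/-- Failure of `p`-stability on an elementary abelian normal subgroup makes `Qd(p)` involved. -/
theorem involves_qd_of_not_isPStableOn {G : Type u} [Group G] [Finite G] (hp2 : p ≠ 2)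
    (V : Subgroup G) [V.Normal] (hV : Cfsg.IsElementaryAbelian p V)
    (hns : ¬ Cfsg.IsPStableOn p V) : Cfsg.Involves ↥(Cfsg.qd p) G := by
  letI : CommGroup V := { (inferInstance : Group V) with mul_comm := hV.1.is_comm.comm }
  letI : Module (ZMod p) (Additive V) := AddCommGroup.zmodModule (n := p) fun x =>
    Additive.toMul.injective (Subtype.ext (hV.2 _ (Additive.toMul x).2))
  haveI : Finite (Additive V) := inferInstanceAs (Finite V)
  haveI : FiniteDimensional (ZMod p) (Additive V) := Module.Finite.of_finite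
  let cv : Additive V → G := fun v => ((Additive.toMul v : V) : G)
  have hcv0 : cv 0 = 1 := rfl
  have hcvadd : ∀ v w, cv (v + w) = cv v * cv w := fun _ _ => rfl
  have hcvinj : Function.Injective cv := fun v w h => Additive.toMul.injective (Subtype.ext h)
  -- the action of `G` on `V`
  let F : G → Additive V →+ Additive V := fun g =>
    MonoidHom.toAdditive (MulAut.conjNormal g : MulAut V).toMonoidHom
  have hF : ∀ (g : G) (v : Additive V), cv (F g v) = g * cv v * g⁻¹ := fun g v =>
    MulAut.conjNormal_apply g _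
  let ρG : G →* Module.End (ZMod p) (Additive V) :=
    { toFun := fun g => (F g).toZModLinearMap p
      map_one' := LinearMap.ext fun v => hcvinj ((hF 1 v).trans (by simp))
      map_mul' := fun g h => LinearMap.ext fun v => hcvinj ((hF _ v).trans (by
        rw [Module.End.mul_apply]
        refine Eq.trans ?_ (hF g _).symm
        refine Eq.trans ?_ (congrArg (fun x => g * x * g⁻¹) (hF h v)).symm
        simp [mul_assoc])) }
  have hρ : ∀ (g : G) (v : Additive V), cv ((ρG g : Additive V →ₗ[ZMod p] Additive V) v) =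
      g * cv v * g⁻¹ := hF
  have hρker : ∀ g, ρG g = 1 → g ∈ Subgroup.centralizer (V : Set G) := fun g hg =>
    Subgroup.mem_centralizer_iff.2 fun v hv => by
      have := hρ g (Additive.ofMul ⟨v, hv⟩)
      rw [hg] at this
      exact eq_mul_inv_iff_mul_eq.1 this
  have hρcomm : ∀ v : V, ρG (v : G) = 1 := fun v => LinearMap.ext fun w => hcvinj (by
    rw [hρ, Module.End.one_apply,
      show (v : G) * cv w = cv w * v from congrArg Subtype.val (hV.1.is_comm.comm v (Additive.toMul w)),
      mul_inv_cancel_right])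
  -- the quadratic element
  rw [PLocal.isPStableOn_iff_stabD] at hns
  push Not at hns
  obtain ⟨a, hq, hna⟩ := hns
  have hsq : (ρG a - 1) * (ρG a - 1) = 0 := LinearMap.ext fun v => hcvinj (by
    show cv (ρG a (ρG a v - v) - (ρG a v - v)) = cv 0
    rw [hcv0, sub_eq_add_neg, hcvadd, hρ]
    show a * cv (ρG a v - v) * a⁻¹ * (cv (ρG a v - v))⁻¹ = 1
    have e : cv (ρG a v - v) = ⁅cv v, a⁆⁻¹ := by
      rw [sub_eq_add_neg, hcvadd, hρ, commutatorElement_def]
      show a * cv v * a⁻¹ * (cv v)⁻¹ = _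
      group
    have := CfsgLib.Quadratic.quadratic_commute hq (Additive.toMul v : V).2
      (Subgroup.mem_zpowers a) (Subgroup.mem_zpowers a)
    rw [e, (show Commute a _ from this).inv_right.eq, mul_inv_cancel_right, mul_inv_cancel])
  -- a conjugate pair
  set C := Subgroup.centralizer (V : Set G)
  obtain ⟨gb, hgb⟩ := PLocal.exists_conj_pair_not_isPGroup (p := p)
    (a := (QuotientGroup.mk a : G ⧸ C)) hna
  obtain ⟨g, rfl⟩ := QuotientGroup.mk_surjective gb
  set D := Subgroup.closure ({a, g * a * g⁻¹} : Set G)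
  set a' : D := ⟨a, Subgroup.subset_closure (Set.mem_insert _ _)⟩
  set b' : D := ⟨g * a * g⁻¹, Subgroup.subset_closure (Set.mem_insert_of_mem _ rfl)⟩
  have hgen : Subgroup.closure ({a', b'} : Set D) = ⊤ := by
    refine Subgroup.map_injective D.subtype_injective ?_
    rw [MonoidHom.map_closure, ← MonoidHom.range_eq_map, Subgroup.range_subtype, Set.image_pair,
      Subgroup.coe_subtype]
  have hgg : ρG g⁻¹ * ρG g = 1 := by rw [← map_mul, inv_mul_cancel, map_one]
  have hb : (ρG (g * a * g⁻¹) - 1) * (ρG (g * a * g⁻¹) - 1) = 0 := by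
    have hgg' : ρG g * ρG g⁻¹ = 1 := by rw [← map_mul, mul_inv_cancel, map_one]
    have e : ρG (g * a * g⁻¹) - 1 = ρG g * (ρG a - 1) * ρG g⁻¹ := by
      rw [mul_sub, sub_mul, mul_one, hgg', map_mul, map_mul]
    rw [e]
    calc ρG g * (ρG a - 1) * ρG g⁻¹ * (ρG g * (ρG a - 1) * ρG g⁻¹)
        = ρG g * (ρG a - 1) * (ρG g⁻¹ * ρG g) * ((ρG a - 1) * ρG g⁻¹) := by simp only [mul_assoc]
      _ = ρG g * ((ρG a - 1) * (ρG a - 1)) * ρG g⁻¹ := by rw [hgg]; simp only [mul_one, mul_assoc]
      _ = 0 := by rw [hsq, mul_zero, zero_mul]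
  haveI : CharP (Module.End (ZMod p) (Additive V)) p ∨ Subsingleton (Additive V) := by
    rcases subsingleton_or_nontrivial (Additive V) with h | h
    · exact Or.inr h
    · exact Or.inl (charP_of_injective_algebraMap' (ZMod p) p)
  obtain ⟨d, hdn⟩ : ∃ d : D, ¬ IsNilpotent ((ρG.comp D.subtype) d - 1) := by
    by_contra! hcon
    refine hgb ?_
    have hset : ({QuotientGroup.mk a, QuotientGroup.mk g * QuotientGroup.mk a * (QuotientGroup.mk g)⁻¹} :
        Set (G ⧸ C)) = QuotientGroup.mk' C '' {a, g * a * g⁻¹} := by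
      rw [Set.image_pair]; rfl
    rw [hset, ← MonoidHom.map_closure]
    rintro ⟨_, x, hx, rfl⟩
    obtain ⟨n, hn⟩ := eq_one_of_isNilpotent_pow (p := p) (hcon ⟨x, hx⟩)
    refine ⟨n, Subtype.ext ?_⟩
    show (QuotientGroup.mk' C x) ^ p ^ n = 1
    rw [← map_pow]
    exact (QuotientGroup.eq_one_iff _).2 (hρker _ (by rw [map_pow]; exact hn))
  obtain ⟨M, f, hf, hk⟩ := exists_natural hp2 (ρG.comp D.subtype) hgen hsq hb hdn
  set σ : M →* G := D.subtype.comp M.subtype
  have hσ : Function.Injective σ := D.subtype_injective.comp M.subtype_injective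
  -- the normalizer of a Sylow 2-subgroup over the centre
  haveI : Fact (Nat.Prime 2) := ⟨Nat.prime_two⟩
  set Z : Subgroup SL(2, ZMod p) := Subgroup.zpowers (-1) with hZ
  haveI : Z.Normal := Subgroup.Normal.mk fun z hz x => by
    obtain ⟨k, rfl⟩ := hz
    have hc : Commute x ((-1 : SL(2, ZMod p)) ^ k) := by
      refine Commute.zpow_right ?_ k
      exact Subtype.ext (by simp)
    rw [hc.eq, mul_inv_cancel_right]
    exact ⟨k, rfl⟩
  have hZcard : ∀ z ∈ Z, z = 1 ∨ z = -1 := by
    rintro _ ⟨k, rfl⟩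
    rcases Int.even_or_odd k with ⟨l, hl⟩ | ⟨l, hl⟩
    · left; subst hl; show (-1 : SL(2, ZMod p)) ^ (l + l) = 1; rw [← two_mul, _root_.zpow_mul, zpow_two]; simp
    · right; subst hl; show (-1 : SL(2, ZMod p)) ^ (2 * l + 1) = -1; rw [_root_.zpow_add, _root_.zpow_mul, zpow_two]; simp
  set E := Z.comap f with hE
  obtain ⟨T⟩ : Nonempty (Sylow 2 E) := inferInstance
  set T' : Subgroup M := (T : Subgroup E).map E.subtype with hT'
  obtain ⟨t₀, ht₀, hft₀⟩ : ∃ t ∈ T', f t = -1 := by
    have hs : Function.Surjective (f.subgroupComap Z) :=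
      f.subgroupComap_surjective_of_surjective Z hf
    have hZ2 : IsPGroup 2 Z := fun ⟨z, hz⟩ => ⟨1, Subtype.ext (by
      rcases hZcard z hz with rfl | rfl <;> simp)⟩
    have h1 : (T.mapSurjective hs : Subgroup Z) = ⊤ :=
      (T.mapSurjective hs).is_maximal' (IsPGroup.to_subgroup hZ2 ⊤) le_top |>.symm
    have h2 : (⟨-1, Subgroup.mem_zpowers _⟩ : Z) ∈ (T.mapSurjective hs : Subgroup Z) := by
      rw [h1]; trivial
    rw [Sylow.coe_mapSurjective] at h2
    obtain ⟨t, ht, htz⟩ := h2
    exact ⟨t, ⟨t, ht, rfl⟩, congrArg Subtype.val htz⟩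
  set N := Subgroup.normalizer (T' : Set M) with hN
  have hTN : T' ≤ N := Subgroup.le_normalizer
  have hfN : Function.Surjective (f.comp N.subtype) := by
    intro y
    obtain ⟨m, rfl⟩ := hf y
    haveI : E.Normal := inferInstance
    have hm : m ∈ N ⊔ E := by
      rw [hN, hT', Sylow.normalizer_sup_eq_top]; trivial
    rw [sup_comm] at hm
    obtain ⟨e, he, n, hn, rfl⟩ := Subgroup.mem_sup_of_normal_left.1 hm
    rcases hZcard _ he with he1 | he1
    · exact ⟨⟨n, hn⟩, by simp [he1]⟩
    · exact ⟨⟨t₀ * n, mul_mem (hTN ht₀) hn⟩, by simp [he1, hft₀]⟩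
  set ρN : N →* Module.End (ZMod p) (Additive V) := ρG.comp (σ.comp N.subtype)
  set fN := f.comp N.subtype
  have hkN : KerLE (ZMod p) ρN ((mat (ZMod p)).comp fN) := hk.comp N.subtype
  obtain ⟨U, hU, gl, hgl, hequi⟩ := exists_natural_section ρN fN hfN hkN
  -- elements of `N` falling into `V` are invisible
  have hinvis : ∀ (n : N) (u : U), σ n.1 = (cv u)⁻¹ → fN n = 1 ∧ gl u = 0 := by
    intro n u hnu
    constructor
    · have h1 := hkN (MonoidAlgebra.of (ZMod p) N n - 1) (by
        rw [map_sub, MonoidAlgebra.lift_of, map_one]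
        show ρG (σ n.1) - 1 = 0
        rw [hnu, ← Subgroup.coe_inv, hρcomm, sub_self])
      rw [map_sub, MonoidAlgebra.lift_of, map_one, sub_eq_zero] at h1
      exact Subtype.ext h1
    · have hc : n.1 * t₀ * n.1⁻¹ * t₀⁻¹ ∈ T' :=
        mul_mem ((Subgroup.mem_normalizer_iff.1 n.2 t₀).1 ht₀) (inv_mem ht₀)
      have hcV : σ (n.1 * t₀ * n.1⁻¹ * t₀⁻¹) ∈ V := by
        have hnV : σ n.1 ∈ V := by rw [hnu]; exact inv_mem (Additive.toMul (u : Additive V) : V).2
        rw [show n.1 * t₀ * n.1⁻¹ * t₀⁻¹ = n.1 * (t₀ * n.1⁻¹ * t₀⁻¹) by group, map_mul, map_mul,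
          map_mul, map_inv, map_inv]
        exact mul_mem hnV ((inferInstance : V.Normal).conj_mem _ (inv_mem hnV) _)
      have hT2 : IsPGroup 2 T' := T.isPGroup'.map _
      have hc1 : σ (n.1 * t₀ * n.1⁻¹ * t₀⁻¹) = 1 := by
        obtain ⟨k, hk2⟩ := hT2 ⟨_, hc⟩
        have h2 : σ (n.1 * t₀ * n.1⁻¹ * t₀⁻¹) ^ 2 ^ k = 1 := by
          rw [← map_pow, show _ ^ 2 ^ k = (1 : M) from congrArg Subtype.val hk2, map_one]
        have h3 := hV.2 _ hcV
        have hcop : Nat.Coprime (2 ^ k) p :=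
          ((Nat.coprime_primes Nat.prime_two hp.out).2 (Ne.symm hp2)).pow_left k
        rw [← orderOf_eq_one_iff, ← Nat.dvd_one, ← hcop.gcd_eq_one]
        exact Nat.dvd_gcd (orderOf_dvd_of_pow_eq_one h2) (orderOf_dvd_of_pow_eq_one h3)
      have hcomm : σ t₀ * cv u * (σ t₀)⁻¹ = cv u := by
        rw [map_mul, map_mul, map_mul, map_inv, map_inv, hnu] at hc1
        have hc2 : (cv u)⁻¹ * σ t₀ * cv u = σ t₀ := by
          simpa using mul_inv_eq_one.1 hc1
        calc σ t₀ * cv u * (σ t₀)⁻¹ = cv u * ((cv u)⁻¹ * σ t₀ * cv u) * (σ t₀)⁻¹ := by group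
          _ = cv u := by rw [hc2, mul_inv_cancel_right]
      have h4 := hequi ⟨t₀, hTN ht₀⟩ u
      have h5 : (⟨ρN ⟨t₀, hTN ht₀⟩ u, hU _ u u.2⟩ : U) = u :=
        Subtype.ext (hcvinj ((hρ _ _).trans hcomm))
      rw [h5, show (fN ⟨t₀, hTN ht₀⟩) = -1 from hft₀, Matrix.SpecialLinearGroup.coe_neg,
        Matrix.SpecialLinearGroup.coe_one, Matrix.neg_mulVec, Matrix.one_mulVec] at h4
      funext i
      have h6 := congrFun h4 i
      have h7 : (2 : ZMod p) * gl u i = 0 := by
        rw [Pi.neg_apply] at h6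
        linear_combination h6
      refine (mul_eq_zero.1 h7).resolve_left ?_
      intro h8
      have h9 : ((2 : ℕ) : ZMod p) = 0 := by exact_mod_cast h8
      rw [ZMod.natCast_eq_zero_iff] at h9
      exact hp2 ((Nat.prime_dvd_prime_iff_eq hp.out Nat.prime_two).1 h9)
  -- the graph of the natural map
  have hmul : ∀ (n : N) (u u' : U) (m : N),
      cv u * σ n.1 * (cv u' * σ m.1) = cv ((u : Additive V) + ρN n u') * σ (n * m).1 := by
    intro n u u' m
    show _ = cv (u + ρG (σ n.1) u') * σ (n.1 * m.1)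
    rw [hcvadd, hρ, map_mul]
    group
  let R : Subgroup (G × ↥(Cfsg.qdOver (ZMod p))) :=
    { carrier := {x | ∃ (u : U) (n : N), x = (cv u * σ n.1, mkQd (fN n) (gl u))}
      mul_mem' := by
        rintro _ _ ⟨u, n, rfl⟩ ⟨u', m, rfl⟩
        refine ⟨u + ⟨ρN n u', hU n u' u'.2⟩, n * m, Prod.ext (hmul n u u' m) ?_⟩
        show mkQd (fN n) (gl u) * mkQd (fN m) (gl u') = _
        refine ext_block_shift (by simp) ?_
        rw [shift_mul, block_mkQd, shift_mkQd, shift_mkQd, shift_mkQd, map_add, hequi, add_comm]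
      one_mem' := ⟨0, 1, Prod.ext (by simp [hcv0]) (ext_block_shift (by simp) (by simp [shift_one]))⟩
      inv_mem' := by
        rintro _ ⟨u, n, rfl⟩
        refine ⟨-⟨ρN n⁻¹ u, hU _ u u.2⟩, n⁻¹, inv_eq_of_mul_eq_one_right (Prod.ext ?_ ?_)⟩
        · rw [Prod.fst_mul, Prod.fst_one]
          refine (hmul n u (-⟨ρN n⁻¹ u, hU _ u u.2⟩) n⁻¹).trans ?_
          rw [mul_inv_cancel, Submodule.coe_neg, map_neg]
          simp [← Module.End.mul_apply, ← map_mul, hcv0]
        · rw [Prod.snd_mul, Prod.snd_one]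
          refine ext_block_shift (by simp) ?_
          rw [shift_mul, block_mkQd, shift_mkQd, shift_mkQd, shift_one, map_neg, hequi, map_inv,
            Matrix.mulVec_neg, Matrix.mulVec_mulVec, ← Matrix.SpecialLinearGroup.coe_mul,
            mul_inv_cancel, Matrix.SpecialLinearGroup.coe_one, Matrix.one_mulVec, neg_add_cancel] }
  let π₁ : R →* G := (MonoidHom.fst _ _).comp R.subtype
  let π₂ : R →* ↥(Cfsg.qdOver (ZMod p)) := (MonoidHom.snd _ _).comp R.subtype
  have h2surj : Function.Surjective π₂ := by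
    intro A
    obtain ⟨n, hn⟩ := hfN (block A)
    obtain ⟨u, hu⟩ := hgl (shift A)
    exact ⟨⟨_, u, n, rfl⟩, ext_block_shift (by simp [π₂, fN, hn])
      (by simp [π₂, hu])⟩
  have h1inj : Function.Injective π₁ := by
    rw [injective_iff_map_eq_one]
    rintro ⟨_, u, n, rfl⟩ h
    have h' : cv u * σ n.1 = 1 := h
    obtain ⟨hfn, hgu⟩ := hinvis n u (eq_inv_of_mul_eq_one_right h')
    exact Subtype.ext (Prod.ext h' (ext_block_shift (by simp [hfn]) (by simp [hgu, shift_one])))
  let e := MonoidHom.ofInjective h1inj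
  exact CfsgLib.LocalEven.Involved.involves_of_hom π₁.range (π₂.comp e.symm.toMonoidHom)
    (h2surj.comp e.symm.surjective)

/-- Failure of `p`-stability on a normal `p`-subgroup makes `Qd(p)` involved. -/
theorem involves_qd_of_not_isPStableOn_pGroup {G : Type u} [Group G] [Finite G] (hp2 : p ≠ 2)
    (P : Subgroup G) [P.Normal] (hP : IsPGroup p P) (hns : ¬ Cfsg.IsPStableOn p P) :
    Cfsg.Involves ↥(Cfsg.qd p) G := by
  rw [PLocal.isPStableOn_iff_stabD] at hns
  push Not at hns
  obtain ⟨a, hq, hna⟩ := hns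
  haveI := PLocal.frattini_map_normal P
  set Φ := (frattini P).map P.subtype
  haveI : (P.map (QuotientGroup.mk' Φ)).Normal :=
    (inferInstance : P.Normal).map _ (QuotientGroup.mk'_surjective Φ)
  exact CfsgLib.LocalEven.Involved.involves_of_surjective _ (QuotientGroup.mk'_surjective Φ)
    (involves_qd_of_not_isPStableOn hp2 _ (PLocal.elementaryAbelian_map_frattini P hP)
      (PLocal.not_isPStableOn_map_frattini P hP hq hna))

/-- A group not involving `Qd(p)` acts `p`-stably on each normal `p`-subgroup. -/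
theorem isPStableOn_of_not_involves {G : Type u} [Group G] [Finite G] (hp2 : p ≠ 2)
    (h : ¬ Cfsg.Involves ↥(Cfsg.qd p) G) (P : Subgroup G) [P.Normal] (hP : IsPGroup p P) :
    Cfsg.IsPStableOn p P :=
  by_contra fun hns => h (involves_qd_of_not_isPStableOn_pGroup hp2 P hP hns)

theorem not_involves_subgroup {G : Type u} [Group G] (h : ¬ Cfsg.Involves ↥(Cfsg.qd p) G)
    (H : Subgroup G) : ¬ Cfsg.Involves ↥(Cfsg.qd p) H :=
  fun hH => h (CfsgLib.LocalEven.Involved.involves_of_subgroup hH)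

theorem not_involves_quotient {G : Type u} [Group G] (h : ¬ Cfsg.Involves ↥(Cfsg.qd p) G)
    (N : Subgroup G) [N.Normal] : ¬ Cfsg.Involves ↥(Cfsg.qd p) (G ⧸ N) :=
  fun hN => h (CfsgLib.LocalEven.Involved.involves_of_surjective _
    (QuotientGroup.mk'_surjective N) hN)

end CfsgLib.LocalEvenSix.QdStable
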