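import Cfsg.Agent.Lib.LocalEvenSix.ControlsZJ
import Cfsg.Agent.Lib.LocalEvenSix.QdStable
import Mathlib.GroupTheory.SchurZassenhaus

/-!
# `N(Z(J(D)))` controls strong fusion in groups not involving `Qd(p)`
-/

set_option autoImplicit false
set_option linter.unusedSectionVars false
set_option linter.style.haveILetI false

namespace CfsgLib.LocalEvenSix.QdControl

open Subgroup CfsgLib CfsgLib.PLocal CfsgLib.LocalEvenSix.ZJClosed CfsgLib.LocalEvenSix.ControlsZJ
open scoped commutatorElement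

universe u

variable {G : Type u} [Group G] [Finite G] {p : ℕ} [hp : Fact p.Prime]

/-- The normalizers of the centres of Thompson subgroups control strong fusion. -/
def Ctrl (e p : ℕ) (G : Type u) [Group G] [Finite G] : Prop :=
  ∀ (P : Sylow p G) (D : Subgroup G), Cfsg.IsStronglyClosed D (P : Subgroup G) →
    ∀ R : Subgroup G, R ≤ (P : Subgroup G) → ∀ x : G,
      R.map (MulAut.conj x : G →* G) ≤ (P : Subgroup G) → Rel (normalizer (zj e D : Set G)) R x

/-- It is enough to treat elements normalizing a fully normalized subgroup, knowing the larger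
subgroups. -/
theorem rel_of_step {e : ℕ} (P : Sylow p G) {D : Subgroup G}
    (hD : Cfsg.IsStronglyClosed D (P : Subgroup G))
    (step : ∀ R1 : Subgroup G, R1 ≤ (P : Subgroup G) → R1 ≠ ⊥ → Full P R1 →
      (∀ U : Subgroup G, U ≤ (P : Subgroup G) → Nat.card R1 < Nat.card U → ∀ y : G,
        U.map (MulAut.conj y : G →* G) ≤ (P : Subgroup G) →
          Rel (normalizer (zj e D : Set G)) U y) →
      ∀ y ∈ normalizer (R1 : Set G), Rel (normalizer (zj e D : Set G)) R1 y) :
    ∀ R : Subgroup G, R ≤ (P : Subgroup G) → ∀ x : G,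
      R.map (MulAut.conj x : G →* G) ≤ (P : Subgroup G) → Rel (normalizer (zj e D : Set G)) R x := by
  set M := normalizer (zj e D : Set G) with hM
  suffices key : ∀ m (R : Subgroup G), Nat.card (P : Subgroup G) - Nat.card R = m →
      R ≤ (P : Subgroup G) → ∀ x : G, R.map (MulAut.conj x : G →* G) ≤ (P : Subgroup G) → Rel M R x from
    fun R => key _ R rfl
  intro m
  induction m using Nat.strong_induction_on with
  | _ m IH =>
  intro R hm hRP x hxP
  have big : ∀ U : Subgroup G, U ≤ (P : Subgroup G) → Nat.card R < Nat.card U → ∀ y : G,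
      U.map (MulAut.conj y : G →* G) ≤ (P : Subgroup G) → Rel M U y := fun U hU hlt =>
    IH _ (by have := Subgroup.card_le_of_le hU; omega) U rfl hU
  rcases eq_or_ne R ⊥ with rfl | hR0
  · exact ⟨1, one_mem _, fun r hr => by rw [mem_bot.1 hr]; simp⟩
  rcases eq_or_ne R (P : Subgroup G) with rfl | hRne
  · refine Rel.of_mem ?_
    have hx : x ∈ normalizer ((P : Subgroup G) : Set G) := by
      rw [mem_normalizer_iff_map_conj_eq]
      exact eq_of_le_of_card_ge hxP (card_map_of_injective (MulAut.conj x).injective).ge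
    refine normalizer_le_normalizer_zj e D ?_
    refine mem_normalizer_iff.2 fun y => ⟨fun hy => ?_, fun hy => ?_⟩
    · exact hD.2 y hy x ((mem_normalizer_iff.1 hx y).1 (hD.1 hy))
    · have h1 := hD.2 _ hy x⁻¹ (by simpa [mul_assoc] using (mem_normalizer_iff.1 hx y).2 (hD.1 hy))
      simpa [mul_assoc] using h1
  -- reduce to an element of a normalizer
  have hlt : Nat.card R < Nat.card ((P : Subgroup G) ⊓ normalizer (R : Set G) : Subgroup G) :=
    SylowControl.card_lt_inf_normalizer P hRP hRne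
  obtain ⟨a, haf, haT, haR⟩ := exists_full P R hRP
  set R1 := R.map (MulAut.conj a : G →* G) with hR1
  set Q := R.map (MulAut.conj x : G →* G) with hQ
  have hQc : Nat.card Q = Nat.card R := card_map_of_injective (MulAut.conj x).injective
  have hQne : Q ≠ (P : Subgroup G) := fun h => hRne (eq_of_le_of_card_ge hRP (by rw [← hQc, h]))
  have hconj : ∀ u v : G, (R.map (MulAut.conj u : G →* G)).map (MulAut.conj v : G →* G) =
      R.map (MulAut.conj (v * u) : G →* G) := fun u v => by
    rw [Subgroup.map_map]; congr 1; ext z; simp [mul_assoc]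
  obtain ⟨b, hbQ, hbT⟩ := exists_conj_full P haf (Q := Q) (a := a * x⁻¹) (by
    rw [hQ, hconj, inv_mul_cancel_right])
  have hltQ : Nat.card R < Nat.card ((P : Subgroup G) ⊓ normalizer (Q : Set G) : Subgroup G) := by
    rw [← hQc]; exact SylowControl.card_lt_inf_normalizer P hxP hQne
  have hRa : Rel M R a := (big _ inf_le_left hlt a haT).mono (le_inf hRP le_normalizer)
  have hQb : Rel M Q b := (big _ inf_le_left hltQ b hbT).mono (le_inf hxP le_normalizer)
  have hy : b * x * a⁻¹ ∈ normalizer (R1 : Set G) := by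
    rw [mem_normalizer_iff_map_conj_eq]
    show R1.map (MulAut.conj (b * x * a⁻¹) : G →* G) = R1
    rw [hR1, hconj, inv_mul_cancel_right, ← hconj x b, ← hQ, hbQ, hR1]
  have hrel : Rel M R1 (b * x * a⁻¹) := by
    refine step R1 haR (fun h => hR0 ((Subgroup.map_eq_bot_iff_of_injective _ (MulAut.conj a).injective).1 h))
      haf (fun U hU hlt => big U hU ?_) _ hy
    rwa [card_map_of_injective (MulAut.conj a).injective] at hlt
  have h1 : Rel M R ((b * x * a⁻¹) * a) := hRa.mul hrel
  have h2 : Rel M R (b⁻¹ * ((b * x * a⁻¹) * a)) := h1.mul (by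
    have h3 := hQb.inv
    rw [hQ, hconj] at h3
    rw [inv_mul_cancel_right]
    exact h3)
  simpa [mul_assoc] using h2

/-- Two elements moving a `p`-subgroup congruently modulo a normal `p'`-subgroup. -/
theorem rel_of_congr_mod {M N R : Subgroup G} [N.Normal] (hN : (Nat.card N).Coprime p)
    (hR : IsPGroup p R) (hRM : R ≤ M) {n x : G} (hn : n ∈ M)
    (hxM : R.map (MulAut.conj x : G →* G) ≤ M)
    (hc : ∀ r ∈ R, (n * r * n⁻¹)⁻¹ * (x * r * x⁻¹) ∈ N) : Rel M R x := by
  have hNM : (Nat.card (N.subgroupOf M)).Coprime p :=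
    hN.coprime_dvd_left ((Subgroup.card_map_of_injective M.subtype_injective).symm.dvd.trans
      (Subgroup.card_dvd_of_le (map_comap_le _ _)))
  set A2 := (R.map (MulAut.conj n : G →* G)).subgroupOf M
  set B2 := (R.map (MulAut.conj x : G →* G)).subgroupOf M
  set q := QuotientGroup.mk' (N.subgroupOf M) with hq
  have hmap : A2.map q = B2.map q := by
    ext z
    constructor
    · rintro ⟨v, ⟨r, hr, hrv⟩, rfl⟩
      refine ⟨⟨x * r * x⁻¹, hxM ⟨r, hr, rfl⟩⟩, ⟨r, hr, rfl⟩, ?_⟩
      symm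
      rw [hq, QuotientGroup.mk'_apply, QuotientGroup.mk'_apply, QuotientGroup.eq]
      show (v : G)⁻¹ * (x * r * x⁻¹) ∈ N
      rw [show (v : G) = n * r * n⁻¹ from hrv.symm]
      exact hc r hr
    · rintro ⟨v, ⟨r, hr, hrv⟩, rfl⟩
      refine ⟨⟨n * r * n⁻¹, mul_mem (mul_mem hn (hRM hr)) (inv_mem hn)⟩, ⟨r, hr, rfl⟩, ?_⟩
      rw [hq, QuotientGroup.mk'_apply, QuotientGroup.mk'_apply, QuotientGroup.eq]
      show (n * r * n⁻¹)⁻¹ * (v : G) ∈ N
      rw [show (v : G) = x * r * x⁻¹ from hrv.symm]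
      exact hc r hr
  obtain ⟨o, -, ho⟩ := exists_fusion_mod hNM ((hR.map _).comap_subtype : IsPGroup p A2)
    ((hR.map _).comap_subtype : IsPGroup p B2) hmap
  refine ⟨(o : G) * n, mul_mem o.2 hn, fun r hr => ?_⟩
  obtain ⟨h1, h2⟩ := ho ⟨n * r * n⁻¹, mul_mem (mul_mem hn (hRM hr)) (inv_mem hn)⟩ ⟨r, hr, rfl⟩
  have h1' : (o : G) * (n * r * n⁻¹) * (o : G)⁻¹ ∈ R.map (MulAut.conj x : G →* G) := h1
  have h2' : ((o : G) * (n * r * n⁻¹) * (o : G)⁻¹)⁻¹ * (n * r * n⁻¹) ∈ N := h2
  have h3 := mul_mem h2' (hc r hr)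
  rw [mul_assoc, mul_inv_cancel_left] at h3
  have h4 := eq_one_of_mem_pGroup_of_mem_coprime (hR.map (MulAut.conj x : G →* G)) hN
    (mul_mem (inv_mem h1') ⟨r, hr, rfl⟩) h3
  rw [inv_mul_eq_one] at h4
  rw [show x * r * x⁻¹ = _ from h4.symm]
  group

/-- The hypothesis inside a proper subgroup meeting `P` in a Sylow subgroup. -/
theorem rel_local {e : ℕ} (IH : ∀ L : Subgroup G, L ≠ ⊤ → Ctrl e p L) (P : Sylow p G)
    {D : Subgroup G} (hD : Cfsg.IsStronglyClosed D (P : Subgroup G)) (L : Subgroup G) (hL : L ≠ ⊤)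
    (hPL : ¬ p ∣ (P : Subgroup G).relIndex L) {R : Subgroup G}
    (hR : R ≤ (P : Subgroup G) ⊓ L) {y : G} (hy : y ∈ L)
    (hyP : R.map (MulAut.conj y : G →* G) ≤ (P : Subgroup G)) :
    Rel (L ⊓ normalizer (zj e (D ⊓ L) : Set G)) R y := by
  let PL : Sylow p L := (P.isPGroup'.comap_subtype (K := L)).toSylow hPL
  have hDL : Cfsg.IsStronglyClosed (D.subgroupOf L) (PL : Subgroup L) :=
    ⟨Subgroup.comap_mono hD.1, fun z hz l hl => hD.2 z hz l hl⟩
  obtain ⟨k, hk, hk'⟩ := IH L hL PL (D.subgroupOf L) hDL (R.subgroupOf L)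
    (Subgroup.comap_mono (hR.trans inf_le_left)) ⟨y, hy⟩ (by
      rintro _ ⟨r, hr, rfl⟩
      exact hyP ⟨(r : G), hr, rfl⟩)
  refine ⟨(k : G), ⟨k.2, ?_⟩, fun r hr => congrArg Subtype.val (hk' ⟨r, (hR hr).2⟩ hr)⟩
  have h1 : zj e (D ⊓ L) = (zj e (D.subgroupOf L)).map L.subtype := by
    rw [← zj_map L.subtype_injective, subgroupOf_map_subtype]
  rw [h1]
  exact le_normalizer_map L.subtype ⟨k, hk, rfl⟩

/-- The hypothesis inside a proper overgroup of `P`. -/
theorem rel_over {e : ℕ} (IH : ∀ L : Subgroup G, L ≠ ⊤ → Ctrl e p L) (P : Sylow p G)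
    {D : Subgroup G} (hD : Cfsg.IsStronglyClosed D (P : Subgroup G)) (L : Subgroup G) (hL : L ≠ ⊤)
    (hPL : (P : Subgroup G) ≤ L) {R : Subgroup G} (hR : R ≤ (P : Subgroup G)) {y : G} (hy : y ∈ L)
    (hyP : R.map (MulAut.conj y : G →* G) ≤ (P : Subgroup G)) :
    Rel (normalizer (zj e D : Set G)) R y := by
  obtain ⟨k, hk, hk'⟩ := rel_local IH P hD L hL (Techniques.not_dvd_relIndex_sylow P hPL)
    (le_inf hR (hR.trans hPL)) hy hyP
  refine ⟨k, ?_, hk'⟩
  have := hk.2
  rwa [inf_eq_left.2 (hD.1.trans hPL)] at this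

/-- The case `O_{p'}(G) ≠ 1`. -/
theorem rel_of_quotient {e : ℕ} (N : Subgroup G) [N.Normal] (hN : (Nat.card N).Coprime p)
    (hQ : Ctrl e p (G ⧸ N)) (P : Sylow p G) {D : Subgroup G}
    (hD : Cfsg.IsStronglyClosed D (P : Subgroup G)) {R : Subgroup G} (hR : R ≤ (P : Subgroup G))
    {x : G} (hxP : R.map (MulAut.conj x : G →* G) ≤ (P : Subgroup G)) :
    Rel (normalizer (zj e D : Set G)) R x := by
  set q := QuotientGroup.mk' N with hq
  have hDp : IsPGroup p D := P.isPGroup'.to_le hD.1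
  have hinj : Function.Injective (q.comp D.subtype) := by
    rw [injective_iff_map_eq_one]
    intro z hz
    exact Subtype.ext (eq_one_of_mem_pGroup_of_mem_coprime hDp hN z.2
      ((QuotientGroup.eq_one_iff (z : G)).mp hz))
  obtain ⟨nb, hnb, hn'⟩ := hQ (P.mapSurjective (QuotientGroup.mk'_surjective N)) (D.map q)
    (by rw [Sylow.coe_mapSurjective]; exact stronglyClosed_map_of_coprime hD hN)
    (R.map q) (by rw [Sylow.coe_mapSurjective]; exact Subgroup.map_mono hR) (q x)
    (by
      rw [Sylow.coe_mapSurjective]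
      rintro _ ⟨_, ⟨r, hr, rfl⟩, rfl⟩
      exact ⟨_, hxP ⟨r, hr, rfl⟩, by simp [hq]⟩)
  rw [zj_map_of_injOn q _ hinj] at hnb
  obtain ⟨⟨n, hn⟩, hn2⟩ := normalizerMap_surjective hN (hDp.to_le (zj_le e _)) ⟨nb, hnb⟩
  have hn3 : q n = nb := congrArg Subtype.val hn2
  have hPM : (P : Subgroup G) ≤ normalizer (zj e D : Set G) :=
    (le_normalizer_of_stronglyClosed hD).trans (normalizer_le_normalizer_zj e D)
  refine rel_of_congr_mod hN (P.isPGroup'.to_le hR) (hR.trans hPM) hn (hxP.trans hPM) fun r hr => ?_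
  have h1 := hn' (q r) ⟨r, hr, rfl⟩
  rw [← hn3, ← map_inv, ← map_inv, ← map_mul, ← map_mul, ← map_mul, ← map_mul] at h1
  exact QuotientGroup.eq.1 h1.symm

/-- The case `O_{p'}(G) = O_p(G) = 1`. -/
theorem rel_of_cores_trivial {e : ℕ} (he : e = 0 ∨ e = p)
    (IH : ∀ L : Subgroup G, L ≠ ⊤ → Ctrl e p L) (hO : Cfsg.pCore p G = ⊥) (P : Sylow p G)
    {D : Subgroup G} (hD : Cfsg.IsStronglyClosed D (P : Subgroup G)) (hD0 : D ≠ ⊥) :
    ∀ R : Subgroup G, R ≤ (P : Subgroup G) → ∀ x : G,
      R.map (MulAut.conj x : G →* G) ≤ (P : Subgroup G) → Rel (normalizer (zj e D : Set G)) R x := by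
  refine rel_of_step P hD fun R hRP hR0 hRf big y hy => ?_
  set M := normalizer (zj e D : Set G) with hM
  have hPD : (P : Subgroup G) ≤ normalizer (D : Set G) := le_normalizer_of_stronglyClosed hD
  suffices inner : ∀ j (Y : Subgroup G), Y ≤ (P : Subgroup G) → Y ≠ ⊥ → Full P Y →
      Nat.card (P : Subgroup G) - Nat.card ((P : Subgroup G) ⊓ normalizer (Y : Set G) : Subgroup G) = j →
      ∀ (R' : Subgroup G) (y : G), Nat.card R' = Nat.card R →
        R' ≤ (P : Subgroup G) ⊓ normalizer (Y : Set G) → y ∈ normalizer (Y : Set G) →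
        R'.map (MulAut.conj y : G →* G) ≤ (P : Subgroup G) → Rel M R' y by
    refine inner _ R hRP hR0 hRf rfl R y rfl (le_inf hRP le_normalizer) hy ?_
    rwa [(mem_normalizer_iff_map_conj_eq.1 hy : R.map (MulAut.conj y : G →* G) = R)]
  intro j
  induction j using Nat.strong_induction_on with
  | _ j IH2 =>
    intro Y hYP hY0 hYf hj R' y hR'c hR'T hy hyP
    set L := normalizer (Y : Set G) with hL
    set T := (P : Subgroup G) ⊓ L with hT
    have hLne : L ≠ ⊤ := fun h => hY0 (le_bot_iff.1 (hO ▸ PCore.le_pCore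
      (normalizer_eq_top_iff.1 h) (P.isPGroup'.to_le hYP)))
    set Y' := zj e (D ⊓ L) with hY'
    obtain ⟨k', hk', hagree⟩ := rel_local IH P hD L hLne hYf hR'T hy hyP
    refine Rel.congr (y := k') ?_ hagree
    have hk'R : R'.map (MulAut.conj k' : G →* G) ≤ (P : Subgroup G) := by
      rintro _ ⟨r, hr, rfl⟩
      exact hyP ⟨r, hr, hagree r hr⟩
    have hk'N : k' ∈ normalizer (Y' : Set G) := hk'.2
    by_cases hTP : (P : Subgroup G) ≤ L
    · refine Rel.of_mem ?_
      have h1 := hk'N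
      rwa [hY', inf_eq_left.2 (hD.1.trans hTP)] at h1
    have hTlt : Nat.card T < Nat.card ((P : Subgroup G) ⊓ normalizer (T : Set G) : Subgroup G) :=
      SylowControl.card_lt_inf_normalizer P inf_le_left fun h => hTP (h ▸ inf_le_right)
    have hNT : (P : Subgroup G) ⊓ normalizer (T : Set G) ≤ (P : Subgroup G) ⊓ normalizer (Y' : Set G) :=
      le_inf inf_le_left fun t ht => normalizer_le_normalizer_zj e _
        (normalizer_inf_le_of_stronglyClosed hD (K := L) ht.2)
    have hDL0 : D ⊓ L ≠ ⊥ := by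
      haveI : Group.IsNilpotent (P : Subgroup G) := P.isPGroup'.isNilpotent
      haveI : (D.subgroupOf (P : Subgroup G)).Normal := normal_subgroupOf_of_le_normalizer hPD
      obtain ⟨d, hd, hdc, hd1⟩ := CfsgLib.Coprime39.exists_central_mem (D.subgroupOf (P : Subgroup G))
        (by rw [Ne, subgroupOf_eq_bot, disjoint_iff, inf_eq_left.2 hD.1]; exact hD0)
      intro h0
      apply hd1
      have hdL : (d : G) ∈ L := mem_normalizer_iff_map_conj_eq.2 (eq_of_le_of_card_ge (by
        rintro _ ⟨z, hz, rfl⟩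
        have h1 : z * (d : G) = d * z := congrArg Subtype.val (mem_center_iff.1 hdc ⟨z, hYP hz⟩)
        show (d : G) * z * (d : G)⁻¹ ∈ Y
        rw [← h1, mul_inv_cancel_right]
        exact hz) (card_map_of_injective (MulAut.conj (d : G)).injective).ge)
      have : (d : G) ∈ (⊥ : Subgroup G) := h0 ▸ ⟨hd, hdL⟩
      exact Subtype.ext (mem_bot.1 this)
    have hY'0 : Y' ≠ ⊥ := Frobenius.ZJComp.zj_ne_bot he (P.isPGroup'.to_le (inf_le_left.trans hD.1)) hDL0
    have hY'P : Y' ≤ (P : Subgroup G) := (zj_le e _).trans (inf_le_left.trans hD.1)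
    obtain ⟨a, haf, haT, haY⟩ := exists_full P Y' hY'P
    set Y1 := Y'.map (MulAut.conj a : G →* G) with hY1
    set T' := (P : Subgroup G) ⊓ normalizer (Y' : Set G) with hT'
    have hRT' : R' ≤ T' := hR'T.trans ((le_inf inf_le_left le_normalizer).trans hNT)
    have hcardT : Nat.card R < Nat.card T' := by
      have h1 := Subgroup.card_le_of_le hR'T
      have h2 := Subgroup.card_le_of_le hNT
      omega
    have hrelT : Rel M T' a := big T' inf_le_left hcardT a haT
    have hY1n : normalizer (Y1 : Set G) = (normalizer (Y' : Set G)).map (MulAut.conj a : G →* G) :=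
      (Subgroup.map_equiv_normalizer_eq Y' (MulAut.conj a)).symm
    have hT1 : T'.map (MulAut.conj a : G →* G) ≤ (P : Subgroup G) ⊓ normalizer (Y1 : Set G) :=
      le_inf haT (hY1n ▸ Subgroup.map_mono inf_le_right)
    have hlt : Nat.card (P : Subgroup G) - Nat.card ((P : Subgroup G) ⊓ normalizer (Y1 : Set G) : Subgroup G) < j := by
      have h1 := Subgroup.card_le_of_le hT1
      rw [card_map_of_injective (MulAut.conj a).injective] at h1
      have h2 := Subgroup.card_le_of_le hNT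
      have h3 : Nat.card ((P : Subgroup G) ⊓ normalizer (Y1 : Set G) : Subgroup G) ≤ Nat.card (P : Subgroup G) :=
        Subgroup.card_le_of_le inf_le_left
      omega
    have hR1 : R'.map (MulAut.conj a : G →* G) ≤ (P : Subgroup G) ⊓ normalizer (Y1 : Set G) :=
      (Subgroup.map_mono hRT').trans hT1
    have hk'T' : R'.map (MulAut.conj k' : G →* G) ≤ T' := le_inf hk'R (by
      rintro _ ⟨r, hr, rfl⟩
      exact mul_mem (mul_mem (hk'N) (hRT' hr).2) (inv_mem (hk'N)))
    have hy1 : a * k' * a⁻¹ ∈ normalizer (Y1 : Set G) := hY1n ▸ ⟨k', hk'N, rfl⟩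
    have hrel1 : Rel M (R'.map (MulAut.conj a : G →* G)) (a * k' * a⁻¹) := by
      refine IH2 _ hlt Y1 haY ?_ haf rfl _ _
        ((card_map_of_injective (MulAut.conj a).injective).trans hR'c) hR1 hy1 ?_
      · exact fun h => hY'0 ((Subgroup.map_eq_bot_iff_of_injective _ (MulAut.conj a).injective).1 h)
      · rintro _ ⟨_, ⟨r, hr, rfl⟩, rfl⟩
        have := haT ⟨_, hk'T' ⟨r, hr, rfl⟩, rfl⟩
        simpa [mul_assoc] using this
    have h3 : Rel M R' ((a * k' * a⁻¹) * a) := (hrelT.mono hRT').mul hrel1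
    have h4 : Rel M ((R'.map (MulAut.conj k' : G →* G)).map (MulAut.conj a : G →* G)) a⁻¹ :=
      (hrelT.mono hk'T').inv
    have h5 : Rel M R' (a⁻¹ * ((a * k' * a⁻¹) * a)) := h3.mul (by
      rw [Subgroup.map_map] at h4
      convert h4 using 2
      ext z
      simp [mul_assoc])
    simpa [mul_assoc] using h5

/-- With `O_{p'}(G) = 1`, a normal `p`-subgroup holding a Sylow subgroup of its centralizer
contains the centralizer. -/
theorem centralizer_le_of_sylow_inf_le (hO' : Cfsg.pPrimeCore p G = ⊥) (P : Sylow p G)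
    {Y : Subgroup G} [Y.Normal] (h : (P : Subgroup G) ⊓ centralizer (Y : Set G) ≤ Y) :
    centralizer (Y : Set G) ≤ Y := by
  set C := centralizer (Y : Set G)
  set N := ((P : Subgroup G) ⊓ C).subgroupOf C with hN
  have hcen : N ≤ center C := fun n hn => mem_center_iff.2 fun c =>
    Subtype.ext (mem_centralizer_iff.1 c.2 (n : G) (h (mem_subgroupOf.1 hn))).symm
  haveI : N.Normal := ⟨fun n hn c => by
    rw [show c * n = n * c from mem_center_iff.1 (hcen hn) c, mul_inv_cancel_right]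
    exact hn⟩
  have hNp : IsPGroup p N := (P.isPGroup'.to_le inf_le_left).comap_subtype
  have hidx : ¬ p ∣ N.index := Techniques.not_dvd_relIndex_inf_normal P C
  have hcop : Nat.Coprime (Nat.card N) N.index := by
    obtain ⟨k, hk⟩ := IsPGroup.iff_card.1 hNp
    rw [hk]
    exact (hp.out.coprime_iff_not_dvd.2 hidx).pow_left k
  obtain ⟨K, hK⟩ := Subgroup.exists_right_complement'_of_coprime hcop
  haveI : K.Normal := ⟨fun k hk c => by
    obtain ⟨⟨n, l⟩, hnl⟩ := hK.2 c
    have hnl' : (n : C) * (l : C) = c := hnl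
    have h1 : Commute (n : C) ((l : C) * k * (l : C)⁻¹) := (mem_center_iff.1 (hcen n.2) _).symm
    rw [← hnl', show (n : C) * l * k * ((n : C) * l)⁻¹ = n * (l * k * (l : C)⁻¹) * (n : C)⁻¹ by group,
      h1.eq, mul_inv_cancel_right]
    exact mul_mem (mul_mem l.2 hk) (inv_mem l.2)⟩
  have hKc : (Nat.card K).Coprime p := by
    refine (hp.out.coprime_iff_not_dvd.2 ?_).symm
    rwa [← hK.symm.index_eq_card]
  have hKb : K = ⊥ := le_bot_iff.1 ((PCore.le_pPrimeCore inferInstance hKc).trans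
    (PCore.pPrimeCore_eq_bot_of_normal C hO').le)
  have hNtop : N = ⊤ := by
    rw [hKb] at hK
    exact isComplement'_bot_right.1 hK
  intro z hz
  exact h (show (⟨z, hz⟩ : C) ∈ N from hNtop ▸ Subgroup.mem_top _)

/-- Modulo a normal subgroup holding all `p'`-elements, a Sylow subgroup is everything. -/
theorem exists_mul_of_coprime_mem {X : Type*} [Group X] [Finite X] (C : Subgroup X) [C.Normal]
    (A : Sylow p X) (h : ∀ x : X, (orderOf x).Coprime p → x ∈ C) (g : X) :
    ∃ c ∈ C, ∃ a ∈ (A : Subgroup X), c * a = g := by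
  have hq : IsPGroup p (X ⧸ C) := fun z => by
    obtain ⟨x, rfl⟩ := QuotientGroup.mk'_surjective C z
    obtain ⟨a, m, hm, hord⟩ :=
      Nat.exists_eq_pow_mul_and_not_dvd (orderOf_pos x).ne' p hp.out.ne_one
    refine ⟨a, (QuotientGroup.eq_one_iff (x ^ p ^ a)).2 (h _ ?_)⟩
    rw [orderOf_pow, hord, Nat.gcd_mul_right_left, Nat.mul_div_cancel_left _ (pow_pos hp.out.pos a)]
    exact (hp.out.coprime_iff_not_dvd.2 hm).symm
  have h1 := (A.mapSurjective (QuotientGroup.mk'_surjective C)).is_maximal' (Q := ⊤)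
    (IsPGroup.to_subgroup hq ⊤) le_top
  rw [Sylow.coe_mapSurjective] at h1
  obtain ⟨a, ha, hag⟩ := h1 ▸ Subgroup.mem_top (QuotientGroup.mk' C g)
  refine ⟨g * a⁻¹, ?_, a, ha, inv_mul_cancel_right g a⟩
  rw [← QuotientGroup.eq_one_iff, QuotientGroup.mk_mul, QuotientGroup.mk_inv]
  exact mul_inv_eq_one.2 hag.symm

/-- The case `O_{p'}(G) = 1`, `O_p(G) ≠ 1`. -/
theorem rel_of_core_ne_bot {e : ℕ} (hp2 : p ≠ 2) (he : e = 0 ∨ e = p)
    (hqd : ¬ Cfsg.Involves ↥(Cfsg.qd p) G)
    (IH : ∀ L : Subgroup G, L ≠ ⊤ → Ctrl e p L) (IHq : Ctrl e p (G ⧸ Cfsg.pCore p G))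
    (hO' : Cfsg.pPrimeCore p G = ⊥) (hO : Cfsg.pCore p G ≠ ⊥) (P : Sylow p G) {D : Subgroup G}
    (hD : Cfsg.IsStronglyClosed D (P : Subgroup G)) :
    ∀ R : Subgroup G, R ≤ (P : Subgroup G) → ∀ x : G,
      R.map (MulAut.conj x : G →* G) ≤ (P : Subgroup G) → Rel (normalizer (zj e D : Set G)) R x := by
  obtain ⟨Y, hY⟩ : ∃ Y, Y = Cfsg.pCore p G := ⟨_, rfl⟩
  rw [← hY] at hO
  haveI hYn : Y.Normal := by rw [hY]; exact Cfsg.pCore_normal p G
  have hYP : Y ≤ (P : Subgroup G) := hY ▸ PCore.pCore_le_sylow P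
  have hYp : IsPGroup p Y := P.isPGroup'.to_le hYP
  by_cases hc : centralizer (Y : Set G) ≤ Y
  · intro R _ x _
    have := zjClosed_normal (e := e) hp2 he (hY ▸ hc)
      (fun W _ hW => QdStable.isPStableOn_of_not_involves hp2 hqd W hW) P hD
    exact Rel.of_mem (normalizer_eq_top_iff.2 this ▸ Subgroup.mem_top x)
  -- the quotient by `Y`
  set q := QuotientGroup.mk' Y with hq
  by_cases hDY : D ≤ Y
  · intro R _ x _
    have h1 := inf_normal_of_stronglyClosed (B := Y) hD hYP
    have h2 : D.Normal := by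
      have h3 : D ⊓ Y = D := inf_eq_left.2 hDY
      first
        | exact h3 ▸ h1
        | (rw [inf_comm] at h3; exact h3 ▸ h1)
    have h4 : normalizer (zj e D : Set G) = ⊤ := top_le_iff.1
      ((normalizer_eq_top_iff.2 h2).ge.trans (normalizer_le_normalizer_zj e D))
    exact Rel.of_mem (h4 ▸ Subgroup.mem_top x)
  let Pq := P.mapSurjective (QuotientGroup.mk'_surjective Y)
  have hDq : Cfsg.IsStronglyClosed (D.map q) (Pq : Subgroup (G ⧸ Y)) := by
    rw [Sylow.coe_mapSurjective]
    exact stronglyClosed_map_of_le hD hYP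
  set L0 := (normalizer (zj e (D.map q) : Set (G ⧸ Y))).comap q with hL0
  have hL0ne : L0 ≠ ⊤ := by
    intro h
    have h1 : normalizer (zj e (D.map q) : Set (G ⧸ Y)) = ⊤ := by
      rw [hL0, ← Subgroup.comap_top q] at h
      exact Subgroup.comap_injective (QuotientGroup.mk'_surjective Y) h
    have hDqp : IsPGroup p (D.map q) := (P.isPGroup'.to_le hD.1).map q
    have hne : D.map q ≠ ⊥ := by
      rw [Ne, Subgroup.map_eq_bot_iff, hq, QuotientGroup.ker_mk']
      exact hDY
    refine Frobenius.ZJComp.zj_ne_bot he hDqp hne (le_bot_iff.1 ?_)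
    refine (PCore.le_pCore (normalizer_eq_top_iff.1 h1) (hDqp.to_le (zj_le e _))).trans ?_
    subst hY
    exact PCore.pCore_quotient_pCore.le
  have hPL0 : (P : Subgroup G) ≤ L0 := by
    rw [hL0, ← map_le_iff_le_comap]
    have h1 := (le_normalizer_of_stronglyClosed hDq).trans (normalizer_le_normalizer_zj e _)
    rwa [Sylow.coe_mapSurjective] at h1
  refine rel_of_step P hD fun R hRP hR0 hRf big x hx => ?_
  set M := normalizer (zj e D : Set G) with hM
  set L := normalizer (R : Set G) with hL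
  have hxR : R.map (MulAut.conj x : G →* G) = R := mem_normalizer_iff_map_conj_eq.1 hx
  -- we may assume `Y ≤ R`
  have key : ∀ (y : G), y ∈ L → ∀ U : Subgroup G, U ≤ (P : Subgroup G) → ¬ U ≤ R →
      U.map (MulAut.conj y : G →* G) ≤ (P : Subgroup G) → R ≤ U → Rel M R y := fun y _ U hU hUR hUy hRU =>
    (big U hU (lt_of_le_of_ne (Subgroup.card_le_of_le hRU) fun hc =>
      hUR (Subgroup.eq_of_le_of_card_ge hRU hc.ge).ge) y hUy).mono hRU
  have hgrow : ∀ B : Subgroup G, B ≤ (P : Subgroup G) → ¬ B ≤ R →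
      ¬ (R ⊔ B) ⊓ L ≤ R := by
    intro B hB hBR h
    set X := R ⊔ B
    haveI : Group.IsNilpotent X := (P.isPGroup'.to_le (sup_le hRP hB)).isNilpotent
    have hlt : R.subgroupOf X < ⊤ := lt_top_iff_ne_top.2 fun h' =>
      hBR (le_sup_right.trans (subgroupOf_eq_top.1 h'))
    obtain ⟨z, hz, hzn⟩ := SetLike.exists_of_lt (normalizerCondition_of_isNilpotent _ hlt)
    refine hzn (h ⟨z.2, ?_⟩)
    show (z : G) ∈ L
    refine mem_normalizer_iff.2 fun v => ?_
    by_cases hv : v ∈ X
    · exact (mem_normalizer_iff.1 hz ⟨v, hv⟩)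
    · constructor <;> intro hv' <;> exfalso
      · exact hv ((le_sup_left : R ≤ X) hv')
      · refine hv ?_
        have := mul_mem (mul_mem (inv_mem z.2) ((le_sup_left : R ≤ X) hv')) z.2
        simpa [mul_assoc] using this
  by_cases hYR : ¬ Y ≤ R
  · refine key x hx ((R ⊔ Y) ⊓ L) (inf_le_left.trans (sup_le hRP hYP)) (hgrow Y hYP hYR) ?_
      (le_inf le_sup_left le_normalizer)
    rintro _ ⟨v, hv, rfl⟩
    refine sup_le hRP hYP (show x * v * x⁻¹ ∈ R ⊔ Y from ?_)
    obtain ⟨r, hr, y, hy, rfl⟩ := Subgroup.mem_sup_of_normal_right.1 hv.1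
    rw [show x * (r * y) * x⁻¹ = (x * r * x⁻¹) * (x * y * x⁻¹) by group]
    exact mul_mem_sup ((mem_normalizer_iff.1 hx r).1 hr) (hYn.conj_mem y hy x)
  rw [not_not] at hYR
  set C := centralizer (Y : Set G) with hC
  haveI : C.Normal := inferInstance
  by_cases hM1t : C ⊔ (P : Subgroup G) = ⊤
  · -- `G / C(Y)` is a `p`-group
    obtain ⟨lb, hlb, hl⟩ := IHq (P.mapSurjective (QuotientGroup.mk'_surjective (Cfsg.pCore p G)))
      (D.map (QuotientGroup.mk' (Cfsg.pCore p G)))
      (by subst hY; exact hDq) (R.map (QuotientGroup.mk' _))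
      (by rw [Sylow.coe_mapSurjective]; exact Subgroup.map_mono hRP)
      (QuotientGroup.mk' _ x)
      (by
        rw [Sylow.coe_mapSurjective]
        rintro _ ⟨_, ⟨r, hr, rfl⟩, rfl⟩
        exact ⟨_, hRP ((mem_normalizer_iff.1 hx r).1 hr), by simp⟩)
    subst hY
    obtain ⟨l, rfl⟩ := QuotientGroup.mk'_surjective _ lb
    have hlr : ∀ r ∈ R, (l * r * l⁻¹)⁻¹ * (x * r * x⁻¹) ∈ Cfsg.pCore p G := fun r hr => by
      have h1 := hl _ ⟨r, hr, rfl⟩
      rw [← map_inv, ← map_inv, ← map_mul, ← map_mul, ← map_mul, ← map_mul] at h1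
      exact QuotientGroup.eq.1 h1.symm
    have hlR : l ∈ L := mem_normalizer_iff_map_conj_eq.2 (Subgroup.eq_of_le_of_card_ge (by
      rintro _ ⟨r, hr, rfl⟩
      have h1 := mul_mem ((mem_normalizer_iff.1 hx r).1 hr) (inv_mem (hYR (hlr r hr)))
      simpa [mul_assoc] using h1) (card_map_of_injective (MulAut.conj l).injective).ge)
    -- the elements of `L` centralizing `R / Y`
    let K : Subgroup L := (centralizer ((R.map q : Subgroup _) : Set (G ⧸ Cfsg.pCore p G))).comap
      (q.comp L.subtype)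
    haveI : K.Normal := by
      refine ⟨fun k hk g => ?_⟩
      show q (g * k * g⁻¹ : G) ∈ centralizer _
      have hk' : q (k : G) ∈ centralizer _ := hk
      refine mem_centralizer_iff.2 ?_
      rintro _ ⟨r, hr, rfl⟩
      have h1 := mem_centralizer_iff.1 hk' (q ((g : G)⁻¹ * r * g))
        ⟨_, (mem_normalizer_iff''.1 g.2 r).1 hr, rfl⟩
      simp only [map_mul, map_inv] at h1 ⊢
      calc q r * (q g * q k * (q g)⁻¹) = q g * ((q g)⁻¹ * q r * q g * q k) * (q g)⁻¹ := by group
        _ = q g * (q k * ((q g)⁻¹ * q r * q g)) * (q g)⁻¹ := by rw [h1]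
        _ = q g * q k * (q g)⁻¹ * q r := by group
    -- an element of `K` is in `C(R) (P ∩ K)`
    have hKC : ∀ k ∈ K, ∃ c ∈ centralizer (R : Set G), ∃ v ∈ (P : Subgroup G) ⊓ L, c * v = (k : G) := by
      intro k hk
      let PL : Sylow p L := (P.isPGroup'.comap_subtype (K := L)).toSylow hRf
      let A : Sylow p K := ((PL.isPGroup'.to_le (inf_le_left (b := K))).comap_subtype (K := K)).toSylow
        (Techniques.not_dvd_relIndex_inf_normal PL K)
      haveI : (((centralizer (R : Set G)).subgroupOf L).subgroupOf K).Normal := by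
        refine ⟨fun c hc g => ?_⟩
        exact Techniques.centralizer_conj_mem g.1.2 hc
      have hmem : ∀ y : K, (orderOf y).Coprime p →
          y ∈ ((centralizer (R : Set G)).subgroupOf L).subgroupOf K := by
        intro y hy
        -- `y` centralizes `Y` and `R / Y`
        have hyord : (orderOf ((y : L) : G)).Coprime p := by
          simpa using hy
        have hyY : ((y : L) : G) ∈ C := by
          have hGC : IsPGroup p (G ⧸ C) := fun z => by
            obtain ⟨g, rfl⟩ := QuotientGroup.mk'_surjective C z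
            obtain ⟨c, hc, v, hv, rfl⟩ := Subgroup.mem_sup_of_normal_left.1
              (hM1t ▸ Subgroup.mem_top g : g ∈ C ⊔ (P : Subgroup G))
            obtain ⟨n, hn⟩ := P.isPGroup' ⟨v, hv⟩
            refine ⟨n, ?_⟩
            rw [map_mul, show QuotientGroup.mk' C c = 1 from (QuotientGroup.eq_one_iff c).2 hc, one_mul,
              ← map_pow, show v ^ p ^ n = 1 from congrArg Subtype.val hn, map_one]
          obtain ⟨n, hn⟩ := IsPGroup.iff_orderOf.1 hGC (QuotientGroup.mk' C ((y : L) : G))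
          have h1 := orderOf_map_dvd (QuotientGroup.mk' C) ((y : L) : G)
          rw [hn] at h1
          have h2 : p ^ n = 1 := Nat.eq_one_of_dvd_coprimes (hyord.pow_right n) h1 dvd_rfl
          exact (QuotientGroup.eq_one_iff _).1 (orderOf_eq_one_iff.1 (hn.trans h2))
        show ((y : L) : G) ∈ centralizer (R : Set G)
        refine CfsgLib.Coprime.le_centralizer_of_trivial_on_series (zpowers ((y : L) : G)) R
          (zpowers_le.2 (y : L).2) ?_ (Or.inl inferInstance) (Cfsg.pCore p G) hYR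
          (zpowers_le.2 hyY) ?_ (mem_zpowers _)
        · rw [Nat.card_zpowers]
          obtain ⟨n, hn⟩ := IsPGroup.iff_card.1 (P.isPGroup'.to_le hRP)
          rw [hn]
          exact hyord.pow_right n
        · rintro a ⟨i, rfl⟩ r hr
          have h1 : (q ((y : L) : G)) ∈ centralizer _ := y.2
          have h2 := mem_centralizer_iff.1 (zpow_mem h1 i) _ ⟨r, hr, rfl⟩
          rw [← map_zpow, ← map_mul, ← map_mul] at h2
          refine (QuotientGroup.eq_one_iff _).1 ?_
          show q (r⁻¹ * (((y : L) : G) ^ i * r * (((y : L) : G) ^ i)⁻¹)) = 1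
          rw [map_mul, map_mul _ (((y : L) : G) ^ i * r), ← h2, map_mul, map_inv, map_inv]
          group
      obtain ⟨c, hc, v, hv, hcv⟩ := exists_mul_of_coprime_mem
        (((centralizer (R : Set G)).subgroupOf L).subgroupOf K) A hmem ⟨k, hk⟩
      exact ⟨_, hc, _, ⟨hv.1, v.1.2⟩, congrArg (fun z : K => ((z : L) : G)) hcv⟩
    have hd : (⟨l⁻¹ * x, mul_mem (inv_mem hlR) hx⟩ : L) ∈ K := by
      show q (l⁻¹ * x) ∈ centralizer _
      refine mem_centralizer_iff.2 ?_
      rintro _ ⟨r, hr, rfl⟩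
      rw [← map_mul, ← map_mul, hq, QuotientGroup.mk'_apply, QuotientGroup.mk'_apply, QuotientGroup.eq]
      have h1 := hlr r hr
      have h2 := (Cfsg.pCore_normal p G).conj_mem _ h1 x⁻¹
      convert h2 using 1
      group
    obtain ⟨c, hc, v, hv, hcv⟩ := hKC _ hd
    have hvR : R.map (MulAut.conj v : G →* G) = R := mem_normalizer_iff_map_conj_eq.1 hv.2
    refine Rel.congr (y := l * v) (rel_over IH P hD L0 hL0ne hPL0 hRP
      (mul_mem hlb (hPL0 hv.1)) ?_) fun r hr => ?_
    · rw [(mem_normalizer_iff_map_conj_eq.1 (mul_mem hlR hv.2) : R.map (MulAut.conj (l * v) : G →* G) = R)]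
      exact hRP
    · have h1 : c * (v * r * v⁻¹) * c⁻¹ = v * r * v⁻¹ := by
        rw [← mem_centralizer_iff.1 hc _ ((mem_normalizer_iff.1 hv.2 r).1 hr), mul_inv_cancel_right]
      calc x * r * x⁻¹ = l * (l⁻¹ * x) * r * (l * (l⁻¹ * x))⁻¹ := by group
        _ = l * (c * v) * r * (l * (c * v))⁻¹ := by rw [hcv]
        _ = l * (c * (v * r * v⁻¹) * c⁻¹) * l⁻¹ := by group
        _ = l * v * r * (l * v)⁻¹ := by rw [h1]; group
  · -- Frattini argument with `Y C(Y)`
    set H := Y ⊔ C with hH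
    haveI : H.Normal := inferInstance
    have hHM : H ≤ C ⊔ (P : Subgroup G) := sup_le (hYP.trans le_sup_right) le_sup_left
    set Q := (P : Subgroup G) ⊓ H with hQ
    have hQn : normalizer (Q : Set G) ≠ ⊤ := by
      intro h
      refine hc (centralizer_le_of_sylow_inf_le hO' P ?_)
      exact (inf_le_inf_left _ le_sup_right).trans
        (hY ▸ PCore.le_pCore (normalizer_eq_top_iff.1 h) (P.isPGroup'.to_le inf_le_left))
    have hPQ : (P : Subgroup G) ≤ normalizer (Q : Set G) := fun g hg =>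
      Techniques.mem_normalizer_inf (le_normalizer hg)
        (by rw [normalizer_eq_top_iff.2 (inferInstance : H.Normal)]; exact Subgroup.mem_top g)
    let PL : Sylow p L := (P.isPGroup'.comap_subtype (K := L)).toSylow hRf
    obtain ⟨h, hh, n, hn, hhn⟩ := Techniques.exists_eq_mul_normalizer_inf PL (H.subgroupOf L) ⟨x, hx⟩
    have hnR : R.map (MulAut.conj (n : G) : G →* G) = R := mem_normalizer_iff_map_conj_eq.1 n.2
    have hrelh : Rel M R (h : G) := rel_over IH P hD _ hM1t le_sup_right hRP (hHM hh) (by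
      rw [(mem_normalizer_iff_map_conj_eq.1 h.2 : R.map (MulAut.conj (h : G) : G →* G) = R)]
      exact hRP)
    have hreln : Rel M R (n : G) := by
      by_cases hQR : Q ≤ R
      · refine rel_over IH P hD _ hQn hPQ hRP ?_ (hnR.le.trans hRP)
        have h1 : ((PL : Subgroup L) ⊓ H.subgroupOf L).map L.subtype = Q := by
          refine le_antisymm ?_ fun z hz => ?_
          · rintro _ ⟨z, hz, rfl⟩; exact hz
          · exact ⟨⟨z, le_normalizer (hQR hz)⟩, hz, rfl⟩
        rw [← h1]
        exact le_normalizer_map L.subtype ⟨n, hn, rfl⟩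
      · refine key _ n.2 ((R ⊔ (Q ⊓ L))) (sup_le hRP (inf_le_left.trans inf_le_left)) ?_ ?_ le_sup_left
        · intro hle
          refine hgrow Q inf_le_left hQR ?_
          intro z hz
          obtain ⟨r, hr, v, hv, rfl⟩ := Techniques.exists_mul_of_mem_sup (hRP.trans hPQ) hz.1
          refine mul_mem hr (hle ((le_sup_right : Q ⊓ L ≤ R ⊔ Q ⊓ L) ⟨hv, ?_⟩))
          simpa using mul_mem (inv_mem (le_normalizer hr : r ∈ L)) hz.2
        · rw [Subgroup.map_sup, hnR]
          refine sup_le hRP ?_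
          rintro _ ⟨v, hv, rfl⟩
          have h1 := (mem_normalizer_iff.1 hn ⟨v, hv.2⟩).1 ⟨hv.1.1, hv.1.2⟩
          exact h1.1
    have h3 : Rel M R ((h : G) * n) := hreln.mul (by rwa [hnR])
    rwa [show ((h : G) * n) = x from congrArg Subtype.val hhn] at h3

/-- Groups not involving `Qd(p)`: the normalizers of the centres of the Thompson subgroups of a
strongly closed subgroup control strong fusion. -/
theorem ctrl_of_not_involves {e : ℕ} (hp2 : p ≠ 2) (he : e = 0 ∨ e = p)
    (hqd : ¬ Cfsg.Involves ↥(Cfsg.qd p) G) : Ctrl e p G := by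
  suffices key : ∀ (n : ℕ) (G : Type u) [Group G] [Finite G], Nat.card G = n →
      ¬ Cfsg.Involves ↥(Cfsg.qd p) G → Ctrl e p G from key _ G rfl hqd
  intro n
  induction n using Nat.strong_induction_on with
  | _ n ih =>
    intro G _ _ hn hqd P D hD R hR x hx
    rcases eq_or_ne D ⊥ with hD0 | hD0
    · have : normalizer (zj e D : Set G) = ⊤ := normalizer_eq_top_iff.2 (by
        rw [le_bot_iff.1 ((zj_le e D).trans hD0.le)]; infer_instance)
      exact Rel.of_mem (this ▸ Subgroup.mem_top x)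
    have IH : ∀ L : Subgroup G, L ≠ ⊤ → Ctrl e p L := fun L hL =>
      ih _ (hn ▸ (Subgroup.card_le_card_group L).lt_of_ne fun h => hL (Subgroup.eq_top_of_card_eq L h))
        L rfl (QdStable.not_involves_subgroup hqd L)
    have IHq : ∀ (N : Subgroup G) [N.Normal], N ≠ ⊥ → Ctrl e p (G ⧸ N) := fun N _ hN =>
      ih _ (by
        rw [← hn, ← Subgroup.card_mul_index N]
        exact lt_mul_of_one_lt_left (Nat.pos_of_ne_zero Subgroup.index_ne_zero_of_finite)
          (Subgroup.one_lt_card_iff_ne_bot N |>.2 hN))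
        (G ⧸ N) rfl (QdStable.not_involves_quotient hqd N)
    by_cases hO' : Cfsg.pPrimeCore p G = ⊥
    · by_cases hO : Cfsg.pCore p G = ⊥
      · exact rel_of_cores_trivial he IH hO P hD hD0 R hR x hx
      · exact rel_of_core_ne_bot hp2 he hqd IH (IHq _ hO) hO' hO P hD R hR x hx
    · exact rel_of_quotient _ PCore.pPrimeCore_coprime (IHq _ hO') P hD hR hx

end CfsgLib.LocalEvenSix.QdControl
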