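import Mathlib.GroupTheory.Sylow
import Mathlib.GroupTheory.Nilpotent
import Mathlib.Logic.Relation
import Mathlib.Data.Fin.Tuple.Basic
import Cfsg.Prelude.Def_SylowChains

/-!
# Strongly p-embedded subgroups (classical condition) and chains of Sylow subgroups
-/

set_option autoImplicit false

namespace CfsgLib.LocalEvenSix

open Subgroup Pointwise

variable {G : Type*} [Group G] [Finite G] {p : ℕ} [Fact p.Prime]

/-- The classical strong embedding condition. -/
def SEc (p : ℕ) (H : Subgroup G) : Prop :=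
  ∀ g : G, g ∉ H → ¬ p ∣ Nat.card ↥(H ⊓ H.map (MulAut.conj g).toMonoidHom)

theorem exists_orderOf_eq_of_dvd {X : Subgroup G} (h : p ∣ Nat.card X) :
    ∃ x ∈ X, orderOf x = p := by
  obtain ⟨x, hx⟩ := exists_prime_orderOf_dvd_card' (G := X) p h
  exact ⟨x, x.2, by rwa [Subgroup.orderOf_coe]⟩

theorem dvd_card_of_orderOf {X : Subgroup G} {x : G} (hx : x ∈ X) (ho : orderOf x = p) :
    p ∣ Nat.card X := ho ▸ Subgroup.orderOf_dvd_natCard X hx

theorem dvd_card_of_ne_bot {X : Subgroup G} (hX : IsPGroup p X) (h : X ≠ ⊥) : p ∣ Nat.card X := by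
  have : Nontrivial X := X.nontrivial_iff_ne_bot.mpr h
  obtain ⟨n, hn, hc⟩ := IsPGroup.nontrivial_iff_card hX |>.mp this
  rw [hc]; exact dvd_pow_self p (Nat.pos_iff_ne_zero.mp hn)

theorem SEc.mem_of_conj {H : Subgroup G} (hse : SEc p H) {x g : G} (hxH : x ∈ H)
    (hx : orderOf x = p) (hgx : g⁻¹ * x * g ∈ H) : g ∈ H := by
  by_contra hg
  refine hse g hg (dvd_card_of_orderOf (x := x) ⟨hxH, ⟨g⁻¹ * x * g, hgx, ?_⟩⟩ hx)
  simp [mul_assoc]

theorem SEc.normalizer_le {H : Subgroup G} (hse : SEc p H) {X : Subgroup G} (hXH : X ≤ H)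
    (hX : p ∣ Nat.card X) : normalizer (X : Set G) ≤ H := by
  intro g hg
  obtain ⟨x, hx, ho⟩ := exists_orderOf_eq_of_dvd hX
  exact hse.mem_of_conj (hXH hx) ho (hXH ((mem_normalizer_iff''.mp hg x).mp hx))

/-- A `p`-subgroup meeting `H` nontrivially lies in `H`. -/
theorem SEc.le_of_inf_ne_bot {H : Subgroup G} (hse : SEc p H) {Q : Subgroup G} (hQ : IsPGroup p Q)
    (h : Q ⊓ H ≠ ⊥) : Q ≤ H := by
  by_contra hne
  have hlt : (Q ⊓ H).subgroupOf Q < ⊤ := by
    rw [lt_top_iff_ne_top, Ne, subgroupOf_eq_top]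
    exact fun h' => hne (h'.trans inf_le_right)
  have : Group.IsNilpotent Q := hQ.isNilpotent
  obtain ⟨⟨y, hyQ⟩, hy, hyD⟩ := SetLike.exists_of_lt (normalizerCondition_of_isNilpotent _ hlt)
  obtain ⟨x, hx, ho⟩ :=
    exists_orderOf_eq_of_dvd (dvd_card_of_ne_bot (hQ.to_le inf_le_left) h)
  have hxy : y⁻¹ * x * y ∈ Q ⊓ H :=
    (mem_normalizer_iff''.mp hy ⟨x, hx.1⟩).mp hx
  exact hyD ⟨hyQ, hse.mem_of_conj hx.2 ho hxy.2⟩

/-- A strongly embedded subgroup contains a Sylow subgroup. -/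
theorem SEc.exists_sylow {H : Subgroup G} (hse : SEc p H) (hp : p ∣ Nat.card H) :
    ∃ P : Sylow p G, (P : Subgroup G) ≤ H := by
  obtain ⟨x, hx, ho⟩ := exists_orderOf_eq_of_dvd hp
  have hpg : IsPGroup p (zpowers x) :=
    IsPGroup.of_card (n := 1) (by rw [Nat.card_zpowers, ho, pow_one])
  obtain ⟨P, hP⟩ := hpg.exists_le_sylow
  refine ⟨P, hse.le_of_inf_ne_bot P.isPGroup' fun h => ?_⟩
  have : x ∈ (⊥ : Subgroup G) := h ▸ ⟨hP (mem_zpowers x), hx⟩
  rw [mem_bot] at this
  rw [this, orderOf_one] at ho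
  exact (Fact.out : p.Prime).ne_one ho.symm

theorem SEc.dvd_card_inf_normal {H : Subgroup G} (hse : SEc p H) (hp : p ∣ Nat.card H)
    (N : Subgroup G) [N.Normal] (hN : p ∣ Nat.card N) : p ∣ Nat.card ↥(H ⊓ N) := by
  obtain ⟨P, hP⟩ := hse.exists_sylow hp
  obtain ⟨x, hx, ho⟩ := exists_orderOf_eq_of_dvd hN
  have hpg : IsPGroup p (zpowers x) :=
    IsPGroup.of_card (n := 1) (by rw [Nat.card_zpowers, ho, pow_one])
  obtain ⟨Q, hQ⟩ := hpg.exists_le_sylow
  obtain ⟨g, rfl⟩ := MulAction.exists_smul_eq G P Q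
  have hxP : g⁻¹ * x * g ∈ (P : Subgroup G) := by
    have := hQ (mem_zpowers x)
    rw [Sylow.coe_subgroup_smul, mem_pointwise_smul_iff_inv_smul_mem] at this
    simpa [MulAut.smul_def, mul_assoc] using this
  refine dvd_card_of_orderOf (x := g⁻¹ * x * g)
    ⟨hP hxP, by simpa using ‹N.Normal›.conj_mem x hx g⁻¹⟩ ?_
  rw [← ho]
  simpa using (orderOf_injective (MulAut.conj g⁻¹).toMonoidHom (MulAut.conj g⁻¹).injective x)

/-- Frattini: `G = H N` for a normal subgroup `N` of order divisible by `p`. -/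
theorem SEc.sup_normal_eq_top {H : Subgroup G} (hse : SEc p H) (hp : p ∣ Nat.card H)
    (N : Subgroup G) [N.Normal] (hN : p ∣ Nat.card N) : H ⊔ N = ⊤ := by
  obtain ⟨P, hP⟩ := hse.exists_sylow hp
  obtain ⟨x, hx, ho⟩ := exists_orderOf_eq_of_dvd (hse.dvd_card_inf_normal hp N hN)
  obtain ⟨S, hS⟩ := (IsPGroup.of_card (n := 1) (G := zpowers (⟨x, hx.2⟩ : N))
    (by rw [Nat.card_zpowers, Subgroup.orderOf_mk, ho, pow_one])).exists_le_sylow (p := p)
  have hxS : x ∈ (S : Subgroup N).map N.subtype := ⟨_, hS (mem_zpowers _), rfl⟩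
  have hSH : (S : Subgroup N).map N.subtype ≤ H := by
    refine hse.le_of_inf_ne_bot (S.isPGroup'.map _) fun h => ?_
    have : x ∈ (⊥ : Subgroup G) := h ▸ ⟨hxS, hx.1⟩
    rw [mem_bot] at this
    rw [this, orderOf_one] at ho
    exact (Fact.out : p.Prime).ne_one ho.symm
  have hle := hse.normalizer_le hSH (dvd_card_of_orderOf hxS ho)
  exact top_le_iff.mp ((Sylow.normalizer_sup_eq_top S).ge.trans (sup_le_sup_right hle _))

/-- Adjacency of Sylow subgroups. -/
def SylAdj (p : ℕ) (S T : Sylow p G) : Prop :=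
  S ≠ T ∧ (S : Subgroup G) ⊓ (T : Subgroup G) ≠ ⊥

/-- Reachability in the graph of Sylow subgroups. -/
def SylReach (p : ℕ) (S T : Sylow p G) : Prop := Relation.ReflTransGen (SylAdj p) S T

theorem SylReach.symm {S T : Sylow p G} (h : SylReach p S T) : SylReach p T S := by
  induction h with
  | refl => exact .refl
  | tail _ hadj ih => exact Relation.ReflTransGen.head ⟨hadj.1.symm, by rw [inf_comm]; exact hadj.2⟩ ih

theorem SylReach.smul {S T : Sylow p G} (g : G) (h : SylReach p S T) :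
    SylReach p (g • S) (g • T) := by
  refine Relation.ReflTransGen.lift (fun S : Sylow p G => g • S) (fun A B hAB => ?_) _ _ h
  refine ⟨?_, ?_⟩
  · exact fun h => hAB.1 (MulAction.injective g h)
  · rw [Sylow.coe_subgroup_smul, Sylow.coe_subgroup_smul, ← Subgroup.smul_inf]
    intro h0
    apply hAB.2
    have := congrArg (fun X => (MulAut.conj g)⁻¹ • X) h0
    simpa using this

theorem chainConnected_iff :
    Cfsg.IsSylowChainConnected p G ↔ ∀ S T : Sylow p G, SylReach p S T := by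
  constructor
  · intro h S T
    obtain ⟨n, c, h0, hl, -, hadj⟩ := h S T
    subst h0 hl
    have : ∀ i : Fin (n + 1), SylReach p (c 0) (c i) := fun i => by
      induction i using Fin.induction with
      | zero => exact .refl
      | succ i ih => exact ih.tail (hadj i)
    exact this _
  · intro h S T
    rcases eq_or_ne ((S : Subgroup G) ⊓ (T : Subgroup G)) ⊥ with hb | hb
    · suffices ∀ U, SylReach p S U → ∃ (n : ℕ) (c : Fin (n + 1) → Sylow p G), c 0 = S ∧
          c (Fin.last n) = U ∧ ∀ i : Fin n, SylAdj p (c i.castSucc) (c i.succ) by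
        obtain ⟨n, c, h0, hl, ha⟩ := this T (h S T)
        exact ⟨n, c, h0, hl, fun i => by rw [hb]; exact bot_le, ha⟩
      intro U hU
      induction hU with
      | refl => exact ⟨0, fun _ => S, rfl, rfl, fun i => i.elim0⟩
      | @tail B C _ hadj ih =>
        obtain ⟨n, c, h0, hl, ha⟩ := ih
        refine ⟨n + 1, Fin.snoc c C, ?_, Fin.snoc_last _ _, fun i => ?_⟩
        · rw [show (0 : Fin (n + 1 + 1)) = Fin.castSucc 0 from rfl, Fin.snoc_castSucc, h0]
        · induction i using Fin.lastCases with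
          | last => rw [Fin.snoc_castSucc, Fin.succ_last, Fin.snoc_last, hl]; exact hadj
          | cast j => rw [Fin.succ_castSucc, Fin.snoc_castSucc, Fin.snoc_castSucc]; exact ha j
    · rcases eq_or_ne S T with rfl | hST
      · exact ⟨0, fun _ => S, rfl, rfl, fun _ => inf_le_left, fun i => i.elim0⟩
      · refine ⟨1, ![S, T], rfl, rfl, fun i => ?_, fun i => ?_⟩
        · fin_cases i
          · exact inf_le_left
          · exact inf_le_right
        · fin_cases i
          exact ⟨hST, hb⟩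

theorem SEc.not_chainConnected {H : Subgroup G} (hse : SEc p H) (hH : H ≠ ⊤)
    (hp : p ∣ Nat.card H) : ¬ Cfsg.IsSylowChainConnected p G := by
  rw [chainConnected_iff]
  intro hc
  obtain ⟨P, hP⟩ := hse.exists_sylow hp
  obtain ⟨g, -, hg⟩ := SetLike.exists_of_lt (lt_top_iff_ne_top.mpr hH)
  have hall : ∀ T : Sylow p G, SylReach p P T → (T : Subgroup G) ≤ H := by
    intro T hT
    induction hT with
    | refl => exact hP
    | @tail B C _ hadj ih =>
      refine hse.le_of_inf_ne_bot C.isPGroup' fun h => hadj.2 (le_bot_iff.mp ?_)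
      exact le_trans (le_inf inf_le_right (inf_le_left.trans ih)) h.le
  obtain ⟨x, hx, ho⟩ := exists_orderOf_eq_of_dvd (Sylow.dvd_card_of_dvd_card P
    (hp.trans (Subgroup.card_subgroup_dvd_card H)))
  have hgx : g * x * g⁻¹ ∈ ((g • P : Sylow p G) : Subgroup G) := by
    rw [Sylow.coe_subgroup_smul]
    exact ⟨x, hx, rfl⟩
  refine hg (hse.mem_of_conj (x := g * x * g⁻¹) (hall _ (hc P _) hgx) ?_ (by simpa [mul_assoc] using hP hx))
  rw [← ho]
  simpa using (orderOf_injective (MulAut.conj g).toMonoidHom (MulAut.conj g).injective x)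

theorem exists_SEc_of_not_chainConnected (hc : ¬ Cfsg.IsSylowChainConnected p G) :
    ∃ H : Subgroup G, H ≠ ⊤ ∧ p ∣ Nat.card H ∧ SEc p H := by
  rw [chainConnected_iff] at hc
  push Not at hc
  obtain ⟨P, T, hPT⟩ := hc
  let H : Subgroup G :=
    { carrier := {g | SylReach p P (g • P)}
      one_mem' := by rw [Set.mem_setOf_eq, one_smul]; exact .refl
      mul_mem' := fun {a b} ha hb => by
        rw [Set.mem_setOf_eq, mul_smul]
        exact ha.trans (hb.smul a)
      inv_mem' := fun {a} ha => by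
        have := (SylReach.symm ha).smul a⁻¹
        rwa [inv_smul_smul] at this }
  have hPH : (P : Subgroup G) ≤ H := fun x hx => by
    show SylReach p P (x • P)
    rw [Sylow.smul_eq_iff_mem_normalizer.mpr (Subgroup.le_normalizer hx)]
    exact .refl
  refine ⟨H, ?_, ?_, ?_⟩
  · intro h
    obtain ⟨g, rfl⟩ := MulAction.exists_smul_eq G P T
    exact hPT (show g ∈ H from h ▸ Subgroup.mem_top g)
  · refine (dvd_card_of_ne_bot P.isPGroup' fun h => hPT ?_).trans (Subgroup.card_dvd_of_le hPH)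
    obtain ⟨g, rfl⟩ := MulAction.exists_smul_eq G P T
    have : g • P = P := Sylow.ext (by rw [Sylow.coe_subgroup_smul, h, Subgroup.smul_bot])
    rw [this]; exact .refl
  · intro g hg hd
    obtain ⟨x, ⟨hxH, hxg⟩, ho⟩ := exists_orderOf_eq_of_dvd hd
    obtain ⟨y, hyH, hyx⟩ := hxg
    -- every `p`-element of `H` lies in a member of the component
    have hcomp : ∀ z ∈ H, orderOf z = p → ∃ U : Sylow p G, z ∈ U ∧ SylReach p P U := by
      intro z hz hzo
      obtain ⟨R, hR⟩ := (IsPGroup.of_card (n := 1) (G := zpowers (⟨z, hz⟩ : H))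
        (by rw [Nat.card_zpowers, Subgroup.orderOf_mk, hzo, pow_one])).exists_le_sylow (p := p)
      obtain ⟨h, hh⟩ := MulAction.exists_smul_eq H (P.subtype hPH) R
      refine ⟨(h : G) • P, ?_, h.2⟩
      have hzR : (⟨z, hz⟩ : H) ∈ (R : Subgroup H) := hR (mem_zpowers _)
      rw [← hh, Sylow.coe_subgroup_smul, mem_pointwise_smul_iff_inv_smul_mem] at hzR
      show z ∈ (((h : G) • P : Sylow p G) : Subgroup G)
      rw [Sylow.coe_subgroup_smul, mem_pointwise_smul_iff_inv_smul_mem]
      simpa [MulAut.smul_def, Sylow.coe_subtype, mem_subgroupOf] using hzR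
    have hy : orderOf y = p := by
      rw [← ho, ← hyx]
      exact (orderOf_injective (MulAut.conj g).toMonoidHom (MulAut.conj g).injective y).symm
    obtain ⟨U₁, hx1, hr1⟩ := hcomp x hxH ho
    obtain ⟨U₂, hy2, hr2⟩ := hcomp y hyH hy
    have hx2 : x ∈ ((g • U₂ : Sylow p G) : Subgroup G) := by
      rw [Sylow.coe_subgroup_smul, ← hyx]
      exact ⟨y, hy2, rfl⟩
    have hr12 : SylReach p U₁ (g • U₂) := by
      rcases eq_or_ne U₁ (g • U₂) with h | h
      · exact h ▸ .refl
      · refine .single ⟨h, fun hb => ?_⟩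
        have : x ∈ (⊥ : Subgroup G) := hb ▸ ⟨hx1, hx2⟩
        rw [mem_bot] at this
        rw [this, orderOf_one] at ho
        exact (Fact.out : p.Prime).ne_one ho.symm
    exact hg ((hr1.trans hr12).trans ((SylReach.symm hr2).smul g))

end CfsgLib.LocalEvenSix
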