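import Cfsg.Agent.Lib.Tech46.AlperinGoldschmidt
import Cfsg.Agent.Lib.LocalEvenSix.StronglyP
import Cfsg.Agent.Lib.Transfer.NormalComplement
import Cfsg.Agent.S3058

/-!
# A conjugation family with chain-disconnected automizers

The members `H` of the family are centric, radical, fully normalized, and `N(H) / H` is not chain connected;
the factors lie in `O^p` of the smallest normal subgroup of `N(H) / H` of order divisible by `p`.
-/

set_option autoImplicit false
set_option linter.unusedSectionVars false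
set_option linter.style.haveILetI false

namespace CfsgLib.LocalEvenSix.AlperinStrong

open Subgroup Cfsg.Tech46.AlpGold CfsgLib.Techniques CfsgLib.Techniques.Fusion CfsgLib.PCore

variable {G : Type*} [Group G] [Finite G] {p : ℕ} [hp : Fact p.Prime]

/-- Transport of chain connectedness. -/
theorem chainConnected_equiv {A B : Type*} [Group A] [Group B] [Finite A] [Finite B] (e : A ≃* B)
    (h : Cfsg.IsSylowChainConnected p A) : Cfsg.IsSylowChainConnected p B := by
  rw [chainConnected_iff] at h ⊢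
  intro S T
  let f : Sylow p A → Sylow p B := fun X => X.mapSurjective (f := e.toMonoidHom) e.surjective
  have hf : ∀ X : Sylow p B, ∃ Y, f Y = X := Sylow.mapSurjective_surjective (f := e.toMonoidHom) e.surjective p
  obtain ⟨S', rfl⟩ := hf S
  obtain ⟨T', rfl⟩ := hf T
  refine Relation.ReflTransGen.lift f (fun X Y hXY => ?_) _ _ (h S' T')
  have hinj : Function.Injective e.toMonoidHom := e.injective
  refine ⟨fun he => hXY.1 (Sylow.ext (map_injective hinj ?_)), fun he => hXY.2 ?_⟩
  · simpa [f] using congrArg (fun Z : Sylow p B => (Z : Subgroup B)) he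
  · have he' : (X : Subgroup A).map e.toMonoidHom ⊓ (Y : Subgroup A).map e.toMonoidHom = ⊥ := he
    rw [← map_inf _ _ _ hinj] at he'
    exact (Subgroup.map_eq_bot_iff_of_injective _ hinj).1 he'

/-- Transport of `O_{p',p}`. -/
theorem map_pPrimePCore_equiv {A B : Type*} [Group A] [Group B] [Finite A] [Finite B] (e : A ≃* B) :
    (Cfsg.pPrimePCore p A).map e.toMonoidHom = Cfsg.pPrimePCore p B := by
  let eb : A ⧸ Cfsg.pPrimeCore p A ≃* B ⧸ Cfsg.pPrimeCore p B :=
    QuotientGroup.congr _ _ e (map_pPrimeCore_equiv e)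
  ext b
  obtain ⟨a, rfl⟩ := e.surjective b
  rw [mem_map_equiv, e.symm_apply_apply]
  show QuotientGroup.mk' _ a ∈ Cfsg.pCore p (A ⧸ _) ↔ QuotientGroup.mk' _ (e a) ∈ Cfsg.pCore p (B ⧸ _)
  rw [← map_pCore_equiv (p := p) eb, mem_map_equiv]
  rw [show eb.symm (QuotientGroup.mk' _ (e a)) = QuotientGroup.mk' _ a from
    eb.injective (by rw [eb.apply_symm_apply]; rfl)]

/-- `X / H` is the smallest normal subgroup of `N(H) / H` of order divisible by `p`. -/
def Smallest (p : ℕ) (H X : Subgroup G) : Prop :=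
  H ≤ X ∧ X ≤ normalizer (H : Set G) ∧ (X.subgroupOf (normalizer (H : Set G))).Normal ∧
    p ∣ H.relIndex X ∧
    ∀ Y : Subgroup G, H ≤ Y → Y ≤ normalizer (H : Set G) →
      (Y.subgroupOf (normalizer (H : Set G))).Normal → p ∣ H.relIndex Y → X ≤ Y

/-- An admissible factor. -/
def Good (P : Sylow p G) (s : Subgroup G × G) : Prop :=
  s.1 ≤ (P : Subgroup G) ∧
  ¬ p ∣ ((P : Subgroup G) ⊓ normalizer (s.1 : Set G)).relIndex (normalizer (s.1 : Set G)) ∧
  (P : Subgroup G) ⊓ centralizer (s.1 : Set G) ≤ s.1 ∧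
  (Cfsg.pPrimePCore p ↥(normalizer (s.1 : Set G))).map (normalizer (s.1 : Set G)).subtype =
    s.1 ⊔ centralizer (s.1 : Set G) ∧
  ¬ Cfsg.IsSylowChainConnected p
    (↥(normalizer (s.1 : Set G)) ⧸ s.1.subgroupOf (normalizer (s.1 : Set G))) ∧
  ∃ X : Subgroup G, Smallest p s.1 X ∧ s.2 ∈ (Cfsg.pResidual p ↥X).map X.subtype

theorem smallest_map {H X : Subgroup G} (σ : G ≃* G) (h : Smallest p H X) :
    Smallest p (H.map σ.toMonoidHom) (X.map σ.toMonoidHom) := by
  have hN : ∀ K : Subgroup G, normalizer ((K.map σ.toMonoidHom : Subgroup G) : Set G) =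
      (normalizer (K : Set G)).map σ.toMonoidHom := fun K => (map_equiv_normalizer_eq K σ).symm
  obtain ⟨h1, h2, h3, h4, h5⟩ := h
  refine ⟨map_mono h1, (map_mono h2).trans (hN H).ge, ?_,
    by rwa [relIndex_map_map_of_injective _ _ σ.injective], ?_⟩
  · rw [normal_subgroupOf_iff_le_normalizer ((map_mono h2).trans (hN H).ge), hN, hN]
    exact map_mono ((normal_subgroupOf_iff_le_normalizer h2).1 h3)
  · intro Y hY1 hY2 hY3 hY4
    obtain ⟨Y', rfl⟩ : ∃ Y' : Subgroup G, Y'.map σ.toMonoidHom = Y :=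
      ⟨_, map_comap_eq_self_of_surjective σ.surjective Y⟩
    rw [map_le_map_iff_of_injective σ.injective] at hY1 ⊢
    have hY2' : Y' ≤ normalizer (H : Set G) := by
      rwa [hN, map_le_map_iff_of_injective σ.injective] at hY2
    refine h5 Y' hY1 hY2' ?_ (by rwa [relIndex_map_map_of_injective _ _ σ.injective] at hY4)
    rw [normal_subgroupOf_iff_le_normalizer hY2]at hY3
    rw [normal_subgroupOf_iff_le_normalizer hY2']
    rwa [hN, hN, map_le_map_iff_of_injective σ.injective] at hY3

/-- Conjugation by an element normalizing `P` preserves the family. -/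
theorem good_map (P : Sylow p G) (σ : G ≃* G)
    (hP : (P : Subgroup G).map σ.toMonoidHom = (P : Subgroup G)) {s : Subgroup G × G} (h : Good P s) :
    Good P (s.1.map σ.toMonoidHom, σ s.2) := by
  obtain ⟨H, x⟩ := s
  obtain ⟨h1, h2, h3, h4, h5, X, hX, hx⟩ := h
  set N := normalizer (H : Set G) with hN
  set H' := H.map σ.toMonoidHom with hH'
  set N' := normalizer (H' : Set G) with hN'
  have hNN : N.map σ.toMonoidHom = N' := map_equiv_normalizer_eq H σ
  have hC : centralizer (H' : Set G) = (centralizer (H : Set G)).map σ.toMonoidHom := by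
    ext g
    obtain ⟨a, rfl⟩ := σ.surjective g
    rw [mem_map_equiv, σ.symm_apply_apply, mem_centralizer_iff, mem_centralizer_iff]
    constructor
    · intro hh b hb
      have := hh (σ b) ⟨b, hb, rfl⟩
      rw [← map_mul, ← map_mul] at this
      exact σ.injective this
    · rintro hh _ ⟨b, hb, rfl⟩
      show σ b * σ a = σ a * σ b
      rw [← map_mul, ← map_mul, hh b hb]
  let e : N ≃* N' := (N.equivMapOfInjective σ.toMonoidHom σ.injective).trans (MulEquiv.subgroupCongr hNN)
  have he : ∀ n : N, ((e n : N') : G) = σ n := fun n => rfl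
  refine ⟨(map_mono h1).trans hP.le, ?_, ?_, ?_, ?_, X.map σ.toMonoidHom, smallest_map σ hX, ?_⟩
  · show ¬ p ∣ ((P : Subgroup G) ⊓ N').relIndex N'
    conv in (occs := 1) (P : Subgroup G) => rw [← hP]
    rw [← hNN, ← map_inf _ _ _ σ.injective, relIndex_map_map_of_injective _ _ σ.injective]
    exact h2
  · show (P : Subgroup G) ⊓ centralizer (H' : Set G) ≤ H'
    rw [hC, ← hP, ← map_inf _ _ _ σ.injective]
    exact map_mono h3
  · show (Cfsg.pPrimePCore p N').map N'.subtype = H' ⊔ centralizer (H' : Set G)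
    rw [hC, hH', ← Subgroup.map_sup, ← h4, ← map_pPrimePCore_equiv e, Subgroup.map_map, Subgroup.map_map]
    rfl
  · intro hc
    haveI hn1 : (H.subgroupOf N).Normal :=
      (normal_subgroupOf_iff_le_normalizer le_normalizer).2 le_rfl
    haveI hn2 : (H'.subgroupOf N').Normal :=
      (normal_subgroupOf_iff_le_normalizer le_normalizer).2 le_rfl
    refine h5 (chainConnected_equiv (QuotientGroup.congr _ _ e ?_).symm hc)
    ext n
    obtain ⟨a, rfl⟩ := e.surjective n
    show e a ∈ (H.subgroupOf N).map e.toMonoidHom ↔ e a ∈ H'.subgroupOf N'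
    rw [mem_map_equiv, e.symm_apply_apply, mem_subgroupOf, mem_subgroupOf, he, hH', mem_map_equiv,
      σ.symm_apply_apply]
  · show σ x ∈ _
    obtain ⟨z, hz, rfl⟩ := hx
    let eX : X ≃* X.map σ.toMonoidHom := X.equivMapOfInjective σ.toMonoidHom σ.injective
    refine ⟨eX z, ?_, rfl⟩
    rw [← CfsgLib.Transfer.map_pResidual_of_surjective eX.toMonoidHom eX.surjective]
    exact mem_map_of_mem _ hz

/-- The factors carry `A` along inside the members. -/
def Moves (P : Sylow p G) : Set G → List (Subgroup G × G) → Prop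
  | _, [] => True
  | A, s :: L => Good P s ∧ A ⊆ (s.1 : Set G) ∧ Moves P (cj s.2 A) L

theorem Moves.mono {P : Sylow p G} : ∀ {L : List (Subgroup G × G)} {A B : Set G},
    A ⊆ B → Moves P B L → Moves P A L
  | [], _, _, _, _ => trivial
  | _ :: _, _, _, h, ⟨h1, h2, h3⟩ => ⟨h1, h.trans h2, Moves.mono (cj_mono h) h3⟩

theorem Moves.append {P : Sylow p G} : ∀ {L L' : List (Subgroup G × G)} {A : Set G},
    Moves P A L → Moves P (cj (val L) A) L' → Moves P A (L ++ L')
  | [], _, _, _, h => by simpa [val, cj_one] using h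
  | s :: L, L', A, ⟨h1, h2, h3⟩, h => ⟨h1, h2, Moves.append h3 (by rwa [val_cons, cj_mul] at h)⟩

theorem Moves.good {P : Sylow p G} : ∀ {L : List (Subgroup G × G)} {A : Set G},
    Moves P A L → ∀ i (hi : i < L.length),
      Good P L[i] ∧ cj (val (L.take i)) A ⊆ ((L[i]).1 : Set G)
  | [], _, _, i, hi => absurd hi (by simp)
  | s :: L, A, ⟨h1, h2, h3⟩, 0, _ => ⟨h1, by simpa [val, cj_one] using h2⟩
  | s :: L, A, ⟨h1, h2, h3⟩, i + 1, hi => by
    obtain ⟨g1, g2⟩ := Moves.good h3 i (by simpa using hi)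
    refine ⟨g1, ?_⟩
    rw [List.take_succ_cons, val_cons, cj_mul]
    exact g2

/-- Conjugate a list of factors. -/
def shift (y : G) (L : List (Subgroup G × G)) : List (Subgroup G × G) :=
  L.map fun s => (s.1.map (MulAut.conj y).toMonoidHom, MulAut.conj y s.2)

theorem val_shift (y : G) (L : List (Subgroup G × G)) : val (shift y L) = y * val L * y⁻¹ := by
  induction L with
  | nil => simp [shift, val]
  | cons s L ih =>
    rw [shift, List.map_cons, val_cons, ← shift, ih, val_cons]
    show y * s.2 * y⁻¹ * (y * val L * y⁻¹) = _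
    group

theorem Moves.shift {P : Sylow p G} {y : G} (hy : y ∈ normalizer ((P : Subgroup G) : Set G)) :
    ∀ {L : List (Subgroup G × G)} {A : Set G}, Moves P (cj y A) L → Moves P A (AlperinStrong.shift y L)
  | [], _, _ => trivial
  | s :: L, A, ⟨h1, h2, h3⟩ => by
    refine ⟨good_map P (MulAut.conj y) (map_conj_eq_self_iff.2 hy) h1, fun a ha => ?_, Moves.shift hy ?_⟩
    · exact mem_map_conj.2 (h2 ⟨a, ha, rfl⟩)
    · rw [← cj_mul, show MulAut.conj y s.2 * y = y * s.2 by simp, cj_mul]
      exact h3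

/-- `g` decomposes along the family on `D`. -/
def Dec (P : Sylow p G) (D : Subgroup G) (g : G) : Prop :=
  ∃ L : List (Subgroup G × G), ∃ c ∈ centralizer (D : Set G), ∃ y ∈ normalizer ((P : Subgroup G) : Set G),
    g = c * val L * y ∧ Moves P (D : Set G) L

theorem Dec.mono {P : Sylow p G} {D D' : Subgroup G} {g : G} (hle : D ≤ D') (h : Dec P D' g) : Dec P D g := by
  obtain ⟨L, c, hc, y, hy, he, hL⟩ := h
  exact ⟨L, c, centralizer_le (SetLike.coe_subset_coe.mpr hle) hc, y, hy, he,
    hL.mono (SetLike.coe_subset_coe.mpr hle)⟩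

theorem Dec.mul_left {P : Sylow p G} {D : Subgroup G} {g k : G} (hk : k ∈ centralizer (D : Set G))
    (h : Dec P D g) : Dec P D (k * g) := by
  obtain ⟨L, c, hc, y, hy, rfl, hL⟩ := h
  exact ⟨L, k * c, mul_mem hk hc, y, hy, by group, hL⟩

theorem Dec.trans {P : Sylow p G} {D : Subgroup G} {g g' : G} (h : Dec P D g)
    (h' : Dec P (D.map (MulAut.conj g⁻¹).toMonoidHom) g') : Dec P D (g * g') := by
  obtain ⟨L, c, hc, y, hy, rfl, hL⟩ := h
  obtain ⟨L', c', hc', y', hy', rfl, hL'⟩ := h'
  rw [coe_map_conj, inv_inv, cj_mul, cj_mul, cj_of_mem_centralizer hc] at hL'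
  refine ⟨L ++ shift y L', c * ((val L * y) * c' * (val L * y)⁻¹), mul_mem hc ?_, y * y', mul_mem hy hy', ?_,
    hL.append (hL'.shift hy)⟩
  · rw [mem_centralizer_iff]
    intro a ha
    have hmem : (val L * y)⁻¹ * a * (val L * y) ∈ D.map (MulAut.conj (c * val L * y)⁻¹).toMonoidHom := by
      rw [mem_map_conj, inv_inv, show c * val L * y * ((val L * y)⁻¹ * a * (val L * y)) * (c * val L * y)⁻¹ =
        c * a * c⁻¹ by group, ← mem_centralizer_iff.1 hc a ha, mul_inv_cancel_right]
      exact ha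
    have := mem_centralizer_iff.mp hc' _ hmem
    calc a * ((val L * y) * c' * (val L * y)⁻¹)
        = (val L * y) * (((val L * y)⁻¹ * a * (val L * y)) * c') * (val L * y)⁻¹ := by group
      _ = (val L * y) * (c' * ((val L * y)⁻¹ * a * (val L * y))) * (val L * y)⁻¹ := by rw [this]
      _ = (val L * y) * c' * (val L * y)⁻¹ * a := by group
  · rw [val_append, val_shift]; group

theorem Dec.mul {P : Sylow p G} {U : Subgroup G} {g g' : G} (hg : g ∈ normalizer (U : Set G))
    (h : Dec P U g) (h' : Dec P U g') : Dec P U (g * g') :=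
  h.trans (by rwa [map_conj_eq_self_iff.2 (inv_mem hg)])

theorem Dec.of_mem {P : Sylow p G} {D : Subgroup G} {y : G}
    (hy : y ∈ normalizer ((P : Subgroup G) : Set G)) : Dec P D y :=
  ⟨[], 1, one_mem _, y, hy, by simp [val], trivial⟩

theorem isFusionClosed (P : Sylow p G) :
    IsFusionClosed (P : Subgroup G) (fun D h => Dec P D h⁻¹) := by
  refine ⟨fun hle h => h.mono hle, fun {D h h'} _ _ h1 h2 => ?_⟩
  show Dec P D (h' * h)⁻¹
  rw [mul_inv_rev]
  exact h1.trans (by rwa [inv_inv])

theorem holdsAbove (P : Sylow p G) : ∀ k : ℕ,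
    HoldsAbove (P : Subgroup G) (fun D h => Dec P D h⁻¹) k := by
  suffices H : ∀ (m k : ℕ), Nat.card (P : Subgroup G) - k < m →
      HoldsAbove (P : Subgroup G) (fun D h => Dec P D h⁻¹) k from fun k => H _ k (Nat.lt_succ_self _)
  intro m
  induction m with
  | zero => intro k h; omega
  | succ m ih =>
  intro k hkm
  refine holdsAbove_of_family P (isFusionClosed P) {U | IsFN p (P : Subgroup G) U} k
    (fun T hT _ => ?_) ?_
  · obtain ⟨g, hg⟩ := exists_isFN_conj P (P.2.to_le hT)
    exact ⟨_, hg, ⟨g, rfl⟩, hg⟩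
  intro U _ hkU hU x hx
  obtain ⟨hUP, hfn⟩ := hU
  set N := normalizer (U : Set G) with hN
  show Dec P U x⁻¹
  have hu : x⁻¹ ∈ N := inv_mem hx
  generalize x⁻¹ = u at hu ⊢
  have hUN : U ≤ N := le_normalizer
  -- moving a larger subgroup inside `P`
  have hconj : ∀ T : Subgroup G, T ≤ (P : Subgroup G) → U ≤ T → T ≠ U → ∀ v : G,
      T.map (MulAut.conj v⁻¹).toMonoidHom ≤ (P : Subgroup G) → Dec P U v := by
    intro T hTP hUT hne v hv
    have hlt : Nat.card U < Nat.card T := card_lt_of_lt (lt_of_le_of_ne hUT (Ne.symm hne))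
    have hUcard := card_le_of_le hUP
    have h : Dec P T v⁻¹⁻¹ := ih (Nat.card U) (by omega) T v⁻¹ hlt hTP hv
    rw [inv_inv] at h
    exact h.mono hUT
  have hbig : ∀ T : Subgroup G, T ≤ (P : Subgroup G) → U ≤ T → T ≠ U → ∀ v : G,
      v ∈ normalizer (T : Set G) → Dec P U v := fun T hTP hUT hne v hv =>
    hconj T hTP hUT hne v ((map_conj_eq_self_iff.mpr (inv_mem hv)).le.trans hTP)
  have hPNp : IsPGroup p (((P : Subgroup G) ⊓ N).subgroupOf N) :=
    (P.2.to_le inf_le_left).comap_subtype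
  let PN : Sylow p N := hPNp.toSylow hfn
  have hPN : (PN : Subgroup N) = ((P : Subgroup G) ⊓ N).subgroupOf N := rfl
  have hmapP : ∀ X : Subgroup N, X ≤ (PN : Subgroup N) → X.map N.subtype ≤ (P : Subgroup G) := by
    rintro X hX _ ⟨y, hy, rfl⟩
    have h := hX hy
    rw [hPN] at h
    exact (mem_subgroupOf.mp h).1
  by_cases hUeq : U = (P : Subgroup G)
  · exact Dec.of_mem (by rw [← hUeq]; exact hu)
  by_cases hcen : (P : Subgroup G) ⊓ centralizer (U : Set G) ≤ U
  swap
  · haveI : ((centralizer (U : Set G)).subgroupOf N).Normal :=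
      ⟨fun c hc n => mem_subgroupOf.mpr (centralizer_conj_mem n.2 (mem_subgroupOf.mp hc))⟩
    obtain ⟨c, hc, v, hv, he⟩ :=
      exists_eq_mul_normalizer_inf PN ((centralizer (U : Set G)).subgroupOf N) (⟨u, hu⟩ : N)
    set T₀ := (((PN : Subgroup N) ⊓ (centralizer (U : Set G)).subgroupOf N)).map N.subtype with hT₀
    have hu' : u = (c : G) * (v : G) := (congrArg Subtype.val he).symm
    rw [hu']
    refine Dec.mul_left (mem_subgroupOf.mp hc) (hbig (U ⊔ T₀) ?_ le_sup_left ?_ v ?_)
    · exact sup_le hUP (hmapP _ inf_le_left)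
    · intro e
      refine hcen fun y hy => ?_
      rw [← e]
      refine mem_sup_right ⟨⟨y, centralizer_le_normalizer _ hy.2⟩, ⟨?_, mem_subgroupOf.mpr hy.2⟩, rfl⟩
      rw [hPN]
      exact mem_subgroupOf.mpr ⟨hy.1, centralizer_le_normalizer _ hy.2⟩
    · rw [← map_conj_eq_self_iff, Subgroup.map_sup, map_conj_eq_self_iff.mpr v.2,
        map_conj_eq_self_iff.mpr (map_le_normalizer _ hv)]
  haveI hU' : (U.subgroupOf N).Normal := (normal_subgroupOf_iff_le_normalizer hUN).mpr le_rfl
  have hUcore : U.subgroupOf N ≤ Cfsg.pCore p N :=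
    le_pCore hU' (P.2.to_le hUP).comap_subtype
  by_cases hrad : (PN : Subgroup N) ⊓ Cfsg.pPrimePCore p N ≤ U.subgroupOf N
  swap
  · obtain ⟨d, hd, v, hv, he⟩ := exists_pPrimeCore_mul_normalizer PN (⟨u, hu⟩ : N)
    have hu' : u = (d : G) * (v : G) := (congrArg Subtype.val he).symm
    rw [hu']
    refine Dec.mul_left ?_ (hbig (((PN : Subgroup N) ⊓ Cfsg.pPrimePCore p N).map N.subtype)
      (hmapP _ inf_le_left) ?_ ?_ v (map_le_normalizer _ hv))
    · rw [mem_centralizer_iff]
      intro y hy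
      exact congrArg Subtype.val
        (mem_centralizer_iff.mp (pPrimeCore_le_centralizer_pCore hd) ⟨y, hUN hy⟩
          (hUcore (mem_subgroupOf.mpr hy)))
    · intro y hy
      refine ⟨⟨y, hUN hy⟩, ⟨?_, hUcore.trans pCore_le_pPrimePCore (mem_subgroupOf.mpr hy)⟩, rfl⟩
      rw [hPN]
      exact mem_subgroupOf.mpr ⟨hUP hy, hUN hy⟩
    · intro e
      refine hrad fun y hy => mem_subgroupOf.mpr ?_
      have h := mem_map_of_mem N.subtype hy
      rwa [e] at h
  obtain ⟨-, hCle, hprod, -⟩ := family_of_centric_radical P hUP hfn hcen PN hPN hrad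
  have hOpp : (Cfsg.pPrimePCore p N).map N.subtype = U ⊔ centralizer (U : Set G) := by
    refine le_antisymm ?_ (sup_le ?_ hCle)
    · rw [← sylow_inf_pPrimePCore_sup PN, Subgroup.map_sup]
      refine sup_le ((?_ : _ ≤ centralizer (U : Set G)).trans le_sup_right) ((map_mono hrad).trans ?_)
      · rintro _ ⟨a, ha, rfl⟩
        rw [mem_centralizer_iff]
        intro y hy
        exact congrArg Subtype.val
          (mem_centralizer_iff.mp (pPrimeCore_le_centralizer_pCore ha) ⟨y, hUN hy⟩
            (hUcore (mem_subgroupOf.mpr hy)))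
      · rw [map_subgroupOf_eq_of_le hUN]; exact le_sup_left
    · intro y hy
      exact ⟨⟨y, hUN hy⟩, hUcore.trans pCore_le_pPrimePCore (mem_subgroupOf.mpr hy), rfl⟩
  have hUlt : U < (P : Subgroup G) ⊓ N := lt_inf_normalizer P.2 (lt_of_le_of_ne hUP hUeq)
  have hUPN : U.subgroupOf N ≤ (PN : Subgroup N) := fun y hy => by
    rw [hPN]; exact mem_subgroupOf.mpr ⟨hUP (mem_subgroupOf.mp hy), y.2⟩
  set π := QuotientGroup.mk' (U.subgroupOf N)
  by_cases hcc : Cfsg.IsSylowChainConnected p (N ⧸ U.subgroupOf N)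
  · -- a chain of Sylow subgroups splits `u`
    rw [chainConnected_iff] at hcc
    let S₀ : Sylow p (N ⧸ U.subgroupOf N) := PN.mapSurjective (QuotientGroup.mk'_surjective (U.subgroupOf N))
    have hS₀ : ∀ r : N, π r ∈ (S₀ : Subgroup _) ↔ r ∈ (PN : Subgroup N) := by
      intro r
      rw [Sylow.coe_mapSurjective]
      refine ⟨?_, fun h => mem_map_of_mem _ h⟩
      rintro ⟨s, hs, hsr⟩
      have h1 : s⁻¹ * r ∈ U.subgroupOf N := QuotientGroup.eq.1 hsr
      have h2 := mul_mem hs (hUPN h1)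
      rwa [mul_inv_cancel_left] at h2
    have hsmul : ∀ (v r : N), π r ∈ ((π v • S₀ : Sylow p _) : Subgroup _) ↔ v⁻¹ * r * v ∈ (PN : Subgroup N) := by
      intro v r
      rw [Sylow.coe_subgroup_smul, mem_pointwise_smul_iff_inv_smul_mem, ← hS₀]
      simp [MulAut.smul_def, map_mul, map_inv]
    suffices key : ∀ B, SylReach p S₀ B → ∀ v : N, π v • S₀ = B → Dec P U (v : G) from
      key _ (hcc _ _) ⟨u, hu⟩ rfl
    intro B hB
    induction hB with
    | refl =>
      intro v hv
      refine hbig _ inf_le_left (le_inf hUP hUN) hUlt.ne' v ?_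
      rw [← map_conj_eq_self_iff]
      refine eq_of_le_of_card_ge ?_ (card_map_of_injective (MulAut.conj (v : G)).injective).ge
      rintro _ ⟨a, ha, rfl⟩
      have h1 : π (v * ⟨a, ha.2⟩ * v⁻¹) ∈ ((π v • S₀ : Sylow p _) : Subgroup _) := by
        rw [hsmul, show v⁻¹ * (v * ⟨a, ha.2⟩ * v⁻¹) * v = ⟨a, ha.2⟩ by group, hPN]
        exact mem_subgroupOf.mpr ha
      rw [hv, hS₀, hPN, mem_subgroupOf] at h1
      exact h1
    | @tail B C _ hadj ih' =>
      intro v hv
      obtain ⟨q, hq⟩ := MulAction.exists_smul_eq (N ⧸ U.subgroupOf N) S₀ B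
      obtain ⟨w, rfl⟩ := QuotientGroup.mk'_surjective _ q
      obtain ⟨rb, hr, hr1⟩ := (Subgroup.bot_or_exists_ne_one _).resolve_left hadj.2
      obtain ⟨r, rfl⟩ := QuotientGroup.mk'_surjective _ rb
      have hrB : π r ∈ (B : Subgroup _) := hr.1
      have hrC : π r ∈ (C : Subgroup _) := hr.2
      rw [← hq, hsmul] at hrB
      rw [← hv, hsmul] at hrC
      have hrU : w⁻¹ * r * w ∉ U.subgroupOf N := fun h => by
        refine hr1 ((QuotientGroup.eq_one_iff r).2 ?_)
        have := hU'.conj_mem _ h w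
        rwa [show w * (w⁻¹ * r * w) * w⁻¹ = r by group] at this
      have hd : Dec P U ((w⁻¹ * v : N) : G) := by
        refine hconj (U ⊔ zpowers ((w⁻¹ * r * w : N) : G)) ?_ le_sup_left ?_ _ ?_
        · refine sup_le hUP (zpowers_le.2 ?_)
          rw [hPN, mem_subgroupOf] at hrB; exact hrB.1
        · intro e
          exact hrU (mem_subgroupOf.mpr (e ▸ mem_sup_right (mem_zpowers _)))
        · rw [Subgroup.map_sup, map_conj_eq_self_iff.2 (inv_mem (w⁻¹ * v).2), MonoidHom.map_zpowers]
          refine sup_le hUP (zpowers_le.2 ?_)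
          rw [hPN, mem_subgroupOf] at hrC
          convert hrC.1 using 1
          simp only [MulEquiv.coe_toMonoidHom, MulAut.conj_apply, Subgroup.coe_mul, Subgroup.coe_inv]
          group
          exact Iff.rfl
      have := Dec.mul w.2 (ih' w hq) hd
      rwa [← Subgroup.coe_mul, mul_inv_cancel_left] at this
  · -- the smallest normal subgroup
    have hdvd : ∀ Y : Subgroup N, (U.subgroupOf N).relIndex Y = Nat.card (Y.map π) := fun Y => by
      exact (congrArg (fun K => K.relIndex Y) (QuotientGroup.ker_mk' (U.subgroupOf N))).symm.trans (Subgroup.relIndex_ker Y π)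
    obtain ⟨X, hX⟩ := ({Y : Subgroup N | Y.Normal ∧ U.subgroupOf N ≤ Y ∧
        p ∣ (U.subgroupOf N).relIndex Y}).toFinite.exists_minimal ⟨⊤, inferInstance, le_top, by
      refine dvd_trans ?_ (relIndex_dvd_of_le_left _ (le_refl _))
      rw [Subgroup.relIndex_top_right]
      refine dvd_trans ?_ ((relIndex_mul_index hUPN).symm ▸ dvd_mul_right _ (PN : Subgroup N).index)
      obtain ⟨n, hn⟩ := (IsPGroup.iff_card.mp PN.2)
      have h1 : (U.subgroupOf N).relIndex (PN : Subgroup N) ∣ p ^ n :=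
        hn ▸ Subgroup.index_dvd_card _
      obtain ⟨i, -, hi⟩ := (Nat.dvd_prime_pow hp.out).1 h1
      rcases i with _ | i
      · exfalso
        rw [pow_zero, Subgroup.relIndex_eq_one, hPN] at hi
        refine hUlt.not_ge fun y hy => ?_
        exact mem_subgroupOf.mp (hi (x := ⟨y, hy.2⟩) (mem_subgroupOf.mpr hy))
      · exact hi ▸ dvd_pow_self p i.succ_ne_zero⟩
    obtain ⟨hXn, hUX, hXd⟩ := hX.prop
    haveI := hXn
    have hsmall : ∀ Y : Subgroup N, Y.Normal → U.subgroupOf N ≤ Y → p ∣ (U.subgroupOf N).relIndex Y → X ≤ Y := by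
      intro Y hY hUY hYd
      haveI := hY
      haveI := hXn.map π (QuotientGroup.mk'_surjective _)
      haveI := hY.map π (QuotientGroup.mk'_surjective _)
      have h := Cfsg.Agent.S3058.result p hcc (X.map π) (Y.map π) (hdvd X ▸ hXd) (hdvd Y ▸ hYd)
      have hker : ∀ Z : Subgroup N, U.subgroupOf N ≤ Z → (Z.map π).comap π = Z := fun Z hZ => by
        rw [comap_map_eq, QuotientGroup.ker_mk', sup_eq_left.2 hZ]
      have e : X.map π ⊓ Y.map π = (X ⊓ Y).map π := by
        rw [← map_comap_eq_self_of_surjective (QuotientGroup.mk'_surjective _) (X.map π ⊓ Y.map π),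
          comap_inf, hker X hUX, hker Y hUY]
      exact (hX.eq_of_le ⟨inferInstance, le_inf hUX hUY, by rw [hdvd, ← e]; exact h⟩
        inf_le_left).ge.trans inf_le_right
    set XG := X.map N.subtype with hXG
    have hXGs : XG.subgroupOf N = X := comap_map_eq_self_of_injective N.subtype_injective X
    have hsm : Smallest p U XG := by
      refine ⟨fun y hy => ⟨⟨y, hUN hy⟩, hUX (mem_subgroupOf.mpr hy), rfl⟩, map_subtype_le X,
        by rw [hXGs]; exact hXn, ?_, fun Y hUY hYN hYn hYd => ?_⟩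
      · rwa [← relIndex_subgroupOf (map_subtype_le X), hXGs]
      · have h1 := hsmall (Y.subgroupOf N) hYn (fun y hy => hUY (mem_subgroupOf.mp hy))
          (by rwa [relIndex_subgroupOf hYN])
        rintro _ ⟨y, hy, rfl⟩
        exact h1 hy
    obtain ⟨n, hn, v, hv, he⟩ := exists_eq_mul_normalizer_inf PN X (⟨u, hu⟩ : N)
    set T := (PN : Subgroup N) ⊓ X with hT
    have hTp : IsPGroup p (T.subgroupOf X) := (PN.2.to_le inf_le_left).comap_subtype
    have hTi : ¬ p ∣ (T.subgroupOf X).index := not_dvd_relIndex_inf_normal PN X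
    haveI := CfsgLib.Transfer.pResidual_normal (G := X) (p := p)
    have hn' : (⟨n, hn⟩ : X) ∈ Cfsg.pResidual p X ⊔ ((hTp.toSylow hTi : Sylow p X) : Subgroup X) := by
      rw [sup_comm, CfsgLib.Transfer.sylow_sup_pResidual]; trivial
    rw [mem_sup_of_normal_left] at hn'
    obtain ⟨a, ha, t, ht, hat⟩ := hn'
    have htT : (t : N) ∈ T := ht
    have hnat : n = (a : N) * (t : N) := (congrArg Subtype.val hat).symm
    have hu' : u = ((a : N) : G) * (((t : N) * v : N) : G) := by
      rw [← Subgroup.coe_mul, ← mul_assoc, ← hnat, he]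
    rw [hu']
    have hda : Dec P U ((a : N) : G) := by
      refine ⟨[(U, ((a : N) : G))], 1, one_mem _, 1, one_mem _, by simp [val], ⟨⟨hUP, hfn, hcen, hOpp, hcc,
        XG, hsm, ?_⟩, subset_rfl, trivial⟩⟩
      let eX : X ≃* XG := X.equivMapOfInjective N.subtype N.subtype_injective
      refine ⟨eX a, ?_, rfl⟩
      rw [← CfsgLib.Transfer.map_pResidual_of_surjective eX.toMonoidHom eX.surjective]
      exact mem_map_of_mem _ ha
    refine Dec.mul (a : N).2 hda (hbig (T.map N.subtype) (hmapP _ inf_le_left) ?_ ?_ _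
      (map_le_normalizer T (mul_mem (le_normalizer htT) hv)))
    · intro y hy
      exact ⟨⟨y, hUN hy⟩, ⟨hUPN (mem_subgroupOf.mpr hy), hUX (mem_subgroupOf.mpr hy)⟩, rfl⟩
    · intro e
      have hTU : T ≤ U.subgroupOf N := fun y hy => mem_subgroupOf.mpr (e ▸ mem_map_of_mem N.subtype hy)
      exact hTi (hXd.trans (relIndex_dvd_of_le_left X hTU))

end CfsgLib.LocalEvenSix.AlperinStrong
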