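import Cfsg.Agent.Lib.PGroup.Frattini
import Cfsg.Prelude.Def_Transfer
import Mathlib.LinearAlgebra.UnitaryGroup
import Mathlib.LinearAlgebra.Matrix.BilinearForm
import Mathlib.Algebra.Module.ZMod
import Mathlib.Data.ZMod.Basic

/-!
# The real Clifford matrices of a quadratic form of plus type over the field with two elements
-/

set_option autoImplicit false
set_option linter.unusedSectionVars false
set_option linter.style.haveILetI false
set_option maxHeartbeats 400000

namespace CfsgLib.LocalEvenSix.Clifford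

open Matrix

variable {n : ℕ}

/-- Vectors over the field with two elements. -/
abbrev Vec (n : ℕ) := Fin n → ZMod 2

/-- The hyperbolic space. -/
abbrev Pair (n : ℕ) := Vec n × Vec n

/-- The sign character. -/
def sgn (a : ZMod 2) : ℝ := if a = 0 then 1 else -1

theorem sgn_zero : sgn 0 = 1 := if_pos rfl

theorem sgn_one : sgn 1 = -1 := if_neg one_ne_zero

theorem zmod2_cases (a : ZMod 2) : a = 0 ∨ a = 1 := by revert a; decide

theorem sgn_add (a b : ZMod 2) : sgn (a + b) = sgn a * sgn b := by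
  rcases zmod2_cases a with rfl | rfl <;> rcases zmod2_cases b with rfl | rfl <;>
    simp [sgn_zero, sgn_one, show (1 : ZMod 2) + 1 = 0 from by decide]

theorem sgn_mul_self (a : ZMod 2) : sgn a * sgn a = 1 := by
  rcases zmod2_cases a with rfl | rfl <;> simp [sgn_zero, sgn_one]

theorem sgn_ne_zero (a : ZMod 2) : sgn a ≠ 0 := fun h => by simpa [h] using sgn_mul_self a

theorem sgn_injective : Function.Injective sgn := fun a b h => by
  rcases zmod2_cases a with rfl | rfl <;> rcases zmod2_cases b with rfl | rfl <;>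
    first
      | rfl
      | (rw [sgn_zero, sgn_one] at h; norm_num at h)

theorem sgn_eq_iff_zero {a : ZMod 2} : sgn a = 1 ↔ a = 0 :=
  ⟨fun h => sgn_injective (h.trans sgn_zero.symm), fun h => h ▸ sgn_zero⟩

theorem add_self_vec (x : Vec n) : x + x = 0 := funext fun i => CharTwo.add_self_eq_zero (x i)

theorem sum_sgn_dot {a : Vec n} (ha : a ≠ 0) : ∑ s : Vec n, sgn (a ⬝ᵥ s) = 0 := by
  obtain ⟨i, hi⟩ := Function.ne_iff.1 ha
  have h1 : ∑ s : Vec n, sgn (a ⬝ᵥ s) = ∑ s : Vec n, sgn (a ⬝ᵥ (s + Pi.single i 1)) :=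
    (Fintype.sum_equiv (Equiv.addRight (Pi.single i (1 : ZMod 2) : Vec n))
      (fun s : Vec n => sgn (a ⬝ᵥ (s + Pi.single i 1))) (fun s : Vec n => sgn (a ⬝ᵥ s)) fun _ => rfl).symm
  have h2 : sgn (a ⬝ᵥ Pi.single i 1) = -1 := by
    rw [dotProduct_single, mul_one, (zmod2_cases (a i)).resolve_left hi, sgn_one]
  simp only [dotProduct_add, sgn_add, h2, mul_neg, mul_one, Finset.sum_neg_distrib] at h1
  linarith

/-- The Clifford matrix of `(x, y)`: the shift by `x` times the signs of `y`. -/
def E (u : Pair n) : Matrix (Vec n) (Vec n) ℝ := fun r s => if r = s + u.1 then sgn (u.2 ⬝ᵥ s) else 0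

/-- The cocycle. -/
def cc (u v : Pair n) : ZMod 2 := u.2 ⬝ᵥ v.1

/-- The quadratic form. -/
def qf (u : Pair n) : ZMod 2 := u.1 ⬝ᵥ u.2

theorem cc_self (u : Pair n) : cc u u = qf u := dotProduct_comm _ _

theorem cc_add_left (u u' v : Pair n) : cc (u + u') v = cc u v + cc u' v := add_dotProduct _ _ _

theorem cc_add_right (u v v' : Pair n) : cc u (v + v') = cc u v + cc u v' := dotProduct_add _ _ _

theorem E_mul (u v : Pair n) : E u * E v = sgn (cc u v) • E (u + v) := by
  ext r s
  rw [Matrix.mul_apply, Finset.sum_eq_single (s + v.1)]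
  · simp only [E, Matrix.smul_apply, smul_eq_mul, Prod.fst_add, Prod.snd_add, cc, if_true]
    by_cases h : r = s + v.1 + u.1
    · rw [if_pos h, if_pos (by rw [h]; abel), ← sgn_add, ← sgn_add,
        dotProduct_add, add_dotProduct]
      congr 1
      abel
    · rw [if_neg h, zero_mul, if_neg (fun h' => h (by rw [h']; abel)), mul_zero]
  · intro t _ ht
    simp [E, ht]
  · simp

theorem E_transpose (u : Pair n) : (E u)ᵀ = sgn (qf u) • E u := by
  ext r s
  simp only [E, Matrix.transpose_apply, Matrix.smul_apply, smul_eq_mul, qf]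
  by_cases h : r = s + u.1
  · rw [if_pos h, if_pos (by rw [h, add_assoc, add_self_vec, add_zero]), ← sgn_add, h,
      dotProduct_add, dotProduct_comm u.1 u.2, add_comm]
  · rw [if_neg h, if_neg fun h' => h (by rw [h', add_assoc, add_self_vec, add_zero]), mul_zero]

theorem E_zero : E (0 : Pair n) = 1 := by
  ext r s
  by_cases h : r = s
  · subst h; simp [E, sgn_zero, Matrix.one_apply]
  · simp [E, h, Matrix.one_apply]

theorem pair_add_self (u : Pair n) : u + u = 0 := Prod.ext (add_self_vec _) (add_self_vec _)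

theorem E_transpose_mul (u : Pair n) : (E u)ᵀ * E u = 1 := by
  rw [E_transpose, Matrix.smul_mul, E_mul, pair_add_self, E_zero, cc_self, smul_smul, sgn_mul_self,
    one_smul]

theorem E_mul_transpose (u : Pair n) : E u * (E u)ᵀ = 1 := mul_eq_one_comm.1 (E_transpose_mul u)

theorem eq_of_smul_E {a b : Pair n} {c : ℝ} (h : E a = c • E b) : a = b ∧ c = 1 := by
  have h1 : a.1 = b.1 := by
    by_contra hne
    have := congrFun (congrFun h a.1) 0
    simp [E, hne, sgn_zero] at this
  have hc : c = 1 := by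
    have := congrFun (congrFun h a.1) 0
    simpa [E, h1, sgn_zero] using this.symm
  refine ⟨Prod.ext h1 (funext fun i => ?_), hc⟩
  have := congrFun (congrFun h (Pi.single i 1 + a.1)) (Pi.single i 1)
  simp [E, h1, hc] at this
  exact sgn_injective this

theorem eq_zero_of_sum_E {c : Pair n → ℝ} (h : ∑ u, c u • E u = 0) (v : Pair n) : c v = 0 := by
  classical
  have h1 : ∀ s : Vec n, ∑ y : Vec n, c (v.1, y) * sgn (y ⬝ᵥ s) = 0 := by
    intro s
    have := congrFun (congrFun h (s + v.1)) s
    rw [Matrix.sum_apply, Fintype.sum_prod_type, Finset.sum_eq_single v.1] at this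
    · simpa [E, Matrix.smul_apply] using this
    · intro x _ hx
      refine Finset.sum_eq_zero fun y _ => ?_
      simp [E, Matrix.smul_apply, hx.symm]
    · simp
  have h2 : ∑ s : Vec n, sgn (v.2 ⬝ᵥ s) * ∑ y : Vec n, c (v.1, y) * sgn (y ⬝ᵥ s) = 0 := by
    simp [h1]
  simp only [Finset.mul_sum] at h2
  rw [Finset.sum_comm, Finset.sum_eq_single v.2] at h2
  · simpa [mul_comm (sgn _) (c _ * _), mul_assoc, sgn_mul_self] using h2
  · intro y _ hy
    have h3 : v.2 + y ≠ 0 := fun h => hy (by
      rw [← add_zero y, ← h, add_comm v.2 y, ← add_assoc, add_self_vec, zero_add])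
    calc ∑ s : Vec n, sgn (v.2 ⬝ᵥ s) * (c (v.1, y) * sgn (y ⬝ᵥ s))
        = c (v.1, y) * ∑ s : Vec n, sgn ((v.2 + y) ⬝ᵥ s) := by
          rw [Finset.mul_sum]
          exact Finset.sum_congr rfl fun s _ => by rw [add_dotProduct, sgn_add]; ring
      _ = 0 := by rw [sum_sgn_dot h3, mul_zero]
  · simp

/-- The commutant of the Clifford matrices consists of the scalars. -/
theorem eq_smul_one_of_commute {M : Matrix (Vec n) (Vec n) ℝ} (hM : ∀ u, M * E u = E u * M) :
    M = M 0 0 • 1 := by
  have hl : ∀ (u : Pair n) (r s : Vec n), (E u * M) r s = sgn (u.2 ⬝ᵥ (r + u.1)) * M (r + u.1) s := by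
    intro u r s
    rw [Matrix.mul_apply, Finset.sum_eq_single (r + u.1)]
    · simp [E, add_assoc, add_self_vec]
    · intro t _ ht
      have : r ≠ t + u.1 := fun h => ht (by rw [h, add_assoc, add_self_vec, add_zero])
      simp [E, this]
    · simp
  have hr : ∀ (u : Pair n) (r s : Vec n), (M * E u) r s = M r (s + u.1) * sgn (u.2 ⬝ᵥ s) := by
    intro u r s
    rw [Matrix.mul_apply, Finset.sum_eq_single (s + u.1)]
    · simp [E]
    · intro t _ ht
      simp [E, ht]
    · simp
  ext r s
  by_cases hrs : r = s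
  · subst hrs
    have h := congrFun (congrFun (hM (r, 0)) r) 0
    rw [hl, hr] at h
    simp [sgn_zero, add_self_vec] at h
    simp [h]
  · obtain ⟨i, hi⟩ := Function.ne_iff.1 hrs
    have h := congrFun (congrFun (hM (0, Pi.single i 1)) r) s
    rw [hl, hr] at h
    simp [single_dotProduct] at h
    have hne : sgn (s i) ≠ sgn (r i) := fun h' => hi (sgn_injective h').symm
    have : (sgn (s i) - sgn (r i)) * M r s = 0 := by linear_combination h
    simp [hrs, (mul_eq_zero.1 this).resolve_left (sub_ne_zero.2 hne)]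

/-- Existence of an orthogonal intertwiner. -/
theorem exists_intertwiner (g : Pair n →ₗ[ZMod 2] Pair n) (hgq : ∀ u, qf (g u) = qf u)
    (f : Pair n → ZMod 2) (hf : ∀ u v, f (u + v) = f u + f v + (cc (g u) (g v) + cc u v)) :
    ∃ T : Matrix (Vec n) (Vec n) ℝ, T ∈ Matrix.orthogonalGroup (Vec n) ℝ ∧
      ∀ u, T * E u = sgn (f u) • (E (g u) * T) := by
  classical
  set E' : Pair n → Matrix (Vec n) (Vec n) ℝ := fun u => sgn (f u) • E (g u) with hE'
  have hmul : ∀ u v, E' u * E' v = sgn (cc u v) • E' (u + v) := by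
    intro u v
    simp only [hE', Matrix.smul_mul, Matrix.mul_smul, E_mul, smul_smul, ← map_add, ← sgn_add]
    congr 2
    rw [hf]
    have h2 := CharTwo.add_self_eq_zero (cc u v)
    linear_combination -h2
  have htr : ∀ u, (E' u)ᵀ = sgn (qf u) • E' u := by
    intro u
    simp only [hE', Matrix.transpose_smul, E_transpose, hgq, smul_smul, mul_comm]
  let T : Matrix (Vec n) (Vec n) ℝ → Matrix (Vec n) (Vec n) ℝ := fun M => ∑ u, E' u * M * (E u)ᵀ
  have hT : ∀ M v, E' v * T M = T M * E v := by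
    intro M v
    simp only [T, Finset.mul_sum, Finset.sum_mul]
    conv_rhs => rw [← Equiv.sum_comp (Equiv.addLeft v)]
    refine Finset.sum_congr rfl fun u _ => ?_
    have h1 : (E (v + u))ᵀ * E v = sgn (cc v u) • (E u)ᵀ := by
      have h2 : E (v + u) = sgn (cc v u) • (E v * E u) := by
        rw [E_mul, smul_smul, sgn_mul_self, one_smul]
      rw [h2, Matrix.transpose_smul, Matrix.transpose_mul, Matrix.smul_mul, Matrix.mul_assoc,
        E_transpose_mul, Matrix.mul_one]
    rw [Equiv.coe_addLeft, ← Matrix.mul_assoc, ← Matrix.mul_assoc, hmul, Matrix.mul_assoc (E' (v + u) * M),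
      h1, Matrix.smul_mul, Matrix.smul_mul, Matrix.mul_smul]
  obtain ⟨M, hM⟩ : ∃ M, T M ≠ 0 := by
    by_contra! hcon
    have h0 : ∀ i a u, E' u i a = 0 := by
      intro i a
      refine eq_zero_of_sum_E ?_
      ext j b
      have h1 := congrFun (congrFun (hcon (Matrix.single a b (1 : ℝ))) i) j
      simp only [T, Matrix.sum_apply, Matrix.zero_apply] at h1
      rw [Matrix.sum_apply, Matrix.zero_apply, ← h1]
      refine Finset.sum_congr rfl fun u _ => ?_
      rw [Matrix.mul_assoc, Matrix.mul_apply, Finset.sum_eq_single a]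
      · rw [Matrix.mul_apply, Finset.sum_eq_single b]
        · simp
        · intro t _ ht; simp [Matrix.single, ht.symm]
        · simp
      · intro t _ ht
        rw [Matrix.mul_apply, Finset.sum_eq_zero fun x _ => by simp [Matrix.single, ht.symm], mul_zero]
      · simp
    have h1 := h0 0 0 0
    simp [hE', E_zero, sgn_ne_zero] at h1
  set S := T M with hS
  have hSE : ∀ u, S * E u = E' u * S := fun u => (hT M u).symm
  have hES : ∀ u, E u * Sᵀ = Sᵀ * E' u := by
    intro u
    have h1 := congrArg Matrix.transpose (hSE u)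
    rw [Matrix.transpose_mul, Matrix.transpose_mul, E_transpose, htr, Matrix.smul_mul,
      Matrix.mul_smul] at h1
    exact smul_right_injective _ (sgn_ne_zero _) h1
  have hcom : ∀ u, Sᵀ * S * E u = E u * (Sᵀ * S) := fun u => by
    rw [Matrix.mul_assoc, hSE, ← Matrix.mul_assoc, ← hES, Matrix.mul_assoc]
  set c := (Sᵀ * S) 0 0 with hc
  have hscal : Sᵀ * S = c • 1 := eq_smul_one_of_commute hcom
  have hdiag : ∀ j, ∑ i, S i j * S i j = c := fun j => by
    have := congrFun (congrFun hscal j) j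
    simpa [Matrix.mul_apply] using this
  have hcpos : 0 < c := by
    refine lt_of_le_of_ne ((Finset.sum_nonneg fun i _ => mul_self_nonneg (S i 0)).trans (hdiag 0).le) ?_
    intro h0
    apply hM
    ext i j
    have h1 := (Finset.sum_eq_zero_iff_of_nonneg fun i _ => mul_self_nonneg (S i j)).1
      ((hdiag j).trans h0.symm) i (Finset.mem_univ i)
    exact mul_self_eq_zero.1 h1
  refine ⟨(Real.sqrt c)⁻¹ • S, ?_, fun u => ?_⟩
  · rw [Matrix.mem_orthogonalGroup_iff', Matrix.transpose_smul, Matrix.smul_mul, Matrix.mul_smul,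
      hscal, smul_smul, smul_smul, ← mul_inv, Real.mul_self_sqrt hcpos.le,
      inv_mul_cancel₀ hcpos.ne', one_smul]
  · rw [Matrix.smul_mul, hSE, Matrix.mul_smul, hE', Matrix.smul_mul, smul_comm]

/-- The orthogonal group in which everything lives. -/
abbrev O (n : ℕ) := Matrix.orthogonalGroup (Vec n) ℝ

/-- The Clifford matrix, as an orthogonal matrix. -/
noncomputable def Eo (u : Pair n) : O n :=
  ⟨E u, (Matrix.mem_orthogonalGroup_iff' (Vec n) ℝ).2 (E_transpose_mul u)⟩

variable {K : Type*} [Group K] (ρ : Representation (ZMod 2) K (Pair n))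

/-- `T` moves the Clifford matrices as `k` moves the vectors. -/
def Moves (T : O n) (k : K) : Prop :=
  ∀ u, ∃ ε : ℝ, ε ≠ 0 ∧ (T : Matrix (Vec n) (Vec n) ℝ) * E u = ε • (E (ρ k u) * T)

theorem moves_one : Moves ρ 1 1 := fun u => ⟨1, one_ne_zero, by simp⟩

theorem Moves.mul {T T' : O n} {k k' : K} (h : Moves ρ T k) (h' : Moves ρ T' k') :
    Moves ρ (T * T') (k * k') := by
  intro u
  obtain ⟨ε', he', h1⟩ := h' u
  obtain ⟨ε, he, h2⟩ := h (ρ k' u)
  refine ⟨ε' * ε, mul_ne_zero he' he, ?_⟩
  rw [Submonoid.coe_mul, Matrix.mul_assoc, h1, Matrix.mul_smul, ← Matrix.mul_assoc, h2,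
    Matrix.smul_mul, smul_smul, map_mul, Module.End.mul_apply, Matrix.mul_assoc]

theorem inv_val_mul (T : O n) :
    ((T⁻¹ : O n) : Matrix (Vec n) (Vec n) ℝ) * (T : Matrix (Vec n) (Vec n) ℝ) = 1 :=
  congrArg Subtype.val (inv_mul_cancel T)

theorem mul_inv_val (T : O n) :
    (T : Matrix (Vec n) (Vec n) ℝ) * ((T⁻¹ : O n) : Matrix (Vec n) (Vec n) ℝ) = 1 :=
  congrArg Subtype.val (mul_inv_cancel T)

theorem Moves.inv {T : O n} {k : K} (h : Moves ρ T k) : Moves ρ T⁻¹ k⁻¹ := by
  intro u
  obtain ⟨ε, he, h1⟩ := h (ρ k⁻¹ u)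
  rw [← Module.End.mul_apply, ← map_mul, mul_inv_cancel, map_one, Module.End.one_apply] at h1
  refine ⟨ε⁻¹, inv_ne_zero he, ?_⟩
  have h2 := congrArg (fun M => ((T⁻¹ : O n) : Matrix (Vec n) (Vec n) ℝ) * M *
    ((T⁻¹ : O n) : Matrix (Vec n) (Vec n) ℝ)) h1
  simp only [← Matrix.mul_assoc, inv_val_mul, Matrix.one_mul, Matrix.mul_smul, Matrix.smul_mul] at h2
  rw [Matrix.mul_assoc _ (T : Matrix (Vec n) (Vec n) ℝ), mul_inv_val, Matrix.mul_one] at h2
  rw [h2, smul_smul, inv_mul_cancel₀ he, one_smul]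

theorem moves_unique (hρ : Function.Injective ρ) {T : O n} {k k' : K} (h : Moves ρ T k)
    (h' : Moves ρ T k') : k = k' := by
  refine hρ (LinearMap.ext fun u => ?_)
  obtain ⟨ε, he, h1⟩ := h u
  obtain ⟨ε', -, h2⟩ := h' u
  rw [h1] at h2
  have h3 : ε • E (ρ k u) = ε' • E (ρ k' u) := by
    have h4 := congrArg (fun M => M * ((T⁻¹ : O n) : Matrix (Vec n) (Vec n) ℝ)) h2
    simpa [Matrix.smul_mul, Matrix.mul_assoc, mul_inv_val] using h4
  refine (eq_of_smul_E (c := ε⁻¹ * ε') ?_).1
  rw [← smul_smul, ← h3, smul_smul, inv_mul_cancel₀ he, one_smul]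

/-- The matrices moving the Clifford matrices along `K`. -/
noncomputable def cover : Subgroup (O n) where
  carrier := {T | ∃ k, Moves ρ T k}
  mul_mem' := fun ⟨_, h⟩ ⟨_, h'⟩ => ⟨_, h.mul ρ h'⟩
  one_mem' := ⟨1, moves_one ρ⟩
  inv_mem' := fun ⟨_, h⟩ => ⟨_, h.inv ρ⟩

/-- The projection. -/
noncomputable def proj (hρ : Function.Injective ρ) : cover ρ →* K where
  toFun T := T.2.choose
  map_one' := moves_unique ρ hρ (Subgroup.one_mem (cover ρ)).choose_spec (moves_one ρ)
  map_mul' S T := moves_unique ρ hρ (Subgroup.mul_mem (cover ρ) S.2 T.2).choose_spec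
    (S.2.choose_spec.mul ρ T.2.choose_spec)

theorem proj_spec (hρ : Function.Injective ρ) (T : cover ρ) : Moves ρ (T : O n) (proj ρ hρ T) :=
  T.2.choose_spec

theorem exists_form (g : Pair n →ₗ[ZMod 2] Pair n) (hgq : ∀ u, qf (g u) = qf u) :
    ∃ f : Pair n → ZMod 2, ∀ u v, f (u + v) = f u + f v + (cc (g u) (g v) + cc u v) := by
  classical
  let d : Pair n →ₗ[ZMod 2] Pair n →ₗ[ZMod 2] ZMod 2 := LinearMap.mk₂ (ZMod 2)
    (fun u v => cc (g u) (g v) + cc u v)
    (fun a b c => by simp only [map_add, cc_add_left]; abel)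
    (fun r a c => by simp [cc, smul_dotProduct, mul_add])
    (fun a b c => by simp only [map_add, cc_add_right]; abel)
    (fun r a c => by simp [cc, dotProduct_smul, mul_add])
  have halt : ∀ u, d u u = 0 := fun u => by
    show cc (g u) (g u) + cc u u = 0
    rw [cc_self, cc_self, hgq]
    exact CharTwo.add_self_eq_zero _
  have hsym : ∀ u v, d u v = d v u := fun u v => by
    have h := halt (u + v)
    simp only [map_add, LinearMap.add_apply, halt, zero_add, add_zero] at h
    have h2 := CharTwo.add_self_eq_zero (d v u)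
    linear_combination h - h2
  let b := Module.finBasis (ZMod 2) (Pair n)
  let t : Pair n →ₗ[ZMod 2] Pair n →ₗ[ZMod 2] ZMod 2 :=
    b.constr (ZMod 2) fun i => b.constr (ZMod 2) fun j => if i < j then d (b i) (b j) else 0
  have ht : ∀ u v, t u v + t v u = d u v := by
    intro u v
    have h1 : t + t.flip = d := by
      refine b.ext fun i => b.ext fun j => ?_
      simp only [t, LinearMap.add_apply, LinearMap.flip_apply, Module.Basis.constr_basis]
      rcases lt_trichotomy i j with h | h | h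
      · simp [h, not_lt.2 h.le]
      · subst h; simp [halt]
      · simp [h, not_lt.2 h.le, hsym (b j) (b i)]
    exact LinearMap.congr_fun (LinearMap.congr_fun h1 u) v
  refine ⟨fun u => t u u, fun u v => ?_⟩
  show t (u + v) (u + v) = t u u + t v v + d u v
  rw [← ht]
  simp only [map_add, LinearMap.add_apply]
  abel

theorem proj_surjective (hρ : Function.Injective ρ) (hq : ∀ k u, qf (ρ k u) = qf u) :
    Function.Surjective (proj ρ hρ) := by
  intro k
  obtain ⟨f, hf⟩ := exists_form (ρ k) (hq k)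
  obtain ⟨T, hT, hTE⟩ := exists_intertwiner (ρ k) (hq k) f hf
  have hm : Moves ρ ⟨T, hT⟩ k := fun u => ⟨sgn (f u), sgn_ne_zero _, hTE u⟩
  exact ⟨⟨⟨T, hT⟩, k, hm⟩, moves_unique ρ hρ (proj_spec ρ hρ _) hm⟩

theorem Eo_moves (v : Pair n) : Moves ρ (Eo v) 1 := fun u =>
  ⟨sgn (cc v u + cc u v), sgn_ne_zero _, by
    show E v * E u = _ • (E (ρ 1 u) * E v)
    rw [map_one, Module.End.one_apply, E_mul, E_mul, smul_smul, ← sgn_add, add_comm u v, add_assoc,
      CharTwo.add_self_eq_zero, add_zero]⟩

/-- Elements over the identity are signed Clifford matrices. -/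
theorem exists_eq_smul_E {T : O n} (h : Moves ρ T 1) :
    ∃ (v : Pair n) (e : ZMod 2), (T : Matrix (Vec n) (Vec n) ℝ) = sgn e • E v := by
  classical
  set M := (T : Matrix (Vec n) (Vec n) ℝ) with hM
  have hMM : Mᵀ * M = 1 := (Matrix.mem_orthogonalGroup_iff' (Vec n) ℝ).1 T.2
  choose ε hε0 hε using h
  simp only [map_one, Module.End.one_apply] at hε
  have hcancel : ∀ (u : Pair n) (a b : ℝ), a • (E u * M) = b • (E u * M) → a = b := by
    intro u a b hab
    have h1 := congrArg (fun X => (E u)ᵀ * X * Mᵀ) hab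
    simp only [Matrix.mul_smul, Matrix.smul_mul, ← Matrix.mul_assoc, E_transpose_mul, Matrix.one_mul,
      mul_eq_one_comm.1 hMM] at h1
    simpa using congrFun (congrFun h1 0) 0
  have hmul : ∀ u u', ε (u + u') = ε u * ε u' := by
    intro u u'
    have h1 : M * (E u * E u') = (ε u * ε u') • (E u * E u' * M) := by
      rw [← Matrix.mul_assoc, hε, Matrix.smul_mul, Matrix.mul_assoc, hε, Matrix.mul_smul, smul_smul,
        Matrix.mul_assoc]
    rw [E_mul, Matrix.mul_smul, hε, Matrix.smul_mul, smul_smul, smul_smul] at h1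
    have h2 := hcancel _ _ _ h1
    exact mul_left_cancel₀ (sgn_ne_zero (cc u u')) (h2.trans (mul_comm _ _))
  have hε1 : ∀ u, ε u * ε u = 1 := fun u => by
    have h0 : ε 0 = 1 := by
      have := hmul 0 0
      rw [add_zero] at this
      exact mul_left_cancel₀ (hε0 0) (this.symm.trans (mul_one _).symm)
    rw [← hmul, pair_add_self, h0]
  let l0 : Pair n → ZMod 2 := fun u => if ε u = 1 then 0 else 1
  have hl0 : ∀ u, sgn (l0 u) = ε u := fun u => by
    rcases mul_self_eq_one_iff.1 (hε1 u) with h | h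
    · simp [l0, h, sgn_zero]
    · rw [show l0 u = 1 from if_neg (by rw [h]; norm_num), sgn_one, h]
  let la : Pair n →+ ZMod 2 := AddMonoidHom.mk' l0 fun u u' => sgn_injective (by
    rw [sgn_add, hl0, hl0, hl0, hmul])
  let l : Pair n →ₗ[ZMod 2] ZMod 2 := la.toZModLinearMap 2
  set v : Pair n := (fun i => l (0, Pi.single i 1), fun i => l (Pi.single i 1, 0)) with hv
  let bv : Pair n →ₗ[ZMod 2] ZMod 2 :=
    { toFun := fun u => cc v u + cc u v
      map_add' := fun a b => by rw [cc_add_left, cc_add_right]; abel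
      map_smul' := fun r a => by simp [cc, smul_dotProduct, dotProduct_smul, mul_add] }
  have hlb : l = bv := by
    refine LinearMap.prod_ext (LinearMap.pi_ext' fun i => LinearMap.ext_ring ?_)
      (LinearMap.pi_ext' fun i => LinearMap.ext_ring ?_)
    · simp [bv, cc, hv]
    · simp [bv, cc, hv]
  have hεv : ∀ u, ε u = sgn (cc v u + cc u v) := fun u => by
    rw [← hl0]
    exact congrArg sgn (LinearMap.congr_fun hlb u)
  set S := (E v)ᵀ * M with hS
  have hcom : ∀ u, S * E u = E u * S := by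
    intro u
    have h1 : E v * E u = sgn (cc v u + cc u v) • (E u * E v) := by
      rw [E_mul, E_mul, smul_smul, ← sgn_add, add_comm u v, add_assoc, CharTwo.add_self_eq_zero,
        add_zero]
    have h2 : (E v)ᵀ * E u = sgn (cc v u + cc u v) • (E u * (E v)ᵀ) := by
      rw [E_transpose, Matrix.smul_mul, h1, Matrix.mul_smul, smul_comm]
    rw [hS, Matrix.mul_assoc, hε, hεv, Matrix.mul_smul, ← Matrix.mul_assoc, h2, Matrix.smul_mul,
      smul_smul, sgn_mul_self, one_smul, Matrix.mul_assoc]
  have hscal := eq_smul_one_of_commute hcom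
  set a := S 0 0
  have ha : a * a = 1 := by
    have h1 : Sᵀ * S = 1 := by
      rw [hS, Matrix.transpose_mul, Matrix.transpose_transpose, Matrix.mul_assoc,
        ← Matrix.mul_assoc (E v), E_mul_transpose, Matrix.one_mul, hMM]
    rw [hscal, Matrix.transpose_smul, Matrix.transpose_one, Matrix.smul_mul, Matrix.mul_smul,
      Matrix.one_mul, smul_smul] at h1
    simpa using congrFun (congrFun h1 0) 0
  refine ⟨v, if a = 1 then 0 else 1, ?_⟩
  have hMv : M = a • E v := by
    rw [show M = E v * S by rw [hS, ← Matrix.mul_assoc, E_mul_transpose, Matrix.one_mul], hscal,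
      Matrix.mul_smul, Matrix.mul_one]
  rw [hMv]
  rcases mul_self_eq_one_iff.1 ha with h | h
  · simp [h, sgn_zero]
  · simp [h, sgn_one]; norm_num [sgn_one]

/-- The signed Clifford matrix, orthogonal. -/
noncomputable def signed (e : ZMod 2) (v : Pair n) : O n :=
  ⟨sgn e • E v, (Matrix.mem_orthogonalGroup_iff' (Vec n) ℝ).2 (by
    rw [Matrix.transpose_smul, Matrix.smul_mul, Matrix.mul_smul, E_transpose_mul, smul_smul,
      sgn_mul_self, one_smul])⟩

theorem signed_moves (e : ZMod 2) (v : Pair n) : Moves ρ (signed e v) 1 := fun u => by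
  obtain ⟨c, hc, h⟩ := Eo_moves ρ v u
  refine ⟨c, hc, ?_⟩
  show sgn e • E v * E u = c • (E (ρ 1 u) * (sgn e • E v))
  rw [Matrix.smul_mul, show E v * E u = c • (E (ρ 1 u) * E v) from h, Matrix.mul_smul, smul_comm]

theorem signed_inj {e e' : ZMod 2} {v v' : Pair n} (h : signed e v = signed e' v') :
    e = e' ∧ v = v' := by
  have h1 : sgn e • E v = sgn e' • E v' := congrArg Subtype.val h
  have h2 : E v = (sgn e * sgn e') • E v' := by
    rw [← smul_smul, ← h1, smul_smul, sgn_mul_self, one_smul]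
  obtain ⟨h3, h4⟩ := eq_of_smul_E h2
  refine ⟨sgn_injective ?_, h3⟩
  calc sgn e = sgn e * (sgn e' * sgn e') := by rw [sgn_mul_self, mul_one]
    _ = sgn e' := by rw [← mul_assoc, h4, one_mul]

theorem signed_mul (e e' : ZMod 2) (v v' : Pair n) :
    signed e v * signed e' v' = signed (e + e' + cc v v') (v + v') := by
  apply Subtype.ext
  show (sgn e • E v) * (sgn e' • E v') = sgn (e + e' + cc v v') • E (v + v')
  rw [Matrix.smul_mul, Matrix.mul_smul, E_mul, smul_smul, smul_smul, sgn_add, sgn_add]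

theorem signed_zero : signed 0 (0 : Pair n) = 1 := Subtype.ext (by
  show sgn 0 • E (0 : Pair n) = 1
  rw [sgn_zero, one_smul, E_zero])

end CfsgLib.LocalEvenSix.Clifford
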