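import Cfsg.Agent.Lib.LocalEvenSix.Clifford
import Mathlib.LinearAlgebra.QuadraticForm.Basic
import Mathlib.LinearAlgebra.FiniteDimensional.Basic
import Mathlib.LinearAlgebra.Dual.Lemmas

/-!
# The extraspecial extension attached to an orthogonal group of plus type
-/

set_option autoImplicit false
set_option linter.unusedSectionVars false
set_option linter.style.haveILetI false
set_option maxHeartbeats 800000

open scoped commutatorElement

namespace CfsgLib.LocalEvenSix.CliffordCover

open Matrix CfsgLib.LocalEvenSix.Clifford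

/-- Hyperbolic coordinates. -/
theorem exists_coord {U : Type*} [AddCommGroup U] [Module (ZMod 2) U] [Module.Finite (ZMod 2) U]
    (n : ℕ) (hn : Module.finrank (ZMod 2) U = 2 * n) (q : QuadraticForm (ZMod 2) U)
    (hnd : (QuadraticMap.polarBilin q).Nondegenerate) (W : Submodule (ZMod 2) U)
    (hW : Module.finrank (ZMod 2) W = n) (hWq : ∀ w ∈ W, q w = 0) :
    ∃ Φ : Pair n ≃ₗ[ZMod 2] U, ∀ u, q (Φ u) = qf u := by
  classical
  set B := QuadraticMap.polarBilin q with hB
  have hpol : ∀ u v, q (u + v) = q u + q v + B u v := fun u v => by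
    simp [hB, QuadraticMap.polar]
  have hBs : ∀ u v, B u v = B v u := fun u v => by simp [hB, QuadraticMap.polar_comm]
  haveI : FiniteDimensional (ZMod 2) W := inferInstance
  let b : Module.Basis (Fin n) (ZMod 2) W :=
    (Module.finBasis (ZMod 2) W).reindex (finCongr hW)
  let w : Fin n → U := fun i => (b i : U)
  have hww : ∀ i j, B (w i) (w j) = 0 := fun i j => by
    have h := hpol (w i) (w j)
    rw [hWq _ (add_mem (b i).2 (b j).2), hWq _ (b i).2, hWq _ (b j).2] at h
    simpa using h.symm
  have hex : ∀ i, ∃ y : U, ∀ j, B y (w j) = if i = j then 1 else 0 := by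
    intro i
    obtain ⟨f, hf⟩ := LinearMap.exists_extend (b.coord i)
    have hBinj : Function.Injective B := by
      rw [injective_iff_map_eq_zero]
      exact fun x hx => hnd.1 x fun y => by rw [hx, LinearMap.zero_apply]
    obtain ⟨y, hy⟩ := (LinearMap.injective_iff_surjective_of_finrank_eq_finrank
      Subspace.dual_finrank_eq.symm).1 hBinj f
    refine ⟨y, fun j => ?_⟩
    rw [hy]
    have := LinearMap.congr_fun hf (b j)
    simp only [LinearMap.comp_apply, Submodule.subtype_apply] at this
    rw [this, b.coord_apply, b.repr_self, Finsupp.single_apply]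
    simp [eq_comm]
  choose y hy using hex
  obtain ⟨cf, hcf⟩ : ∃ cf : Fin n → Fin n → ZMod 2, ∀ i j,
      cf i j = if j < i then B (y i) (y j) else if j = i then q (y i) else 0 := ⟨_, fun _ _ => rfl⟩
  let z : Fin n → U := fun i => y i + ∑ j, cf i j • w j
  have hzw : ∀ i j, B (z i) (w j) = if i = j then 1 else 0 := fun i j => by
    simp [z, map_add, map_sum, LinearMap.sum_apply, hy, hww]
  have hWsum : ∀ c : Fin n → ZMod 2, ∑ j, c j • w j ∈ W := fun c =>
    sum_mem fun j _ => W.smul_mem _ (b j).2
  have hqz : ∀ i, q (z i) = 0 := fun i => by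
    simp only [z]
    rw [hpol, hWq _ (hWsum _), map_sum]
    simp only [map_smul, hy, smul_eq_mul, mul_ite, mul_one, mul_zero]
    rw [Finset.sum_ite_eq]
    simp [hcf, CharTwo.add_self_eq_zero]
  have hBWW : ∀ c c' : Fin n → ZMod 2, B (∑ j, c j • w j) (∑ j, c' j • w j) = 0 := fun c c' => by
    simp [map_sum, LinearMap.sum_apply, hww]
  have hyw : ∀ i (c : Fin n → ZMod 2), B (y i) (∑ j, c j • w j) = c i := fun i c => by
    simp [map_sum, hy]
  have hzz : ∀ i k, B (z i) (z k) = 0 := fun i k => by
    rcases eq_or_ne i k with rfl | hne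
    · have h := hpol (z i) (z i)
      have h2 : z i + z i = 0 := by
        rw [← two_smul (ZMod 2), show (2 : ZMod 2) = 0 from rfl, zero_smul]
      rw [h2, QuadraticMap.map_zero, hqz] at h
      simpa using h.symm
    · simp only [z, map_add, LinearMap.add_apply, hBWW, hyw, add_zero]
      rw [hBs (∑ j, _ • w j) (y k), hyw]
      rcases lt_or_gt_of_ne hne with h | h
      · simp [hcf, h, not_lt.2 h.le, h.ne, h.ne', hBs (y k) (y i), CharTwo.add_self_eq_zero]
      · simp [hcf, h, not_lt.2 h.le, h.ne, h.ne', CharTwo.add_self_eq_zero]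
  let F : Pair n →ₗ[ZMod 2] U := LinearMap.coprod
    ((Fintype.linearCombination (ZMod 2) w : Vec n →ₗ[ZMod 2] U))
    (Fintype.linearCombination (ZMod 2) z)
  have hF : ∀ u : Pair n, F u = (∑ i, u.1 i • w i) + ∑ i, u.2 i • z i := fun u => by
    simp [F, Fintype.linearCombination_apply]
  have hFz : ∀ (u : Pair n) k, B (F u) (z k) = u.1 k := fun u k => by
    simp [hF, map_sum, LinearMap.sum_apply, hzz, hBs (w _) (z k), hzw]
  have hFw : ∀ (u : Pair n) k, B (F u) (w k) = u.2 k := fun u k => by
    simp [hF, map_sum, LinearMap.sum_apply, hww, hzw]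
  have hinj : Function.Injective F := by
    rw [injective_iff_map_eq_zero]
    intro u hu
    refine Prod.ext (funext fun k => ?_) (funext fun k => ?_)
    · rw [← hFz u k, hu, map_zero, LinearMap.zero_apply]; rfl
    · rw [← hFw u k, hu, map_zero, LinearMap.zero_apply]; rfl
  have hqsum : ∀ c : Fin n → ZMod 2, q (∑ i, c i • z i) = 0 := by
    intro c
    induction (Finset.univ : Finset (Fin n)) using Finset.induction_on with
    | empty => simp
    | insert a s ha ih =>
      rw [Finset.sum_insert ha, hpol, ih, QuadraticMap.map_smul, hqz, map_sum]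
      simp [hzz]
  refine ⟨LinearEquiv.ofBijective F ⟨hinj, ?_⟩, fun u => ?_⟩
  · exact (LinearMap.injective_iff_surjective_of_finrank_eq_finrank
      (by simp [Module.finrank_prod, hn]; ring)).1 hinj
  · show q (F u) = qf u
    rw [hF, hpol, hWq _ (hWsum _), hqsum, zero_add, zero_add, map_sum]
    simp [qf, dotProduct, map_sum, hBs (w _) (z _), hzw]
    exact Finset.sum_congr rfl fun i _ => mul_comm _ _

variable {n : ℕ} {K : Type*} [Group K]

/-- The extraspecial kernel of the cover. -/
theorem exists_extraspecial_cover (hn : 1 ≤ n) (ρ : Representation (ZMod 2) K (Pair n))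
    (hρ : Function.Injective ρ) (hq : ∀ k u, qf (ρ k u) = qf u) :
    ∃ (R : Type) (_ : Group R) (_ : Finite R) (Q : Subgroup R) (hN : Q.Normal) (e : R ⧸ Q ≃* K)
      (χ : ↥Q →* Multiplicative (Pair n)),
      Cfsg.IsExtraspecial 2 ↥Q ∧ Nat.card ↥Q = 2 ^ (2 * n + 1) ∧ Function.Surjective χ ∧
        χ.ker = Subgroup.center ↥Q ∧
        (∀ (r : R) (a : ↥Q), χ ⟨r * a * r⁻¹, hN.conj_mem (a : R) a.2 r⟩ =
          Multiplicative.ofAdd (ρ (e (r : R ⧸ Q)) (Multiplicative.toAdd (χ a)))) ∧
        ∀ a : ↥Q, a * a = 1 ↔ qf (Multiplicative.toAdd (χ a)) = 0 := by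
  classical
  haveI : Fact (Nat.Prime 2) := ⟨Nat.prime_two⟩
  set π := proj ρ hρ with hπ
  set Q := π.ker with hQ
  have hπm : ∀ T : cover ρ, Moves ρ (T : O n) (π T) := proj_spec ρ hρ
  let el : ZMod 2 × Pair n → Q := fun t =>
    ⟨⟨signed t.1 t.2, 1, signed_moves ρ t.1 t.2⟩,
      moves_unique ρ hρ (hπm _) (signed_moves ρ t.1 t.2)⟩
  have hel : Function.Bijective el := by
    refine ⟨fun t t' h => ?_, fun T => ?_⟩
    · obtain ⟨h1, h2⟩ := signed_inj (congrArg (fun T : Q => ((T : cover ρ) : O n)) h)
      exact Prod.ext h1 h2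
    · have h1 := hπm (T : cover ρ)
      rw [show π (T : cover ρ) = 1 from T.2] at h1
      obtain ⟨v, e, hv⟩ := exists_eq_smul_E ρ h1
      exact ⟨(e, v), Subtype.ext (Subtype.ext (Subtype.ext hv.symm))⟩
  have helmul : ∀ t t', el t * el t' = el (t.1 + t'.1 + cc t.2 t'.2, t.2 + t'.2) := fun t t' =>
    Subtype.ext (Subtype.ext (signed_mul t.1 t'.1 t.2 t'.2))
  have hel1 : el (0, 0) = 1 := Subtype.ext (Subtype.ext signed_zero)
  let eq' := Equiv.ofBijective el hel
  let χ : Q →* Multiplicative (Pair n) :=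
    { toFun := fun a => Multiplicative.ofAdd (eq'.symm a).2
      map_one' := by
        rw [show eq'.symm 1 = (0, 0) from eq'.symm_apply_eq.2 hel1.symm]; rfl
      map_mul' := fun a b => by
        obtain ⟨t, rfl⟩ := hel.2 a
        obtain ⟨t', rfl⟩ := hel.2 b
        rw [helmul]
        show Multiplicative.ofAdd (eq'.symm (eq' _)).2 = Multiplicative.ofAdd
          ((eq'.symm (eq' t)).2 + (eq'.symm (eq' t')).2)
        simp only [Equiv.symm_apply_apply] }
  have hχ : ∀ t, χ (el t) = Multiplicative.ofAdd t.2 := fun t => by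
    show Multiplicative.ofAdd (eq'.symm (eq' t)).2 = _
    rw [Equiv.symm_apply_apply]
  haveI : Finite Q := Finite.of_equiv _ eq'
  have hcard : Nat.card Q = 2 ^ (2 * n + 1) := by
    rw [← Nat.card_congr eq', Nat.card_prod, Nat.card_prod]
    simp only [Nat.card_fun, Nat.card_zmod, Fintype.card_fin, Nat.card_fin]
    ring
  haveI : Finite (Pair n →ₗ[ZMod 2] Pair n) := Finite.of_injective _ DFunLike.coe_injective
  haveI hKfin : Finite K := Finite.of_injective ρ hρ
  haveI : Finite (cover ρ) := by
    refine Nat.finite_of_card_ne_zero ?_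
    rw [← Subgroup.card_mul_index Q, hQ, Subgroup.index_ker]
    exact mul_ne_zero Nat.card_pos.ne' Nat.card_pos.ne'
  have hsurj := proj_surjective ρ hρ hq
  let e : cover ρ ⧸ Q ≃* K := QuotientGroup.quotientKerEquivOfSurjective π hsurj
  -- the centre
  have hzc : ∀ c t, el (c, 0) * el t = el t * el (c, 0) := fun c t => by
    rw [helmul, helmul]; congr 1
    refine Prod.ext ?_ (add_comm _ _)
    simp [cc, add_comm]
  have hcenter : ∀ a : Q, a ∈ Subgroup.center Q ↔ (eq'.symm a).2 = 0 := by
    intro a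
    obtain ⟨⟨c, v⟩, rfl⟩ := hel.2 a
    rw [show eq'.symm (el (c, v)) = (c, v) from eq'.symm_apply_apply _]
    constructor
    · intro hc
      have h1 : ∀ u, cc v u = cc u v := fun u => by
        have h2 := Subgroup.mem_center_iff.1 hc (el (0, u))
        rw [helmul, helmul] at h2
        have h3 := congrArg Prod.fst (hel.1 h2)
        simp only at h3
        linear_combination -h3
      refine Prod.ext (funext fun i => ?_) (funext fun i => ?_)
      · simpa [cc] using (h1 (0, Pi.single i 1)).symm
      · simpa [cc] using h1 (Pi.single i 1, 0)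
    · intro hv
      simp only at hv
      subst hv
      refine Subgroup.mem_center_iff.2 fun g => ?_
      obtain ⟨t, rfl⟩ := hel.2 g
      exact (hzc c t).symm
  have hker : χ.ker = Subgroup.center Q := by
    ext a
    rw [hcenter, MonoidHom.mem_ker]
    exact Iff.rfl
  have hcz : Nat.card (Subgroup.center Q) = 2 := by
    have : Nat.card (Subgroup.center Q) = Nat.card (ZMod 2) := Nat.card_congr
      { toFun := fun a => (eq'.symm a.1).1
        invFun := fun c => ⟨el (c, 0), (hcenter _).2 (by
          rw [show eq'.symm (el (c, 0)) = (c, 0) from eq'.symm_apply_apply _])⟩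
        left_inv := fun a => Subtype.ext (by
          have h := (hcenter a.1).1 a.2
          show eq' ((eq'.symm a.1).1, 0) = a.1
          rw [← h, Prod.mk.eta, Equiv.apply_symm_apply])
        right_inv := fun c => by
          show (eq'.symm (eq' (c, 0))).1 = c
          rw [Equiv.symm_apply_apply] }
    rw [this, Nat.card_zmod]
  have hpg : IsPGroup 2 Q := IsPGroup.of_card hcard
  have hcle : commutator Q ≤ Subgroup.center Q := by
    rw [← hker]
    exact Abelianization.commutator_subset_ker χ
  have hcge : Subgroup.center Q ≤ commutator Q := by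
    intro a ha
    obtain ⟨⟨c, v⟩, rfl⟩ := hel.2 a
    have hv : v = 0 := by
      have := (hcenter _).1 ha
      rwa [show eq'.symm (el (c, v)) = (c, v) from eq'.symm_apply_apply _] at this
    subst hv
    rcases zmod2_cases c with rfl | rfl
    · rw [hel1]; exact one_mem _
    · let i : Fin n := ⟨0, hn⟩
      set a' := el (0, ((0, Pi.single i 1) : Pair n))
      set b' := el (0, ((Pi.single i 1, 0) : Pair n))
      have h1 : a' * b' = el (1, 0) * (b' * a') := by
        rw [helmul, helmul, helmul]; congr 1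
        refine Prod.ext ?_ ?_
        · simp [cc]
        · simp [add_comm]
      have h2 : el (1, (0 : Pair n)) = ⁅a', b'⁆ := by
        rw [commutatorElement_def, mul_assoc (a' * b'), ← _root_.mul_inv_rev, h1, mul_inv_cancel_right]
      rw [h2]
      exact Subgroup.commutator_mem_commutator (Subgroup.mem_top _) (Subgroup.mem_top _)
  have hsqc : ∀ x : Q, x ^ 2 ∈ Subgroup.center Q := fun x => by
    obtain ⟨t, rfl⟩ := hel.2 x
    rw [pow_two, helmul, hcenter, show eq'.symm (el (_, t.2 + t.2)) = _ from eq'.symm_apply_apply _]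
    exact pair_add_self _
  have hext : Cfsg.IsExtraspecial 2 Q :=
    ⟨⟨hpg, le_antisymm (PGroup.frattini_le_of _ hcle hsqc)
      (hcge.trans (PGroup.commutator_le_frattini hpg)), le_antisymm hcle hcge⟩, hcz⟩
  refine ⟨cover ρ, inferInstance, inferInstance, Q, inferInstance, e, χ, hext, hcard, ?_, hker, ?_, ?_⟩
  · exact fun u => ⟨el (0, Multiplicative.toAdd u), hχ _⟩
  · intro r a
    obtain ⟨⟨c, v⟩, rfl⟩ := hel.2 a
    rw [hχ]
    show _ = Multiplicative.ofAdd (ρ (π r) v)
    obtain ⟨ε, hε0, hε⟩ := hπm r v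
    obtain ⟨⟨c', v'⟩, hv'⟩ := hel.2 ⟨r * (el (c, v) : cover ρ) * r⁻¹,
      (inferInstance : Q.Normal).conj_mem _ (el (c, v)).2 r⟩
    rw [← hv', hχ]
    congr 1
    have h1 : ((el (c', v') : cover ρ) : O n) = (r : O n) * signed c v * (r : O n)⁻¹ :=
      congrArg (fun T : Q => ((T : cover ρ) : O n)) hv'
    have h2 : sgn c' • E v' = (r : O n).1 * (sgn c • E v) * ((r : O n)⁻¹ : O n).1 :=
      congrArg Subtype.val h1
    rw [Matrix.mul_smul, hε, Matrix.smul_mul, Matrix.smul_mul, Matrix.mul_assoc, mul_inv_val,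
      Matrix.mul_one, smul_smul] at h2
    refine (eq_of_smul_E (c := (sgn c')⁻¹ * (sgn c * ε)) ?_).1
    rw [← smul_smul, ← h2, smul_smul, inv_mul_cancel₀ (sgn_ne_zero c'), one_smul]
  · intro a
    obtain ⟨⟨c, v⟩, rfl⟩ := hel.2 a
    rw [hχ, helmul, ← hel1, hel.1.eq_iff, Prod.mk.injEq]
    simp [pair_add_self, CharTwo.add_self_eq_zero, cc_self]

end CfsgLib.LocalEvenSix.CliffordCover
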