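import Cfsg.Agent.Lib.LocalEvenSix.ZJClosed
import Cfsg.Agent.Lib.PLocal.Constraint
import Cfsg.Agent.Lib.LocalEven.SylowControl
import Cfsg.Prelude.Def_EvenType
import Cfsg.Prelude.Def_LocalEven

/-!
# Normalizers of `Z(J(D))` control strong fusion
-/

set_option autoImplicit false
set_option linter.style.haveILetI false

namespace CfsgLib.LocalEvenSix.ControlsZJ

open Subgroup CfsgLib CfsgLib.PLocal CfsgLib.LocalEvenSix.ZJClosed
open scoped commutatorElement

variable {G : Type*} [Group G] [Finite G] {p : ℕ} [hp : Fact p.Prime]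

/-- Normalizer-form stability passes to subgroups. -/
theorem isNormalizerPStable_subgroup (h : Cfsg.IsNormalizerPStable p G) (H : Subgroup G) :
    Cfsg.IsNormalizerPStable p H := by
  intro V hV g hg hq
  set V' := V.map H.subtype with hV'
  have hg' : (g : G) ∈ normalizer (V' : Set G) := le_normalizer_map H.subtype ⟨g, hg, rfl⟩
  have hq' : ⁅⁅V', zpowers (g : G)⁆, zpowers (g : G)⁆ = ⊥ := by
    rw [hV', show zpowers (g : G) = (zpowers g).map H.subtype from (H.subtype.map_zpowers g).symm,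
      ← map_commutator, ← map_commutator, hq, Subgroup.map_bot]
  have h1 := h V' (hV.map _) (g : G) hg' hq'
  let f : normalizer (V : Set H) →* normalizer (V' : Set G) :=
    (H.subtype.comp (normalizer (V : Set H)).subtype).codRestrict _
      fun x => le_normalizer_map H.subtype ⟨x, x.2, rfl⟩
  let C := (centralizer (V : Set H)).subgroupOf (normalizer (V : Set H))
  let C' := (centralizer (V' : Set G)).subgroupOf (normalizer (V' : Set G))
  have hC : C'.comap f = C := by
    ext x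
    simp only [C, C', mem_comap, mem_subgroupOf, mem_centralizer_iff]
    constructor
    · exact fun hx v hv => Subtype.ext (hx (v : G) ⟨v, hv, rfl⟩)
    · rintro hx _ ⟨v, hv, rfl⟩
      exact congrArg Subtype.val (hx v hv)
  let fb := QuotientGroup.map C C' f hC.ge
  have hinj : Function.Injective fb := by
    rw [injective_iff_map_eq_one]
    intro a ha
    obtain ⟨a, rfl⟩ := QuotientGroup.mk'_surjective C a
    exact (QuotientGroup.eq_one_iff a).mpr (hC.le ((QuotientGroup.eq_one_iff (f a)).mp ha))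
  refine (PCore.le_pCore (p := p) (N := (Cfsg.pCore p (_ ⧸ C')).comap fb)
    ((Cfsg.pCore_normal p _).comap fb) ?_) h1
  exact IsPGroup.comap_of_injective PCore.pCore_isPGroup fb hinj

/-- Stability of every normal `p`-subgroup modulo a normal `p'`-subgroup. -/
theorem isPStableOn_quotient (h : Cfsg.IsNormalizerPStable p G) (N : Subgroup G) [N.Normal]
    (hN : (Nat.card N).Coprime p) (W : Subgroup (G ⧸ N)) [W.Normal] (hW : IsPGroup p W) :
    Cfsg.IsPStableOn p W := by
  set q := QuotientGroup.mk' N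
  obtain ⟨S⟩ : Nonempty (Sylow p G) := inferInstance
  have hWS : W ≤ (S : Subgroup G).map q := by
    rw [← Sylow.coe_mapSurjective (QuotientGroup.mk'_surjective N) S]
    exact (PCore.le_pCore inferInstance hW).trans (PCore.pCore_le_sylow _)
  obtain ⟨V, hVdef⟩ : ∃ V, V = (S : Subgroup G) ⊓ W.comap q := ⟨_, rfl⟩
  have hVW : V.map q = W := by
    rw [hVdef]
    refine le_antisymm ?_ fun y hy => ?_
    · rintro _ ⟨x, hx, rfl⟩; exact hx.2
    · obtain ⟨x, hx, rfl⟩ := hWS hy
      exact ⟨x, ⟨hx, hy⟩, rfl⟩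
  have hVp : IsPGroup p V := S.isPGroup'.to_le (hVdef.le.trans inf_le_left)
  subst hVW
  intro b hb
  have hNW : normalizer ((V.map q : Subgroup (G ⧸ N)) : Set (G ⧸ N)) = ⊤ := normalizer_eq_top _
  obtain ⟨⟨a, ha⟩, hab⟩ := normalizerMap_surjective hN hVp ⟨b, hNW ▸ mem_top b⟩
  have hab' : q a = b := congrArg Subtype.val hab
  have hqa : ⁅⁅V, zpowers a⁆, zpowers a⁆ = ⊥ := by
    refine le_bot_iff.mp ((le_inf ?_ ?_).trans (PCore.inf_eq_bot_of_isPGroup_coprime hVp hN).le)
    · have h1 : ⁅V, zpowers a⁆ ≤ V := by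
        rw [commutator_comm]
        exact le_normalizer_iff_commutator_le_right.mp (zpowers_le.mpr ha)
      exact (commutator_mono h1 le_rfl).trans (by
        rw [commutator_comm]
        exact le_normalizer_iff_commutator_le_right.mp (zpowers_le.mpr ha))
    · have h2 : (⁅⁅V, zpowers a⁆, zpowers a⁆).map q = ⊥ := by
        rw [map_commutator, map_commutator, MonoidHom.map_zpowers, hab', hb]
      rwa [Subgroup.map_eq_bot_iff, QuotientGroup.ker_mk'] at h2
  have h3 := (mem_pCore_normalizer_quotient_iff hN hVp ⟨a, ha⟩).mp (h V hVp a ha hqa)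
  rw [hab] at h3
  exact (mk_mem_pCore_iff_of_surjective (p := p)
    (normalizer ((V.map q : Subgroup (G ⧸ N)) : Set (G ⧸ N))).subtype
    (fun x => ⟨⟨x, hNW ▸ mem_top x⟩, rfl⟩) (centralizer ((V.map q : Subgroup (G ⧸ N)) : Set (G ⧸ N)))
    ((centralizer ((V.map q : Subgroup (G ⧸ N)) : Set (G ⧸ N))).subgroupOf
      (normalizer ((V.map q : Subgroup (G ⧸ N)) : Set (G ⧸ N)))) rfl ⟨b, hNW ▸ mem_top b⟩).mp h3

/-- Glauberman's factorization for a strongly closed subgroup. -/
theorem sup_normalizer_zjClosed {e : ℕ} (hp2 : p ≠ 2) (he : e = 0 ∨ e = p)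
    (hst : Cfsg.IsNormalizerPStable p G) (hc : Cfsg.IsPConstrained p G) (P : Sylow p G)
    {D : Subgroup G} (hD : Cfsg.IsStronglyClosed D (P : Subgroup G)) :
    Cfsg.pPrimeCore p G ⊔ normalizer (zj e D : Set G) = ⊤ := by
  set N := Cfsg.pPrimeCore p G
  have hN : (Nat.card N).Coprime p := PCore.pPrimeCore_coprime
  set q := QuotientGroup.mk' N
  have hDp : IsPGroup p D := P.isPGroup'.to_le hD.1
  have h := zjClosed_normal (e := e) hp2 he (isPConstrained_iff.mp hc)
    (fun W _ hW => isPStableOn_quotient hst N hN W hW)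
    (P.mapSurjective (QuotientGroup.mk'_surjective N)) (D := D.map q)
    (by rw [Sylow.coe_mapSurjective]; exact stronglyClosed_map_of_coprime hD hN)
  have hinj : Function.Injective (q.comp D.subtype) := by
    rw [injective_iff_map_eq_one]
    intro x hx
    exact Subtype.ext (eq_one_of_mem_pGroup_of_mem_coprime hDp hN x.2
      ((QuotientGroup.eq_one_iff (x : G)).mp hx))
  rw [zj_map_of_injOn q _ hinj] at h
  refine top_le_iff.mp fun x _ => ?_
  obtain ⟨n, hn, hnx⟩ := exists_mul_mem_normalizer hN (hDp.to_le (zj_le e _)) (x := x)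
    fun y hy => by
      rw [map_mul, map_mul, map_inv]
      exact h.conj_mem _ ⟨y, hy, rfl⟩ _
  simpa using Subgroup.mul_mem_sup (inv_mem hn) hnx

/-- Fusion between two `p`-subgroups with the same image modulo a normal `p'`-subgroup. -/
theorem exists_fusion_mod {N R R' : Subgroup G} [N.Normal] (hN : (Nat.card N).Coprime p)
    (hR : IsPGroup p R) (hR' : IsPGroup p R')
    (h : R.map (QuotientGroup.mk' N) = R'.map (QuotientGroup.mk' N)) :
    ∃ o ∈ N, ∀ r ∈ R, o * r * o⁻¹ ∈ R' ∧ (o * r * o⁻¹)⁻¹ * r ∈ N := by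
  set X := N ⊔ R with hX
  have hR'X : R' ≤ X := by
    have h1 := map_le_iff_le_comap.mp h.ge
    rwa [comap_map_eq, QuotientGroup.ker_mk', sup_comm] at h1
  have hX' : X = N ⊔ R' := by
    have h1 := congrArg (Subgroup.comap (QuotientGroup.mk' N)) h
    simp only [comap_map_eq, QuotientGroup.ker_mk'] at h1
    rw [hX, sup_comm, h1, sup_comm]
  have hidx : ∀ U : Subgroup G, X = N ⊔ U → ¬ p ∣ (U.subgroupOf X).index := by
    intro U hU hd
    have h1 := (U.subgroupOf X).card_mul_index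
    rw [Nat.card_congr (subgroupOfEquivOfLe (hU.ge.trans' le_sup_right)).toEquiv] at h1
    have h2 : Nat.card U * (U.subgroupOf X).index ∣ Nat.card U * Nat.card N := by
      rw [h1, hU, mul_comm]; exact PCore.card_sup_dvd_mul N U
    exact hp.out.coprime_iff_not_dvd.mp hN.symm
      (hd.trans (Nat.dvd_of_mul_dvd_mul_left Nat.card_pos h2))
  let S1 : Sylow p X := (hR.comap_subtype (K := X)).toSylow (hidx R rfl)
  let S2 : Sylow p X := (hR'.comap_subtype (K := X)).toSylow (hidx R' hX')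
  obtain ⟨t, ht⟩ := MulAction.exists_smul_eq X S1 S2
  obtain ⟨o, ho, u, hu, hou⟩ := mem_sup_of_normal_left.mp t.2
  refine ⟨o, ho, fun r hr => ⟨?_, ?_⟩⟩
  · have hr' : u⁻¹ * r * u ∈ R := mul_mem (mul_mem (inv_mem hu) hr) hu
    have h1 : (MulAut.conj t) (⟨u⁻¹ * r * u, le_sup_right (a := N) hr'⟩ : X) ∈ (S2 : Subgroup X) := by
      rw [← ht, Sylow.coe_subgroup_smul]
      exact ⟨_, hr', rfl⟩
    have h2 : (t : G) * (u⁻¹ * r * u) * (t : G)⁻¹ ∈ R' := h1
    have h3 : o * r * o⁻¹ = (t : G) * (u⁻¹ * r * u) * (t : G)⁻¹ := by rw [← hou]; group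
    rwa [h3]
  · have h2 := ‹N.Normal›.conj_mem _ (inv_mem ho) r⁻¹
    have h3 : (o * r * o⁻¹)⁻¹ * r = o * (r⁻¹ * o⁻¹ * r) := by group
    rw [h3]
    exact mul_mem ho (by simpa using h2)

/-- `R` is moved by `x` as by some element of `M`. -/
def Rel (M R : Subgroup G) (x : G) : Prop := ∃ n ∈ M, ∀ r ∈ R, x * r * x⁻¹ = n * r * n⁻¹

theorem Rel.of_mem {M R : Subgroup G} {x : G} (h : x ∈ M) : Rel M R x := ⟨x, h, fun _ _ => rfl⟩

theorem Rel.mono {M R R' : Subgroup G} {x : G} (h : Rel M R x) (hle : R' ≤ R) : Rel M R' x :=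
  h.imp fun _ hn => ⟨hn.1, fun r hr => hn.2 r (hle hr)⟩

theorem Rel.inv {M R : Subgroup G} {x : G} (h : Rel M R x) :
    Rel M (R.map (MulAut.conj x : G →* G)) x⁻¹ := by
  obtain ⟨n, hn, h⟩ := h
  refine ⟨n⁻¹, inv_mem hn, ?_⟩
  rintro _ ⟨r, hr, rfl⟩
  have h1 := h r hr
  show x⁻¹ * (x * r * x⁻¹) * x⁻¹⁻¹ = n⁻¹ * (x * r * x⁻¹) * n⁻¹⁻¹
  conv_rhs => rw [h1]
  group

theorem Rel.mul {M R : Subgroup G} {x y : G} (hy : Rel M R y)
    (hx : Rel M (R.map (MulAut.conj y : G →* G)) x) : Rel M R (x * y) := by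
  obtain ⟨n, hn, h⟩ := hy
  obtain ⟨m, hm, h'⟩ := hx
  refine ⟨m * n, mul_mem hm hn, fun r hr => ?_⟩
  have h1 : x * (y * r * y⁻¹) * x⁻¹ = m * (y * r * y⁻¹) * m⁻¹ := h' _ ⟨r, hr, rfl⟩
  calc x * y * r * (x * y)⁻¹ = x * (y * r * y⁻¹) * x⁻¹ := by group
    _ = m * (n * r * n⁻¹) * m⁻¹ := by rw [h1, h r hr]
    _ = m * n * r * (m * n)⁻¹ := by group

theorem Rel.congr {M R : Subgroup G} {x y : G} (h : Rel M R y)
    (hxy : ∀ r ∈ R, x * r * x⁻¹ = y * r * y⁻¹) : Rel M R x :=
  h.imp fun _ hn => ⟨hn.1, fun r hr => (hxy r hr).trans (hn.2 r hr)⟩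

/-- `P ∩ N(Y)` is a Sylow subgroup of `N(Y)`. -/
def Full (P : Sylow p G) (Y : Subgroup G) : Prop :=
  ¬ p ∣ (P : Subgroup G).relIndex (normalizer (Y : Set G))

theorem exists_full (P : Sylow p G) (Y : Subgroup G) (hY : Y ≤ (P : Subgroup G)) :
    ∃ a : G, Full P (Y.map (MulAut.conj a : G →* G)) ∧
      ((P : Subgroup G) ⊓ normalizer (Y : Set G)).map (MulAut.conj a : G →* G) ≤ (P : Subgroup G) ∧
      Y.map (MulAut.conj a : G →* G) ≤ (P : Subgroup G) := by
  set L := normalizer (Y : Set G)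
  obtain ⟨S, hS⟩ := (P.isPGroup'.comap_subtype (K := L)).exists_le_sylow
  obtain ⟨R, hR⟩ := (S.isPGroup'.map L.subtype).exists_le_sylow
  obtain ⟨g, rfl⟩ := MulAction.exists_smul_eq G P R
  have hmem : ∀ y : L, y ∈ (S : Subgroup L) → g⁻¹ * y * g ∈ (P : Subgroup G) := fun y hy => by
    have h1 := hR ⟨y, hy, rfl⟩
    rw [Sylow.coe_subgroup_smul, mem_pointwise_smul_iff_inv_smul_mem] at h1
    simpa [MulAut.smul_def] using h1
  have hle : ((P : Subgroup G) ⊓ L).map (MulAut.conj g⁻¹ : G →* G) ≤ (P : Subgroup G) := by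
    rintro _ ⟨y, hy, rfl⟩
    simpa using hmem ⟨y, hy.2⟩ (hS hy.1)
  refine ⟨g⁻¹, ?_, hle, (Subgroup.map_mono (le_inf hY le_normalizer)).trans hle⟩
  show ¬ p ∣ (P : Subgroup G).relIndex _
  have he : normalizer ((Y.map (MulAut.conj g⁻¹ : G →* G) : Subgroup G) : Set G) =
      L.map (MulAut.conj g⁻¹ : G →* G) := (Subgroup.map_equiv_normalizer_eq Y (MulAut.conj g⁻¹)).symm
  have hle' : (S : Subgroup L).map L.subtype ≤ (P : Subgroup G).comap (MulAut.conj g⁻¹ : G →* G) := by
    rintro _ ⟨y, hy, rfl⟩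
    simpa using hmem y hy
  rw [he, ← relIndex_comap]
  refine fun hd => S.not_dvd_index (hd.trans ?_)
  have h2 := relIndex_dvd_of_le_left L hle'
  have h3 : ((S : Subgroup L).map L.subtype).relIndex L = (S : Subgroup L).index := by
    rw [relIndex, subgroupOf, comap_map_eq_self_of_injective L.subtype_injective]
  exact h3 ▸ h2

/-- Sylow conjugation into a fully normalised conjugate. -/
theorem exists_conj_full (P : Sylow p G) {Q Q1 : Subgroup G} {a : G}
    (hQ1 : Full P Q1) (ha : Q.map (MulAut.conj a : G →* G) = Q1) :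
    ∃ b : G, Q.map (MulAut.conj b : G →* G) = Q1 ∧
      ((P : Subgroup G) ⊓ normalizer (Q : Set G)).map (MulAut.conj b : G →* G) ≤ (P : Subgroup G) := by
  set L := normalizer (Q1 : Set G) with hL
  set T := ((P : Subgroup G) ⊓ normalizer (Q : Set G)).map (MulAut.conj a : G →* G) with hT
  have hTL : T ≤ L := by
    rw [hT, hL, ← ha]
    exact (Subgroup.map_mono inf_le_right).trans (le_normalizer_map _)
  let S0 : Sylow p L := (P.isPGroup'.comap_subtype (K := L)).toSylow hQ1
  obtain ⟨S, hS⟩ := (((P.isPGroup'.to_le (inf_le_left (b := normalizer (Q : Set G)))).map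
    (MulAut.conj a : G →* G)).comap_subtype (K := L)).exists_le_sylow
  obtain ⟨l, hl⟩ := MulAction.exists_smul_eq L S S0
  refine ⟨(l : G) * a, ?_, ?_⟩
  · have h1 : Q.map (MulAut.conj ((l : G) * a) : G →* G) =
        (Q.map (MulAut.conj a : G →* G)).map (MulAut.conj (l : G) : G →* G) := by
      rw [Subgroup.map_map]
      congr 1
      ext x
      simp [mul_assoc]
    rw [h1, ha]
    exact Subgroup.mem_normalizer_iff_map_conj_eq.mp l.2
  · rintro _ ⟨x, hx, rfl⟩
    have h1 : a * x * a⁻¹ ∈ L := hTL ⟨x, hx, rfl⟩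
    have h2 : (MulAut.conj l) ⟨_, h1⟩ ∈ (S0 : Subgroup L) := by
      rw [← hl, Sylow.coe_subgroup_smul]
      exact ⟨⟨_, h1⟩, hS ⟨x, hx, rfl⟩, rfl⟩
    have h3 : (l : G) * (a * x * a⁻¹) * (l : G)⁻¹ ∈ (P : Subgroup G) := h2
    simpa [mul_assoc] using h3

/-- `N(Z(J(D)))` controls strong fusion. -/
theorem rel_zjClosed {e : ℕ} (hp2 : p ≠ 2) (he : e = 0 ∨ e = p) (P : Sylow p G) {D : Subgroup G}
    (hD : Cfsg.IsStronglyClosed D (P : Subgroup G)) (hst : Cfsg.IsNormalizerPStable p G)
    (hc : ∀ U : Subgroup G, U ≤ (P : Subgroup G) → U ≠ ⊥ → Cfsg.IsPConstrained p (normalizer (U : Set G))) :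
    ∀ R : Subgroup G, R ≤ (P : Subgroup G) → ∀ x : G,
      R.map (MulAut.conj x : G →* G) ≤ (P : Subgroup G) → Rel (normalizer (zj e D : Set G)) R x := by
  set M := normalizer (zj e D : Set G) with hM
  rcases eq_or_ne D ⊥ with hD0 | hD0
  · intro R _ x _
    have : M = ⊤ := normalizer_eq_top_iff.2 (by
      rw [le_bot_iff.1 ((zj_le e D).trans hD0.le)]; infer_instance)
    exact Rel.of_mem (this ▸ mem_top x)
  have hPD : (P : Subgroup G) ≤ normalizer (D : Set G) := le_normalizer_of_stronglyClosed hD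
  suffices key : ∀ m (R : Subgroup G), Nat.card (P : Subgroup G) - Nat.card R = m →
      R ≤ (P : Subgroup G) → ∀ x : G, R.map (MulAut.conj x : G →* G) ≤ (P : Subgroup G) → Rel M R x from
    fun R => key _ R rfl
  intro m
  induction m using Nat.strong_induction_on with
  | _ m IH =>
  intro R hm hRP x hxP
  have big : ∀ U : Subgroup G, U ≤ (P : Subgroup G) → Nat.card R < Nat.card U → ∀ y : G,
      U.map (MulAut.conj y : G →* G) ≤ (P : Subgroup G) → Rel M U y := fun U hU hlt =>
    IH _ (by have := Subgroup.card_le_of_le hU; omega) U rfl hU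
  rcases eq_or_ne R ⊥ with rfl | hR0
  · exact ⟨1, one_mem _, fun r hr => by rw [mem_bot.1 hr]; simp⟩
  rcases eq_or_ne R (P : Subgroup G) with rfl | hRne
  · refine Rel.of_mem ?_
    have hx : x ∈ normalizer ((P : Subgroup G) : Set G) := by
      rw [mem_normalizer_iff_map_conj_eq]
      exact eq_of_le_of_card_ge hxP (card_map_of_injective (MulAut.conj x).injective).ge
    refine normalizer_le_normalizer_zj e D ?_
    refine mem_normalizer_iff.2 fun y => ⟨fun hy => ?_, fun hy => ?_⟩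
    · exact hD.2 y hy x ((mem_normalizer_iff.1 hx y).1 (hD.1 hy))
    · have h1 := hD.2 _ hy x⁻¹ (by simpa [mul_assoc] using (mem_normalizer_iff.1 hx y).2 (hD.1 hy))
      simpa [mul_assoc] using h1
  -- elements of normalizers
  have inner : ∀ j (Y : Subgroup G), Y ≤ (P : Subgroup G) → Y ≠ ⊥ → Full P Y →
      Nat.card (P : Subgroup G) - Nat.card ((P : Subgroup G) ⊓ normalizer (Y : Set G) : Subgroup G) = j →
      ∀ (R' : Subgroup G) (y : G), Nat.card R' = Nat.card R →
        R' ≤ (P : Subgroup G) ⊓ normalizer (Y : Set G) → y ∈ normalizer (Y : Set G) →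
        R'.map (MulAut.conj y : G →* G) ≤ (P : Subgroup G) → Rel M R' y := by
    intro j
    induction j using Nat.strong_induction_on with
    | _ j IH2 =>
    intro Y hYP hY0 hYf hj R' y hR'c hR'T hy hyP
    set L := normalizer (Y : Set G) with hL
    set T := (P : Subgroup G) ⊓ L with hT
    let PL : Sylow p L := (P.isPGroup'.comap_subtype (K := L)).toSylow hYf
    have hDL : Cfsg.IsStronglyClosed (D.subgroupOf L) (PL : Subgroup L) :=
      ⟨Subgroup.comap_mono hD.1, fun z hz l hl => hD.2 z hz l hl⟩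
    have hf := sup_normalizer_zjClosed (e := e) hp2 he (isNormalizerPStable_subgroup hst L)
      (hc Y hYP hY0) PL hDL
    set O := Cfsg.pPrimeCore p L with hO
    haveI : O.Normal := Cfsg.pPrimeCore_normal p L
    set Y' := zj e (D ⊓ L) with hY'
    have hY'map : Y' = (zj e (D.subgroupOf L)).map L.subtype := by
      rw [hY', ← zj_map L.subtype_injective, subgroupOf_map_subtype]
    set K := normalizer (zj e (D.subgroupOf L) : Set L) with hK
    have hKY' : ∀ k : L, k ∈ K → (k : G) ∈ normalizer (Y' : Set G) := fun k hk => by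
      rw [hY'map]; exact le_normalizer_map L.subtype ⟨k, hk, rfl⟩
    have hTK : ∀ t : L, (t : G) ∈ (P : Subgroup G) → t ∈ K := fun t ht =>
      (le_normalizer_of_stronglyClosed hDL).trans (normalizer_le_normalizer_zj e _) ht
    obtain ⟨o, ho, k, hk, hok⟩ := mem_sup_of_normal_left.1 (hf ▸ mem_top (⟨y, hy⟩ : L))
    -- correct `k` inside `K` so that it agrees with `y` on `R'`
    let A := R'.subgroupOf L
    let B := (R'.map (MulAut.conj y : G →* G)).subgroupOf L
    have hR'p : IsPGroup p R' := P.isPGroup'.to_le (hR'T.trans inf_le_left)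
    have hAK : ∀ a ∈ A, a ∈ K := fun a ha => hTK a (hR'T ha).1
    have hBK : ∀ b ∈ B, b ∈ K := fun b hb => hTK b (hyP hb)
    have hex : ∃ k' ∈ K, ∀ a ∈ A, (k' : G) * a * (k' : G)⁻¹ = y * a * y⁻¹ := by
      let OK := O.subgroupOf K
      let A2 := (A.map (MulAut.conj k : L →* L)).subgroupOf K
      let B2 := B.subgroupOf K
      set q := QuotientGroup.mk' OK with hq
      have hOc : (Nat.card OK).Coprime p :=
        PCore.pPrimeCore_coprime.coprime_dvd_left
          ((Subgroup.card_map_of_injective K.subtype_injective).symm.dvd.trans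
            (Subgroup.card_dvd_of_le (map_comap_le _ _)))
      have hB2p : IsPGroup p B2 := ((hR'p.map _).comap_subtype).comap_subtype
      have hA2p : IsPGroup p A2 := (hR'p.comap_subtype.map _).comap_subtype
      have hdiff : ∀ a ∈ A, (k * a * k⁻¹)⁻¹ * (⟨y, hy⟩ * a * ⟨y, hy⟩⁻¹) ∈ O := fun a _ => by
        have h2 : (k * a * k⁻¹)⁻¹ * o * (k * a * k⁻¹) ∈ O := by
          simpa [mul_assoc] using (inferInstance : O.Normal).conj_mem o ho (k * a * k⁻¹)⁻¹
        have h3 := mul_mem h2 (inv_mem ho)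
        rw [← hok]
        convert h3 using 1
        group
      have hmap : A2.map q = B2.map q := by
        ext z
        constructor
        · rintro ⟨u, ⟨a, ha, hau⟩, rfl⟩
          have hb : (⟨y, hy⟩ * a * ⟨y, hy⟩⁻¹ : L) ∈ B := ⟨(a : G), ha, rfl⟩
          refine ⟨⟨_, hBK _ hb⟩, hb, ?_⟩
          symm
          rw [hq, QuotientGroup.mk'_apply, QuotientGroup.mk'_apply, QuotientGroup.eq]
          show (u : L)⁻¹ * _ ∈ O
          rw [show (u : L) = k * a * k⁻¹ from hau.symm]
          exact hdiff a ha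
        · rintro ⟨u, ⟨a, ha, hau⟩, rfl⟩
          have haL : a ∈ L := (hR'T ha).2
          have hka : k * ⟨a, haL⟩ * k⁻¹ ∈ K := mul_mem (mul_mem hk (hAK ⟨a, haL⟩ ha)) (inv_mem hk)
          refine ⟨⟨_, hka⟩, ⟨⟨a, haL⟩, ha, rfl⟩, ?_⟩
          rw [hq, QuotientGroup.mk'_apply, QuotientGroup.mk'_apply, QuotientGroup.eq]
          show (k * ⟨a, haL⟩ * k⁻¹)⁻¹ * (u : L) ∈ O
          rw [show (u : L) = ⟨y, hy⟩ * ⟨a, haL⟩ * ⟨y, hy⟩⁻¹ from Subtype.ext hau.symm]
          exact hdiff ⟨a, haL⟩ ha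
      obtain ⟨c, hcO, hc'⟩ := exists_fusion_mod hOc hA2p hB2p hmap
      refine ⟨(c : L) * k, mul_mem c.2 hk, fun a ha => ?_⟩
      have hka : k * a * k⁻¹ ∈ K := mul_mem (mul_mem hk (hAK a ha)) (inv_mem hk)
      obtain ⟨h1, h2⟩ := hc' ⟨_, hka⟩ ⟨a, ha, rfl⟩
      have h1' : (c : L) * (k * a * k⁻¹) * (c : L)⁻¹ ∈ B := h1
      have h2' : ((c : L) * (k * a * k⁻¹) * (c : L)⁻¹)⁻¹ * (k * a * k⁻¹) ∈ O := h2
      have h3 := mul_mem h2' (hdiff a ha)
      rw [mul_assoc, mul_inv_cancel_left] at h3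
      have hb : (⟨y, hy⟩ * a * ⟨y, hy⟩⁻¹ : L) ∈ B := ⟨(a : G), ha, rfl⟩
      have h4 := eq_one_of_mem_pGroup_of_mem_coprime ((hR'p.map _).comap_subtype : IsPGroup p B)
        PCore.pPrimeCore_coprime (mul_mem (inv_mem h1') hb) h3
      rw [inv_mul_eq_one] at h4
      have h5 := congrArg Subtype.val h4
      simp only [coe_mul, InvMemClass.coe_inv] at h5
      rw [← h5]
      simp only [coe_mul]
      group
    obtain ⟨k', hk', hagree⟩ := hex
    refine Rel.congr (y := (k' : G)) ?_ fun r hr => (hagree ⟨r, (hR'T hr).2⟩ hr).symm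
    have hk'R : R'.map (MulAut.conj (k' : G) : G →* G) ≤ (P : Subgroup G) := by
      rintro _ ⟨r, hr, rfl⟩
      exact hyP ⟨r, hr, (hagree ⟨r, (hR'T hr).2⟩ hr).symm⟩
    by_cases hTP : (P : Subgroup G) ≤ L
    · refine Rel.of_mem ?_
      have h1 := hKY' k' hk'
      rwa [hY', inf_eq_left.2 (hD.1.trans hTP)] at h1
    have hTlt : Nat.card T < Nat.card ((P : Subgroup G) ⊓ normalizer (T : Set G) : Subgroup G) :=
      SylowControl.card_lt_inf_normalizer P inf_le_left fun h => hTP (h ▸ inf_le_right)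
    have hNT : (P : Subgroup G) ⊓ normalizer (T : Set G) ≤ (P : Subgroup G) ⊓ normalizer (Y' : Set G) :=
      le_inf inf_le_left fun t ht => normalizer_le_normalizer_zj e _
        (normalizer_inf_le_of_stronglyClosed hD (K := L) ht.2)
    have hDL0 : D ⊓ L ≠ ⊥ := by
      haveI : Group.IsNilpotent (P : Subgroup G) := P.isPGroup'.isNilpotent
      haveI : (D.subgroupOf (P : Subgroup G)).Normal := normal_subgroupOf_of_le_normalizer hPD
      obtain ⟨d, hd, hdc, hd1⟩ := CfsgLib.Coprime39.exists_central_mem (D.subgroupOf (P : Subgroup G))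
        (by rw [Ne, subgroupOf_eq_bot, disjoint_iff, inf_eq_left.2 hD.1]; exact hD0)
      intro h0
      apply hd1
      have hdL : (d : G) ∈ L := mem_normalizer_iff_map_conj_eq.2 (eq_of_le_of_card_ge (by
        rintro _ ⟨z, hz, rfl⟩
        have h1 : z * (d : G) = d * z := congrArg Subtype.val (mem_center_iff.1 hdc ⟨z, hYP hz⟩)
        show (d : G) * z * (d : G)⁻¹ ∈ Y
        rw [← h1, mul_inv_cancel_right]
        exact hz) (card_map_of_injective (MulAut.conj (d : G)).injective).ge)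
      have : (d : G) ∈ (⊥ : Subgroup G) := h0 ▸ ⟨hd, hdL⟩
      exact Subtype.ext (mem_bot.1 this)
    have hY'0 : Y' ≠ ⊥ := Frobenius.ZJComp.zj_ne_bot he (P.isPGroup'.to_le (inf_le_left.trans hD.1)) hDL0
    have hY'P : Y' ≤ (P : Subgroup G) := (zj_le e _).trans (inf_le_left.trans hD.1)
    obtain ⟨a, haf, haT, haY⟩ := exists_full P Y' hY'P
    set Y1 := Y'.map (MulAut.conj a : G →* G) with hY1
    set T' := (P : Subgroup G) ⊓ normalizer (Y' : Set G) with hT'
    have hRT' : R' ≤ T' := hR'T.trans ((le_inf inf_le_left le_normalizer).trans hNT)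
    have hcardT : Nat.card R < Nat.card T' := by
      have h1 := Subgroup.card_le_of_le hR'T
      have h2 := Subgroup.card_le_of_le hNT
      omega
    have hrelT : Rel M T' a := big T' inf_le_left hcardT a haT
    have hY1n : normalizer (Y1 : Set G) = (normalizer (Y' : Set G)).map (MulAut.conj a : G →* G) :=
      (Subgroup.map_equiv_normalizer_eq Y' (MulAut.conj a)).symm
    have hT1 : T'.map (MulAut.conj a : G →* G) ≤ (P : Subgroup G) ⊓ normalizer (Y1 : Set G) :=
      le_inf haT (hY1n ▸ Subgroup.map_mono inf_le_right)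
    have hlt : Nat.card (P : Subgroup G) - Nat.card ((P : Subgroup G) ⊓ normalizer (Y1 : Set G) : Subgroup G) < j := by
      have h1 := Subgroup.card_le_of_le hT1
      rw [card_map_of_injective (MulAut.conj a).injective] at h1
      have h2 := Subgroup.card_le_of_le hNT
      have h3 : Nat.card ((P : Subgroup G) ⊓ normalizer (Y1 : Set G) : Subgroup G) ≤ Nat.card (P : Subgroup G) :=
        Subgroup.card_le_of_le inf_le_left
      omega
    have hR1 : R'.map (MulAut.conj a : G →* G) ≤ (P : Subgroup G) ⊓ normalizer (Y1 : Set G) :=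
      (Subgroup.map_mono hRT').trans hT1
    have hk'T' : R'.map (MulAut.conj (k' : G) : G →* G) ≤ T' := le_inf hk'R (by
      rintro _ ⟨r, hr, rfl⟩
      exact mul_mem (mul_mem (hKY' k' hk') (hRT' hr).2) (inv_mem (hKY' k' hk')))
    have hy1 : a * k' * a⁻¹ ∈ normalizer (Y1 : Set G) := hY1n ▸ ⟨(k' : G), hKY' k' hk', rfl⟩
    have hrel1 : Rel M (R'.map (MulAut.conj a : G →* G)) (a * k' * a⁻¹) := by
      refine IH2 _ hlt Y1 haY ?_ haf rfl _ _
        ((card_map_of_injective (MulAut.conj a).injective).trans hR'c) hR1 hy1 ?_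
      · exact fun h => hY'0 ((Subgroup.map_eq_bot_iff_of_injective _ (MulAut.conj a).injective).1 h)
      · rintro _ ⟨_, ⟨r, hr, rfl⟩, rfl⟩
        have := haT ⟨_, hk'T' ⟨r, hr, rfl⟩, rfl⟩
        simpa [mul_assoc] using this
    have h3 : Rel M R' ((a * k' * a⁻¹) * a) := (hrelT.mono hRT').mul hrel1
    have h4 : Rel M ((R'.map (MulAut.conj (k' : G) : G →* G)).map (MulAut.conj a : G →* G)) a⁻¹ :=
      (hrelT.mono hk'T').inv
    have h5 : Rel M R' (a⁻¹ * ((a * k' * a⁻¹) * a)) := h3.mul (by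
      rw [Subgroup.map_map] at h4
      convert h4 using 2
      ext z
      simp [mul_assoc])
    simpa [mul_assoc] using h5
  -- reduce to an element of a normalizer
  have hlt : Nat.card R < Nat.card ((P : Subgroup G) ⊓ normalizer (R : Set G) : Subgroup G) :=
    SylowControl.card_lt_inf_normalizer P hRP hRne
  obtain ⟨a, haf, haT, haR⟩ := exists_full P R hRP
  set R1 := R.map (MulAut.conj a : G →* G) with hR1
  set Q := R.map (MulAut.conj x : G →* G) with hQ
  have hQc : Nat.card Q = Nat.card R := card_map_of_injective (MulAut.conj x).injective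
  have hQne : Q ≠ (P : Subgroup G) := fun h => hRne (eq_of_le_of_card_ge hRP (by rw [← hQc, h]))
  have hconj : ∀ u v : G, (R.map (MulAut.conj u : G →* G)).map (MulAut.conj v : G →* G) =
      R.map (MulAut.conj (v * u) : G →* G) := fun u v => by
    rw [Subgroup.map_map]; congr 1; ext z; simp [mul_assoc]
  obtain ⟨b, hbQ, hbT⟩ := exists_conj_full P haf (Q := Q) (a := a * x⁻¹) (by
    rw [hQ, hconj, inv_mul_cancel_right])
  have hltQ : Nat.card R < Nat.card ((P : Subgroup G) ⊓ normalizer (Q : Set G) : Subgroup G) := by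
    rw [← hQc]; exact SylowControl.card_lt_inf_normalizer P hxP hQne
  have hRa : Rel M R a := (big _ inf_le_left hlt a haT).mono (le_inf hRP le_normalizer)
  have hQb : Rel M Q b := (big _ inf_le_left hltQ b hbT).mono (le_inf hxP le_normalizer)
  have hy : b * x * a⁻¹ ∈ normalizer (R1 : Set G) := by
    rw [mem_normalizer_iff_map_conj_eq]
    show R1.map (MulAut.conj (b * x * a⁻¹) : G →* G) = R1
    rw [hR1, hconj, inv_mul_cancel_right, ← hconj x b, ← hQ, hbQ, hR1]
  have hrel : Rel M R1 (b * x * a⁻¹) := by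
    refine inner _ R1 haR ?_ haf rfl R1 _ (card_map_of_injective (MulAut.conj a).injective)
      (le_inf haR le_normalizer) hy ?_
    · exact fun h => hR0 ((Subgroup.map_eq_bot_iff_of_injective _ (MulAut.conj a).injective).1 h)
    · rw [(mem_normalizer_iff_map_conj_eq.1 hy : R1.map (MulAut.conj (b * x * a⁻¹) : G →* G) = R1)]
      exact haR
  have h1 : Rel M R ((b * x * a⁻¹) * a) := hRa.mul hrel
  have h2 : Rel M R (b⁻¹ * ((b * x * a⁻¹) * a)) := h1.mul (by
    have h3 := hQb.inv
    rw [hQ, hconj] at h3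
    rw [inv_mul_cancel_right]
    exact h3)
  simpa [mul_assoc] using h2

end CfsgLib.LocalEvenSix.ControlsZJ
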