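import Cfsg.Agent.Lib.PGroup.Extraspecial
import Cfsg.Agent.Lib.PCore.Basic
import Cfsg.Prelude.Def_KGroupFacts
import Mathlib.GroupTheory.Complement

/-!
# The automorphism group of a large extraspecial 2-group does not split over the inner automorphisms

Four pairwise commuting elements `a`, `b`, `c`, `abc` of order four define commuting automorphisms of
order four modulo the inner ones, and no choice of representatives consists of commuting involutions.
-/

set_option autoImplicit false
set_option linter.unusedSectionVars false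
set_option linter.style.haveILetI false

namespace CfsgLib.LocalEvenSix.ExtraAut

open Subgroup
open scoped commutatorElement

variable {Q : Type*} [Group Q] [Finite Q]

/-- The relevant facts on an extraspecial `2`-group with centre `{1, z}`. -/
structure Data (Q : Type*) [Group Q] where
  z : Q
  z_ne : z ≠ 1
  mem_center : ∀ x : Q, x ∈ center Q ↔ x = 1 ∨ x = z
  comm : ∀ x y : Q, x * y = y * x ∨ x * y = y * x * z
  sq : ∀ x : Q, x * x = 1 ∨ x * x = z
  noncomm : ∃ x y : Q, x * y ≠ y * x

theorem Data.exists_of (hQ : Cfsg.IsExtraspecial 2 Q) : Nonempty (Data Q) := by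
  classical
  haveI : Fact (Nat.Prime 2) := ⟨Nat.prime_two⟩
  obtain ⟨⟨z, hz⟩, hz1, huniq⟩ := (Nat.card_eq_two_iff' (1 : center Q)).1 hQ.2
  have hz2 : z ≠ 1 := fun h => hz1 (Subtype.ext h)
  have hmem : ∀ x : Q, x ∈ center Q ↔ x = 1 ∨ x = z := by
    intro x
    refine ⟨fun hx => ?_, ?_⟩
    · by_cases h1 : x = 1
      · exact Or.inl h1
      · exact Or.inr (congrArg Subtype.val (huniq ⟨x, hx⟩ fun e => h1 (congrArg Subtype.val e)))
    · rintro (rfl | rfl)
      exacts [one_mem _, hz]
  refine ⟨⟨z, hz2, hmem, fun x y => ?_, fun x => ?_, ?_⟩⟩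
  · rcases (hmem _).1 (CfsgLib.PGroup.extraspecial_comm_mem_center hQ x y) with h1 | h1
    · exact Or.inl (commutatorElement_eq_one_iff_mul_comm.1 h1)
    · refine Or.inr ?_
      have h2 : x * y = ⁅x, y⁆ * (y * x) := by rw [commutatorElement_def]; group
      rw [h2, h1, ← Subgroup.mem_center_iff.1 hz]
  · simpa [pow_two] using (hmem _).1 (CfsgLib.PGroup.extraspecial_pow_mem_center hQ x)
  · by_contra! hc
    exact CfsgLib.PGroup.extraspecial_not_isMulCommutative hQ ⟨⟨hc⟩⟩

variable (h : Data Q)
include h

theorem Data.z_mem : h.z ∈ center Q := (h.mem_center _).2 (Or.inr rfl)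

theorem Data.z_comm (x : Q) : x * h.z = h.z * x := Subgroup.mem_center_iff.1 h.z_mem x

theorem Data.z_sq : h.z * h.z = 1 := by
  rcases h.sq h.z with h1 | h1
  · exact h1
  · exact absurd (mul_eq_left.1 h1) h.z_ne

/-- An element of order four. -/
theorem Data.exists_sq : ∃ a : Q, a * a = h.z := by
  obtain ⟨x, y, hxy⟩ := h.noncomm
  by_contra! hc
  apply hxy
  have hinv : ∀ g : Q, g⁻¹ = g := fun g =>
    inv_eq_of_mul_eq_one_right ((h.sq g).resolve_right (hc g))
  calc x * y = (x * y)⁻¹ := (hinv _).symm
    _ = y⁻¹ * x⁻¹ := mul_inv_rev x y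
    _ = y * x := by rw [hinv, hinv]

theorem Data.not_mem_center {a : Q} (ha : a * a = h.z) : a ∉ center Q := by
  intro hc
  rcases (h.mem_center a).1 hc with rfl | rfl
  · exact h.z_ne (by simpa using ha.symm)
  · rw [h.z_sq] at ha; exact h.z_ne ha.symm

open Classical in
/-- The automorphism attached to an element of order four. -/
noncomputable def Data.theta (a : Q) (ha : a * a = h.z) : MulAut Q :=
  let f : Q →* Q :=
    { toFun := fun x => if a * x = x * a then x else x * a
      map_one' := by simp
      map_mul' := fun x y => by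
        have hz := h.z_comm
        by_cases hx : a * x = x * a <;> by_cases hy : a * y = y * a
        · rw [if_pos hx, if_pos hy, if_pos (by rw [← mul_assoc, hx, mul_assoc, hy, mul_assoc])]
        · rw [if_pos hx, if_neg hy, if_neg]
          · rw [mul_assoc]
          · intro hc
            apply hy
            rw [← mul_assoc, hx, mul_assoc, mul_assoc] at hc
            exact mul_left_cancel hc
        · rw [if_neg hx, if_pos hy, if_neg]
          · rw [mul_assoc x a y, hy, mul_assoc]
          · intro hc
            apply hx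
            rw [← mul_assoc, mul_assoc x y a, ← hy, ← mul_assoc] at hc
            exact mul_right_cancel hc
        · have hx' := (h.comm a x).resolve_left hx
          have hy' := (h.comm a y).resolve_left hy
          rw [if_neg hx, if_neg hy, if_pos]
          · calc x * y = x * y * (h.z * h.z) := by rw [h.z_sq, mul_one]
              _ = x * (y * a * h.z) * a := by
                rw [show x * (y * a * h.z) * a = x * y * (a * h.z) * a by group, hz a,
                  show x * y * (h.z * a) * a = x * y * (h.z * (a * a)) by group, ha]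
              _ = x * (a * y) * a := by rw [hy']
              _ = x * a * (y * a) := by group
          · calc a * (x * y) = x * a * h.z * y := by rw [← mul_assoc, hx']
              _ = x * (a * y) * h.z := by simp only [mul_assoc, hz]
              _ = x * (y * a * h.z) * h.z := by rw [hy']
              _ = x * y * a * (h.z * h.z) := by group
              _ = x * y * a := by rw [h.z_sq, mul_one] }
  MulEquiv.ofBijective f (Finite.injective_iff_bijective.1 (by
    rw [injective_iff_map_eq_one]
    intro x hx
    by_cases hc : a * x = x * a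
    · simpa [f, hc] using hx
    · have h1 : x = a⁻¹ := eq_inv_of_mul_eq_one_left (by simpa [f, hc] using hx)
      exact absurd (by rw [h1, mul_inv_cancel, inv_mul_cancel]) hc))

theorem Data.theta_apply_of {a : Q} (ha : a * a = h.z) {x : Q} (hx : a * x = x * a) :
    h.theta a ha x = x := if_pos hx

theorem Data.theta_apply_not {a : Q} (ha : a * a = h.z) {x : Q} (hx : a * x ≠ x * a) :
    h.theta a ha x = x * a := if_neg hx

theorem Data.theta_sq {a : Q} (ha : a * a = h.z) :
    h.theta a ha * h.theta a ha = MulAut.conj a := by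
  ext x
  rw [MulAut.mul_apply, MulAut.conj_apply]
  by_cases hc : a * x = x * a
  · rw [h.theta_apply_of ha hc, h.theta_apply_of ha hc, hc, mul_inv_cancel_right]
  · rw [h.theta_apply_not ha hc, map_mul, h.theta_apply_not ha hc, h.theta_apply_of ha rfl,
      mul_assoc, ha, (h.comm a x).resolve_left hc, mul_assoc (x * a), ← h.z_comm, ← mul_assoc,
      mul_inv_cancel_right]

theorem Data.theta_comm {a b : Q} (ha : a * a = h.z) (hb : b * b = h.z) (hab : a * b = b * a) :
    h.theta a ha * h.theta b hb = h.theta b hb * h.theta a ha := by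
  ext x
  simp only [MulAut.mul_apply]
  by_cases h1 : a * x = x * a <;> by_cases h2 : b * x = x * b
  · rw [h.theta_apply_of ha h1, h.theta_apply_of hb h2, h.theta_apply_of ha h1]
  · rw [h.theta_apply_of ha h1, h.theta_apply_not hb h2, map_mul, h.theta_apply_of ha h1,
      h.theta_apply_of ha hab]
  · rw [h.theta_apply_not ha h1, h.theta_apply_of hb h2, map_mul, h.theta_apply_of hb h2,
      h.theta_apply_of hb hab.symm, h.theta_apply_not ha h1]
  · rw [h.theta_apply_not ha h1, h.theta_apply_not hb h2, map_mul, map_mul, h.theta_apply_not ha h1,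
      h.theta_apply_of ha hab, h.theta_apply_not hb h2, h.theta_apply_of hb hab.symm, mul_assoc,
      hab, mul_assoc]

theorem Data.mk_comm (x y : Q) :
    (x : Q ⧸ center Q) * (y : Q ⧸ center Q) = (y : Q ⧸ center Q) * (x : Q ⧸ center Q) := by
  rw [← QuotientGroup.mk_mul, ← QuotientGroup.mk_mul, QuotientGroup.eq]
  rcases h.comm x y with h1 | h1
  · rw [← h1, inv_mul_cancel]; exact one_mem _
  · have h2 : (x * y)⁻¹ * (y * x) = h.z⁻¹ := by rw [h1]; group
    rw [h2]; exact inv_mem h.z_mem

omit h in
theorem conj_mem_center_of_eq {u v : Q} (he : MulAut.conj u = MulAut.conj v) :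
    (u : Q ⧸ center Q) = (v : Q ⧸ center Q) := by
  rw [QuotientGroup.eq, Subgroup.mem_center_iff]
  intro g
  have h1 : u * g * u⁻¹ = v * g * v⁻¹ := congrArg (fun φ : MulAut Q => φ g) he
  have h2 : g * (u⁻¹ * v) = u⁻¹ * (u * g * u⁻¹) * v := by group
  rw [h2, h1]
  group

/-- A representative of order two exists only with a twisting element not commuting with `a`. -/
theorem Data.not_commute_of_sq {a u : Q} (ha : a * a = h.z)
    (hl : (MulAut.conj u * h.theta a ha) * (MulAut.conj u * h.theta a ha) = 1) :
    a * u ≠ u * a := by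
  intro hc
  have h1 : MulAut.conj u * h.theta a ha * (MulAut.conj u * h.theta a ha) =
      MulAut.conj (u * u * a) := by
    rw [map_mul, map_mul, ← h.theta_sq ha]
    ext x
    simp [h.theta_apply_of ha hc, map_mul, map_inv, mul_assoc]
  rw [h1, ← map_one (MulAut.conj (G := Q))] at hl
  have h2 := conj_mem_center_of_eq hl
  rw [QuotientGroup.mk_mul, show ((u * u : Q) : Q ⧸ center Q) = 1 from
    (QuotientGroup.eq_one_iff _).2 ((h.mem_center _).2 (h.sq u)), one_mul, QuotientGroup.mk_one,
    QuotientGroup.eq_one_iff] at h2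
  exact h.not_mem_center ha h2

/-- Commuting representatives of two such automorphisms. -/
theorem Data.commute_of_comm {a b u w : Q} (ha : a * a = h.z) (hb : b * b = h.z)
    (hab : a * b = b * a) (hab' : a * b ∉ center Q)
    (hl : (MulAut.conj u * h.theta a ha) * (MulAut.conj w * h.theta b hb) =
      (MulAut.conj w * h.theta b hb) * (MulAut.conj u * h.theta a ha)) :
    b * u = u * b := by
  by_contra hc
  have key : ∀ (s : Q) (φ : MulAut Q), φ * MulAut.conj s = MulAut.conj (φ s) * φ := fun s φ => by
    ext x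
    simp [map_mul, map_inv]
  have h1 : MulAut.conj (u * h.theta a ha w) * (h.theta a ha * h.theta b hb) =
      MulAut.conj (w * h.theta b hb u) * (h.theta b hb * h.theta a ha) := by
    simp only [map_mul]
    calc MulAut.conj u * MulAut.conj (h.theta a ha w) * (h.theta a ha * h.theta b hb)
        = MulAut.conj u * (MulAut.conj (h.theta a ha w) * h.theta a ha) * h.theta b hb := by
          simp only [mul_assoc]
      _ = MulAut.conj u * h.theta a ha * (MulAut.conj w * h.theta b hb) := by
          rw [← key]; simp only [mul_assoc]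
      _ = MulAut.conj w * h.theta b hb * (MulAut.conj u * h.theta a ha) := hl
      _ = MulAut.conj w * (MulAut.conj (h.theta b hb u) * h.theta b hb) * h.theta a ha := by
          rw [← key]; simp only [mul_assoc]
      _ = _ := by simp only [mul_assoc]
  rw [h.theta_comm ha hb hab, mul_left_inj] at h1
  have h2 := conj_mem_center_of_eq h1
  rw [h.theta_apply_not hb hc, QuotientGroup.mk_mul, QuotientGroup.mk_mul, QuotientGroup.mk_mul]
    at h2
  by_cases hw : a * w = w * a
  · rw [h.theta_apply_of ha hw, ← mul_assoc, h.mk_comm w u, left_eq_mul,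
      QuotientGroup.eq_one_iff] at h2
    exact h.not_mem_center hb h2
  · rw [h.theta_apply_not ha hw, QuotientGroup.mk_mul, ← mul_assoc, ← mul_assoc, h.mk_comm w u,
      mul_right_inj, QuotientGroup.eq] at h2
    apply hab'
    have h3 : a * b = h.z * (a⁻¹ * b) := by
      rw [← ha]; group
    rw [h3]
    exact mul_mem h.z_mem h2

/-- A subgroup of index at most two. -/
theorem Data.centralizer_card (S : Subgroup Q) (a : Q) :
    Nat.card S ≤ 2 * Nat.card (S ⊓ centralizer ({a} : Set Q) : Subgroup Q) := by
  classical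
  haveI : Fintype Q := Fintype.ofFinite Q
  let f : S →* center Q :=
    { toFun := fun s => if a * s = s * a then 1 else ⟨h.z, h.z_mem⟩
      map_one' := by simp
      map_mul' := fun s t => by
        have hz := h.z_comm
        by_cases hs : a * s = (s : Q) * a <;> by_cases ht : a * t = (t : Q) * a
        · rw [if_pos hs, if_pos ht, one_mul, if_pos]
          push_cast
          rw [← mul_assoc, hs, mul_assoc, ht, mul_assoc]
        · rw [if_pos hs, if_neg ht, one_mul, if_neg]
          intro hc
          push_cast at hc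
          rw [← mul_assoc, hs, mul_assoc, mul_assoc] at hc
          exact ht (mul_left_cancel hc)
        · rw [if_neg hs, if_pos ht, mul_one, if_neg]
          intro hc
          push_cast at hc
          rw [← mul_assoc, mul_assoc (s : Q) t a, ← ht, ← mul_assoc] at hc
          exact hs (mul_right_cancel hc)
        · rw [if_neg hs, if_neg ht, if_pos]
          · exact Subtype.ext h.z_sq.symm
          · push_cast
            have hs' := (h.comm a s).resolve_left hs
            have ht' := (h.comm a t).resolve_left ht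
            calc a * ((s : Q) * t) = s * a * h.z * t := by rw [← mul_assoc, hs']
              _ = s * (a * t) * h.z := by simp only [mul_assoc, hz]
              _ = s * (t * a * h.z) * h.z := by rw [ht']
              _ = s * t * a * (h.z * h.z) := by group
              _ = s * t * a := by rw [h.z_sq, mul_one] }
  have hker : f.ker.map S.subtype ≤ S ⊓ centralizer ({a} : Set Q) := by
    rintro _ ⟨s, hs, rfl⟩
    refine ⟨s.2, Subgroup.mem_centralizer_singleton_iff.2 ?_⟩
    by_contra hc
    have hs' : f s = 1 := hs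
    simp only [MonoidHom.coe_mk, OneHom.coe_mk, f] at hs'
    rw [if_neg (fun e => hc e.symm)] at hs'
    exact h.z_ne (congrArg Subtype.val hs')
  have h1 := Subgroup.card_le_of_le hker
  rw [card_map_of_injective S.subtype_injective] at h1
  have h2 := Subgroup.card_mul_index f.ker
  rw [Subgroup.index_ker] at h2
  have h3 : Nat.card f.range ≤ 2 := by
    refine (Subgroup.card_le_card_group _).trans ?_
    haveI : Fintype (center Q) := Fintype.ofFinite _
    rw [Nat.card_eq_fintype_card]
    refine (Fintype.card_le_of_surjective (fun i : Bool => if i then (1 : center Q) else ⟨h.z, h.z_mem⟩)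
      fun x => ?_).trans (by simp)
    rcases (h.mem_center x.1).1 x.2 with hx | hx
    · exact ⟨true, Subtype.ext (by simp [hx])⟩
    · exact ⟨false, Subtype.ext (by simp [hx])⟩
  calc Nat.card S = Nat.card f.ker * Nat.card f.range := h2.symm
    _ ≤ Nat.card (S ⊓ centralizer ({a} : Set Q) : Subgroup Q) * 2 := Nat.mul_le_mul h1 h3
    _ = _ := mul_comm _ _

/-- In a large enough subgroup an element squaring to `z` avoids a small central subgroup. -/
theorem Data.exists_sq_not_mem {S K : Subgroup Q} {a : Q} (ha : a * a = h.z) (haK : a ∈ K)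
    (hKS : K ≤ S) (haS : S ≤ centralizer ({a} : Set Q)) (hcard : Nat.card K < Nat.card S) :
    ∃ b ∈ S, b * b = h.z ∧ b ∉ K := by
  obtain ⟨x, hxS, hxK⟩ : ∃ x ∈ S, x ∉ K := by
    by_contra! hc
    exact (Subgroup.card_le_of_le (show S ≤ K from hc)).not_gt hcard
  rcases h.sq x with hx | hx
  · refine ⟨x * a, mul_mem hxS (hKS haK), ?_, fun hm => hxK ?_⟩
    · have hc : a * x = x * a := (Subgroup.mem_centralizer_singleton_iff.1 (haS hxS)).symm
      calc x * a * (x * a) = x * (a * x) * a := by group
        _ = x * x * (a * a) := by rw [hc]; group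
        _ = h.z := by rw [hx, ha, one_mul]
    · simpa using mul_mem hm (inv_mem haK)
  · exact ⟨x, hxS, hx, hxK⟩

omit h in
/-- The inner automorphisms have no complement. -/
theorem not_isComplement'_inn (hQ : Cfsg.IsExtraspecial 2 Q) (hbig : 32 ≤ Nat.card Q)
    (hbig' : Nat.card Q ≠ 32) (L : Subgroup (MulAut Q)) : ¬ (Cfsg.Inn Q).IsComplement' L := by
  classical
  obtain ⟨h⟩ := Data.exists_of hQ
  intro hL
  obtain ⟨a, ha⟩ := h.exists_sq
  -- the second element
  set Ca := (⊤ : Subgroup Q) ⊓ centralizer ({a} : Set Q) with hCa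
  have hCac := h.centralizer_card ⊤ a
  rw [Subgroup.card_top, ← hCa] at hCac
  set K1 := center Q ⊔ zpowers a with hK1
  have hK1c : Nat.card K1 ≤ 4 * 1 * 2 := by
    have h1 := Nat.le_of_dvd (Nat.mul_pos Nat.card_pos Nat.card_pos)
      (CfsgLib.PCore.card_sup_dvd_mul (center Q) (zpowers a))
    rw [hQ.2] at h1
    have h2 : Nat.card (zpowers a) ≤ 4 := by
      rw [Nat.card_zpowers]
      refine Nat.le_of_dvd (by norm_num) (orderOf_dvd_of_pow_eq_one ?_)
      rw [show a ^ 4 = a * a * (a * a) by rw [pow_succ, pow_succ, pow_succ, pow_one]; group, ha, h.z_sq]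
    have : Nat.card K1 ≤ 2 * Nat.card (zpowers a) := h1
    omega
  have haCa : a ∈ Ca := ⟨mem_top a, Subgroup.mem_centralizer_singleton_iff.2 rfl⟩
  obtain ⟨b, hbS, hb, hbK⟩ := h.exists_sq_not_mem (S := Ca) (K := K1) ha
    (mem_sup_right (mem_zpowers a))
    (sup_le (le_inf le_top (center_le_centralizer _)) (zpowers_le.2 haCa)) inf_le_right (by omega)
  have hab : a * b = b * a := (Subgroup.mem_centralizer_singleton_iff.1 hbS.2).symm
  -- the third element
  set Cab := Ca ⊓ centralizer ({b} : Set Q) with hCab
  have hCabc := h.centralizer_card Ca b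
  rw [← hCab] at hCabc
  set K2 := center Q ⊔ (zpowers a ⊔ zpowers b) with hK2
  have hK2c : Nat.card K2 ≤ 8 := by
    have hcomm : zpowers b ≤ centralizer (zpowers a : Set Q) := by
      rw [zpowers_le, Subgroup.mem_centralizer_iff]
      rintro _ ⟨i, rfl⟩
      exact (Commute.zpow_left hab i).eq
    let A2 : Subgroup Q :=
      { carrier := {x | ∃ i : Fin 2, ∃ j : Fin 2, ∃ k ∈ center Q, x = a ^ (i : ℕ) * b ^ (j : ℕ) * k}
        one_mem' := ⟨0, 0, 1, one_mem _, by simp⟩
        mul_mem' := by
          rintro _ _ ⟨i, j, k, hk, rfl⟩ ⟨i', j', k', hk', rfl⟩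
          have hk1 : ∀ g, g * k = k * g := Subgroup.mem_center_iff.1 hk
          have he : a ^ (i : ℕ) * b ^ (j : ℕ) * k * (a ^ (i' : ℕ) * b ^ (j' : ℕ) * k') =
              a ^ ((i : ℕ) + i') * b ^ ((j : ℕ) + j') * (k * k') := by
            rw [pow_add, pow_add]
            have hc : b ^ (j : ℕ) * a ^ (i' : ℕ) = a ^ (i' : ℕ) * b ^ (j : ℕ) :=
              ((Commute.pow_pow (show Commute a b from hab)) _ _).symm.eq
            calc a ^ (i : ℕ) * b ^ (j : ℕ) * k * (a ^ (i' : ℕ) * b ^ (j' : ℕ) * k')
                = a ^ (i : ℕ) * b ^ (j : ℕ) * (k * (a ^ (i' : ℕ) * b ^ (j' : ℕ))) * k' := by group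
              _ = a ^ (i : ℕ) * b ^ (j : ℕ) * ((a ^ (i' : ℕ) * b ^ (j' : ℕ)) * k) * k' := by
                  rw [hk1]
              _ = a ^ (i : ℕ) * (b ^ (j : ℕ) * a ^ (i' : ℕ)) * b ^ (j' : ℕ) * (k * k') := by group
              _ = _ := by rw [hc]; group
          rw [he]
          have hred : ∀ (c : Q), c * c = h.z → ∀ m : ℕ, m ≤ 2 →
              ∃ i : Fin 2, ∃ e ∈ center Q, c ^ m = c ^ (i : ℕ) * e := by
            intro c hc m hm
            interval_cases m
            · exact ⟨0, 1, one_mem _, by simp⟩
            · exact ⟨1, 1, one_mem _, by simp⟩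
            · exact ⟨0, h.z, h.z_mem, by rw [pow_two, hc]; simp⟩
          obtain ⟨i'', e, he', hi⟩ := hred a ha ((i : ℕ) + i') (by omega)
          obtain ⟨j'', e', he'', hj⟩ := hred b hb ((j : ℕ) + j') (by omega)
          refine ⟨i'', j'', e * e' * (k * k'), mul_mem (mul_mem he' he'') (mul_mem hk hk'), ?_⟩
          rw [hi, hj, mul_assoc (a ^ (i'' : ℕ)) e, ← mul_assoc e,
            ← Subgroup.mem_center_iff.1 he' (b ^ (j'' : ℕ))]
          group
        inv_mem' := by
          rintro _ ⟨i, j, k, hk, rfl⟩
          have hsq : ∀ (c : Q), c * c = h.z → ∀ m : Fin 2, ∃ e ∈ center Q,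
              (c ^ (m : ℕ))⁻¹ = c ^ (m : ℕ) * e := by
            intro c hc m
            fin_cases m
            · exact ⟨1, one_mem _, by simp⟩
            · refine ⟨h.z, h.z_mem, ?_⟩
              simp only [pow_one]
              rw [← hc, inv_eq_iff_mul_eq_one]
              rw [show c * (c * (c * c)) = c * c * (c * c) by group, hc, h.z_sq]
          obtain ⟨e, he, hi⟩ := hsq a ha i
          obtain ⟨e', he', hj⟩ := hsq b hb j
          refine ⟨i, j, e * e' * k⁻¹, mul_mem (mul_mem he he') (inv_mem hk), ?_⟩
          rw [mul_inv_rev, mul_inv_rev, hi, hj]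
          have hc : Commute (a ^ (i : ℕ)) (b ^ (j : ℕ)) := Commute.pow_pow hab _ _
          have h1 : ∀ g, g * e = e * g := Subgroup.mem_center_iff.1 he
          have h2 : ∀ g, g * e' = e' * g := Subgroup.mem_center_iff.1 he'
          have h3 : ∀ g, g * k⁻¹ = k⁻¹ * g := Subgroup.mem_center_iff.1 (inv_mem hk)
          calc k⁻¹ * (b ^ (j : ℕ) * e' * (a ^ (i : ℕ) * e))
              = (b ^ (j : ℕ) * e' * (a ^ (i : ℕ) * e)) * k⁻¹ := (h3 _).symm
            _ = b ^ (j : ℕ) * (e' * a ^ (i : ℕ)) * e * k⁻¹ := by group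
            _ = b ^ (j : ℕ) * (a ^ (i : ℕ) * e') * e * k⁻¹ := by rw [h2]
            _ = (b ^ (j : ℕ) * a ^ (i : ℕ)) * (e' * e) * k⁻¹ := by group
            _ = _ := by rw [hc.eq, h2 e, h1 e']; group }
    have hle : K2 ≤ A2 := by
      refine sup_le (fun k hk => ⟨0, 0, k, hk, by simp⟩) (sup_le ?_ ?_) <;> rw [zpowers_le]
      · exact ⟨1, 0, 1, one_mem _, by simp⟩
      · exact ⟨0, 1, 1, one_mem _, by simp⟩
    refine (Subgroup.card_le_of_le hle).trans ?_
    haveI : Finite (center Q) := inferInstance
    refine (Nat.card_le_card_of_surjective (fun t : Fin 2 × Fin 2 × center Q =>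
      (⟨a ^ (t.1 : ℕ) * b ^ (t.2.1 : ℕ) * t.2.2, t.1, t.2.1, t.2.2, t.2.2.2, rfl⟩ : A2)) ?_).trans ?_
    · rintro ⟨_, i, j, k, hk, rfl⟩
      exact ⟨(i, j, ⟨k, hk⟩), rfl⟩
    · simp [hQ.2]
  have haCab : a ∈ Cab := ⟨haCa, Subgroup.mem_centralizer_singleton_iff.2 hab⟩
  have hbCab : b ∈ Cab := ⟨hbS, Subgroup.mem_centralizer_singleton_iff.2 rfl⟩
  obtain ⟨c, hcS, hc, hcK⟩ := h.exists_sq_not_mem (S := Cab) (K := K2) ha
    (mem_sup_right (mem_sup_left (mem_zpowers a)))
    (sup_le (le_inf (le_inf le_top (center_le_centralizer _)) (center_le_centralizer _))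
      (sup_le (zpowers_le.2 haCab) (zpowers_le.2 hbCab))) (inf_le_left.trans inf_le_right) (by
      have hdvd : Nat.card Q ≠ 32 := hbig'
      obtain ⟨k, hk⟩ := IsPGroup.iff_card.1 hQ.1.1
      have : 6 ≤ k := by
        by_contra hlt
        have : k ≤ 5 := by omega
        interval_cases k <;> omega
      have : 64 ≤ Nat.card Q := hk ▸ (show 2 ^ 6 ≤ 2 ^ k from Nat.pow_le_pow_right (by norm_num) this)
      omega)
  have hac : a * c = c * a := (Subgroup.mem_centralizer_singleton_iff.1 hcS.1.2).symm
  have hbc : b * c = c * b := (Subgroup.mem_centralizer_singleton_iff.1 hcS.2).symm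
  have hd : (a * b * c) * (a * b * c) = h.z := by
    have h1 : Commute c (a * b) :=
      (show Commute c a from hac.symm).mul_right (show Commute c b from hbc.symm)
    calc a * b * c * (a * b * c) = a * b * (c * (a * b)) * c := by group
      _ = a * (b * a) * b * (c * c) := by rw [h1.eq]; group
      _ = (a * a) * (b * b) * (c * c) := by rw [← hab]; group
      _ = h.z := by rw [ha, hb, hc, h.z_sq, one_mul]
  have hinv : ∀ x, x * x = h.z → x⁻¹ = x * h.z := fun x hx => inv_eq_of_mul_eq_one_right (by
    rw [← mul_assoc, hx, h.z_sq])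
  have habZ : a * b ∉ center Q := fun hm => hbK (by
    rw [← inv_mul_cancel_left a b]
    exact mul_mem (mem_sup_right (inv_mem (mem_zpowers a))) (mem_sup_left hm))
  have hacZ : a * c ∉ center Q := fun hm => hcK (by
    rw [← inv_mul_cancel_left a c]
    exact mul_mem (mem_sup_right (mem_sup_left (inv_mem (mem_zpowers a)))) (mem_sup_left hm))
  have hadZ : a * (a * b * c) ∉ center Q := fun hm => hcK (by
    rw [show c = b⁻¹ * (h.z⁻¹ * (a * (a * b * c))) by
      rw [show a * (a * b * c) = a * a * b * c by group, ha]; group]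
    exact mul_mem (mem_sup_right (mem_sup_right (inv_mem (mem_zpowers b))))
      (mem_sup_left (mul_mem (inv_mem h.z_mem) hm)))
  -- representatives inside the complement
  set π := QuotientGroup.mk' (Cfsg.Inn Q)
  have hrep : ∀ φ : MulAut Q, ∃ u : Q, MulAut.conj u * φ ∈ L := by
    intro φ
    obtain ⟨⟨⟨i, v, hv⟩, l⟩, hil⟩ := hL.2 φ
    refine ⟨v⁻¹, ?_⟩
    have hil' : i * (l : MulAut Q) = φ := hil
    rw [map_inv, hv, ← hil', inv_mul_cancel_left]
    exact l.2
  have hinj : ∀ l ∈ L, π l = 1 → l = 1 := fun l hl hl1 => by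
    have := hL.disjoint
    exact Subgroup.disjoint_def.1 this ((QuotientGroup.eq_one_iff l).1 hl1) hl
  have hπc : ∀ u : Q, π (MulAut.conj u) = 1 := fun u => (QuotientGroup.eq_one_iff _).2 ⟨u, rfl⟩
  obtain ⟨u, hu⟩ := hrep (h.theta a ha)
  have hsq : (MulAut.conj u * h.theta a ha) * (MulAut.conj u * h.theta a ha) = 1 :=
    hinj _ (mul_mem hu hu) (by
      rw [map_mul, map_mul, hπc, one_mul, ← map_mul, h.theta_sq, hπc])
  have hcomm : ∀ (x : Q) (hx : x * x = h.z), a * x = x * a → a * x ∉ center Q → x * u = u * x := by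
    intro x hx hax haxZ
    obtain ⟨w, hw⟩ := hrep (h.theta x hx)
    refine h.commute_of_comm ha hx hax haxZ (w := w) ?_
    rw [← mul_inv_eq_one]
    refine hinj _ (mul_mem (mul_mem hu hw) (inv_mem (mul_mem hw hu))) ?_
    rw [map_mul, map_inv, mul_inv_eq_one]
    simp only [map_mul, hπc, one_mul]
    rw [← map_mul, ← map_mul, h.theta_comm ha hx hax]
  have h1 := hcomm b hb hab habZ
  have h2 := hcomm c hc hac hacZ
  have h3 := hcomm (a * b * c) hd
    (show Commute a (a * b * c) from ((Commute.refl a).mul_right hab).mul_right hac) hadZ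
  apply h.not_commute_of_sq ha hsq
  have h4 : Commute ((a * b * c) * c⁻¹ * b⁻¹) u :=
    ((show Commute (a * b * c) u from h3).mul_left (show Commute c u from h2).inv_left).mul_left
      (show Commute b u from h1).inv_left
  simpa using h4.eq

end CfsgLib.LocalEvenSix.ExtraAut
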