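import Cfsg.Agent.Lib.LocalEvenSix.PglPairs
import Cfsg.Agent.Lib.PGroup.Extraspecial
import Mathlib.GroupTheory.Sylow

/-!
# Automizers of a Sylow subgroup `p^{1+2}` of exponent `p`

If some element fixes `u ∈ P ∖ Z(P)` and moves `Z(P) = ⟨z⟩` to `z u`, then some element normalizing `P`
induces on `P / Z(P)` a split transformation with eigenline `⟨ū⟩` and eigenvalue ratio `λ³`, where `λ`
is a primitive root modulo `p`.
-/

set_option autoImplicit false
set_option linter.unusedSectionVars false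
set_option linter.style.haveILetI false

namespace CfsgLib.LocalEvenSix.ExtraAutomizer

open Subgroup Matrix
open scoped commutatorElement

variable {G : Type*} [Group G] {p : ℕ} [hp : Fact p.Prime]

/-- `z ^ i * u ^ j` for residues `i`, `j`. -/
def E (z u : G) (i j : ZMod p) : G := z ^ i.val * u ^ j.val

theorem zv_add {z : G} (hz : z ^ p = 1) (i j : ZMod p) : z ^ (i + j).val = z ^ i.val * z ^ j.val := by
  rw [ZMod.val_add, ← pow_add, ← Nat.mod_add_div (i.val + j.val) p]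
  simp [pow_add, pow_mul, hz, Nat.add_mod]

theorem zv_one {z : G} : z ^ (1 : ZMod p).val = z := by
  haveI : Fact (1 < p) := ⟨hp.out.one_lt⟩
  rw [ZMod.val_one, pow_one]

theorem zv_zero {z : G} : z ^ (0 : ZMod p).val = 1 := by rw [ZMod.val_zero, pow_zero]

theorem zv_mul {z : G} (hz : z ^ p = 1) (i j : ZMod p) : z ^ (i * j).val = (z ^ i.val) ^ j.val := by
  rw [ZMod.val_mul, ← pow_mul]
  conv_rhs => rw [← Nat.mod_add_div (i.val * j.val) p, pow_add, pow_mul, hz, one_pow, mul_one]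

section Pair

variable {z u : G} (hz : z ^ p = 1) (hu : u ^ p = 1) (hzu : Commute z u)
include hz hu hzu

theorem E_mul (i j k l : ZMod p) : E z u i j * E z u k l = E z u (i + k) (j + l) := by
  unfold E
  rw [zv_add hz, zv_add hu, mul_assoc, ← mul_assoc (u ^ j.val), ← (hzu.pow_pow k.val j.val).eq]
  simp only [mul_assoc]

theorem E_pow (i j : ZMod p) (n : ℕ) : E z u i j ^ n = E z u ((n : ZMod p) * i) ((n : ZMod p) * j) := by
  induction n with
  | zero => simp [E, zv_zero]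
  | succ n ih => rw [pow_succ, ih, E_mul hz hu hzu]; push_cast; rw [add_one_mul, add_one_mul]

theorem conj_E {h : G} {a b c d : ZMod p} (h1 : h * z * h⁻¹ = E z u a b) (h2 : h * u * h⁻¹ = E z u c d)
    (i j : ZMod p) : h * E z u i j * h⁻¹ = E z u (i * a + j * c) (i * b + j * d) := by
  show h * (z ^ i.val * u ^ j.val) * h⁻¹ = _
  rw [show h * (z ^ i.val * u ^ j.val) * h⁻¹ = (h * z ^ i.val * h⁻¹) * (h * u ^ j.val * h⁻¹) by group,
    ← conj_pow, ← conj_pow, h1, h2, E_pow hz hu hzu, E_pow hz hu hzu, E_mul hz hu hzu,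
    ZMod.natCast_zmod_val, ZMod.natCast_zmod_val]

/-- From the two elementary transvections, an element inducing the diagonal map. -/
theorem exists_diag {g₁ g₂ : G} (h11 : g₁ * z * g₁⁻¹ = z) (h12 : g₁ * u * g₁⁻¹ = z * u)
    (h21 : g₂ * z * g₂⁻¹ = z * u) (h22 : g₂ * u * g₂⁻¹ = u) (a b : ZMod p) (hab : a * b = 1) :
    ∃ g : G, g * z * g⁻¹ = E z u a 0 ∧ g * u * g⁻¹ = E z u 0 b := by
  have hz0 : z = E z u (1 : ZMod p) 0 := by simp [E, zv_one, zv_zero]
  have hu0 : u = E z u (0 : ZMod p) 1 := by simp [E, zv_one, zv_zero]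
  have hzu1 : z * u = E z u (1 : ZMod p) 1 := by simp [E, zv_one]
  have s1 : ∀ i j : ZMod p, g₁ * E z u i j * g₁⁻¹ = E z u (i + j) j := fun i j => by
    rw [conj_E hz hu hzu (h11.trans hz0) (h12.trans hzu1) i j]; congr 1 <;> ring
  have s2 : ∀ i j : ZMod p, g₂ * E z u i j * g₂⁻¹ = E z u i (j + i) := fun i j => by
    rw [conj_E hz hu hzu (h21.trans hzu1) (h22.trans hu0) i j]; congr 1 <;> ring
  have p1 : ∀ (n : ℕ) (i j : ZMod p), g₁ ^ n * E z u i j * (g₁ ^ n)⁻¹ = E z u (i + (n : ZMod p) * j) j := by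
    intro n
    induction n with
    | zero => simp
    | succ n ih =>
      intro i j
      rw [pow_succ', show g₁ * g₁ ^ n * E z u i j * (g₁ * g₁ ^ n)⁻¹ =
        g₁ * (g₁ ^ n * E z u i j * (g₁ ^ n)⁻¹) * g₁⁻¹ by group, ih, s1]
      congr 1; push_cast; ring
  have p2 : ∀ (n : ℕ) (i j : ZMod p), g₂ ^ n * E z u i j * (g₂ ^ n)⁻¹ = E z u i (j + (n : ZMod p) * i) := by
    intro n
    induction n with
    | zero => simp
    | succ n ih =>
      intro i j
      rw [pow_succ', show g₂ * g₂ ^ n * E z u i j * (g₂ * g₂ ^ n)⁻¹ =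
        g₂ * (g₂ ^ n * E z u i j * (g₂ ^ n)⁻¹) * g₂⁻¹ by group, ih, s2]
      congr 1; push_cast; ring
  let w := g₁ ^ a.val * g₂ ^ (-b).val * g₁ ^ a.val * g₁ ^ (-1 : ZMod p).val * g₂ * g₁ ^ (-1 : ZMod p).val
  have hw : ∀ x : G, w * x * w⁻¹ = g₁ ^ a.val * (g₂ ^ (-b).val * (g₁ ^ a.val * (g₁ ^ (-1 : ZMod p).val *
      (g₂ * (g₁ ^ (-1 : ZMod p).val * x * (g₁ ^ (-1 : ZMod p).val)⁻¹) * g₂⁻¹) *
      (g₁ ^ (-1 : ZMod p).val)⁻¹) * (g₁ ^ a.val)⁻¹) * (g₂ ^ (-b).val)⁻¹) * (g₁ ^ a.val)⁻¹ := fun x => by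
    simp only [w]; group
  refine ⟨w, ?_, ?_⟩
  · nth_rewrite 1 [hz0]
    rw [hw, p1, s2, p1, p1, p2, p1]
    simp only [ZMod.natCast_zmod_val]
    congr 1 <;> first | ring1 | linear_combination (-a) * hab | linear_combination (-1 : ZMod p) * hab
  · nth_rewrite 1 [hu0]
    rw [hw, p1, s2, p1, p1, p2, p1]
    simp only [ZMod.natCast_zmod_val]
    congr 1 <;> first | ring1 | linear_combination (1 : ZMod p) * hab

end Pair

variable [Finite G] {P : Sylow p G} (hE : Cfsg.IsExtraspecial p P) (hcard : Nat.card P = p ^ 3)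
  (hexp : Monoid.exponent P = p)

include hexp in
theorem pow_p_eq_one {y : G} (hy : y ∈ (P : Subgroup G)) : y ^ p = 1 := by
  have h := Monoid.pow_exponent_eq_one (G := P) ⟨y, hy⟩
  rw [hexp] at h
  simpa using congrArg Subtype.val h

include hE in
theorem exists_generator :
    ∃ z : G, ∃ h : z ∈ (P : Subgroup G), z ≠ 1 ∧ ∀ v : P, v ∈ center P ↔ ∃ i : ZMod p, (v : G) = z ^ i.val := by
  obtain ⟨⟨z₀, hz₀⟩, hz⟩ := exists_prime_orderOf_dvd_card' (G := center P) p (dvd_of_eq hE.2.symm)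
  have hne : z₀ ≠ 1 := fun h => hp.out.ne_one (by rw [← hz, Subgroup.orderOf_mk, h, orderOf_one])
  refine ⟨z₀, z₀.2, fun h => hne (Subtype.ext h), fun v => ?_⟩
  have hzp := PGroup.extraspecial_zpowers_eq_center hE hz₀ hne
  constructor
  · intro hv
    rw [← hzp] at hv
    obtain ⟨i, hi⟩ := hv
    refine ⟨(i : ZMod p), ?_⟩
    rw [← SubgroupClass.coe_pow, ← hi]
    congr 1
    rw [← zpow_natCast]
    apply zpow_eq_zpow_iff_modEq.2
    rw [show orderOf z₀ = p from (Subgroup.orderOf_mk _ _).symm.trans hz]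
    exact ((ZMod.intCast_eq_intCast_iff _ _ _).1 (by simp)).symm
  · rintro ⟨i, hi⟩
    rw [show v = z₀ ^ i.val from Subtype.ext (by rw [hi, SubgroupClass.coe_pow])]
    exact pow_mem hz₀ _

variable {z : G} (hzP : z ∈ (P : Subgroup G))
  (hZ : ∀ v : P, v ∈ center P ↔ ∃ i : ZMod p, (v : G) = z ^ i.val)

include hE hzP hZ in
theorem commutator_eq {x y : G} (hx : x ∈ (P : Subgroup G)) (hy : y ∈ (P : Subgroup G)) :
    ∃ i : ZMod p, ⁅x, y⁆ = z ^ i.val :=
  (hZ ⁅⟨x, hx⟩, ⟨y, hy⟩⁆).1 (PGroup.extraspecial_comm_mem_center hE _ _)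

include hzP hZ in
theorem z_central {x : G} (hx : x ∈ (P : Subgroup G)) : Commute z x :=
  (congrArg Subtype.val (mem_center_iff.1 ((hZ ⟨z, hzP⟩).2 ⟨1, by rw [zv_one]⟩) ⟨x, hx⟩)).symm

/-- Coordinates on `P / Z(P)` and the action of `N(P)` on them. -/
structure Coord (P : Sylow p G) where
  π : P → (Fin 2 → ZMod p)
  hadd : ∀ x y, π (x * y) = π x + π y
  hker : ∀ x, π x = 0 ↔ x ∈ center P
  hsurj : Function.Surjective π
  T : normalizer ((P : Subgroup G) : Set G) →* GL (Fin 2) (ZMod p)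
  hT : ∀ (g : normalizer ((P : Subgroup G) : Set G)) (x : P),
    π ⟨(g : G) * x * (g : G)⁻¹, (mem_normalizer_iff.1 g.2 x).1 x.2⟩ =
      (T g : Matrix (Fin 2) (Fin 2) (ZMod p)) *ᵥ π x
  hcop : ¬ p ∣ Nat.card ((ProjGenLinGroup.mk (n := Fin 2) (R := ZMod p)).comp T).range

include hE hcard in
theorem exists_coord_data : Nonempty (Coord P) := by
  classical
  set Q := P ⧸ center P
  have hQc : ∀ a b : Q, a * b = b * a := by
    intro a b
    obtain ⟨x, rfl⟩ := QuotientGroup.mk_surjective a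
    obtain ⟨y, rfl⟩ := QuotientGroup.mk_surjective b
    rw [← commutatorElement_eq_one_iff_mul_comm, ← QuotientGroup.mk'_apply, ← QuotientGroup.mk'_apply,
      ← map_commutatorElement, QuotientGroup.mk'_apply, QuotientGroup.eq_one_iff]
    exact PGroup.extraspecial_comm_mem_center hE x y
  letI : CommGroup Q := { (inferInstance : Group Q) with mul_comm := hQc }
  have hQp : ∀ a : Additive Q, p • a = 0 := by
    intro a
    obtain ⟨x, hx⟩ := QuotientGroup.mk_surjective (Additive.toMul a)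
    apply Additive.toMul.injective
    rw [toMul_nsmul, ← hx, toMul_zero, ← QuotientGroup.mk_pow, QuotientGroup.eq_one_iff]
    exact PGroup.extraspecial_pow_mem_center hE x
  letI : Module (ZMod p) (Additive Q) := AddCommGroup.zmodModule (n := p) hQp
  haveI : Finite Q := inferInstance
  haveI : Finite (Additive Q) := inferInstanceAs (Finite Q)
  have hfr : Module.finrank (ZMod p) (Additive Q) = 2 := by
    have h1 : Nat.card (Additive Q) = p ^ 2 := by
      have h := card_eq_card_quotient_mul_card_subgroup (center P)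
      rw [hcard, hE.2, pow_succ] at h
      exact (Nat.eq_of_mul_eq_mul_right hp.out.pos h).symm
    have h2 := Module.natCard_eq_pow_finrank (K := ZMod p) (V := Additive Q)
    rw [Nat.card_zmod, h1] at h2
    exact (Nat.pow_right_injective hp.out.two_le h2).symm
  let bas := Module.finBasisOfFinrankEq (ZMod p) (Additive Q) hfr
  let π : P → (Fin 2 → ZMod p) := fun x => bas.equivFun (Additive.ofMul (x : Q))
  have hadd : ∀ x y, π (x * y) = π x + π y := fun x y => by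
    simp only [π, QuotientGroup.mk_mul, ofMul_mul, map_add]
  have hker : ∀ x, π x = 0 ↔ x ∈ center P := fun x => by
    simp only [π, LinearEquiv.map_eq_zero_iff, ofMul_eq_zero]
    exact QuotientGroup.eq_one_iff x
  have hsurj : Function.Surjective π := fun v => by
    obtain ⟨x, hx⟩ := QuotientGroup.mk_surjective (Additive.toMul (bas.equivFun.symm v))
    refine ⟨x, ?_⟩
    show bas.equivFun (Additive.ofMul (x : Q)) = v
    rw [hx, ofMul_toMul, LinearEquiv.apply_symm_apply]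
  set N := normalizer ((P : Subgroup G) : Set G)
  let cj : N → P → P := fun g x => ⟨(g : G) * x * (g : G)⁻¹, (mem_normalizer_iff.1 g.2 x).1 x.2⟩
  have hcj : ∀ (g : N) (x y : P), cj g (x * y) = cj g x * cj g y := fun g x y => Subtype.ext (by
    show (g : G) * ((x : G) * y) * (g : G)⁻¹ = ((g : G) * x * (g : G)⁻¹) * ((g : G) * y * (g : G)⁻¹)
    group)
  have hcj1 : ∀ (g : N) (x : P), cj g⁻¹ (cj g x) = x := fun g x => Subtype.ext (by
    show ((g⁻¹ : N) : G) * ((g : G) * x * (g : G)⁻¹) * ((g⁻¹ : N) : G)⁻¹ = x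
    rw [Subgroup.coe_inv]; group)
  have hcj2 : ∀ (g : N) (x : P), cj g (cj g⁻¹ x) = x := fun g x => by
    simpa using hcj1 g⁻¹ x
  have hinv : ∀ (g : N) (x y : P), π x = π y → π (cj g x) = π (cj g y) := by
    intro g x y h
    have h1 : x⁻¹ * y ∈ center P := by
      rw [← hker]
      have h2 : π x + π (x⁻¹ * y) = π y := by rw [← hadd, mul_inv_cancel_left]
      rwa [h, add_eq_left] at h2
    have h3 : cj g (x⁻¹ * y) ∈ center P := mem_center_iff.2 fun w => by
      rw [← hcj2 g w, ← hcj, ← hcj, mem_center_iff.1 h1]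
    rw [show cj g y = cj g x * cj g (x⁻¹ * y) by rw [← hcj, mul_inv_cancel_left], hadd, (hker _).2 h3,
      add_zero]
  choose s hs using hsurj
  let R : N → ((Fin 2 → ZMod p) →ₗ[ZMod p] (Fin 2 → ZMod p)) := fun g =>
    AddMonoidHom.toZModLinearMap p (AddMonoidHom.mk' (fun v => π (cj g (s v))) fun v w => by
      rw [← hadd, ← hcj]
      exact hinv g _ _ (by rw [hadd, hs, hs, hs]))
  have hR : ∀ g x, R g (π x) = π (cj g x) := fun g x => hinv g _ _ (by rw [hs])
  have hR1 : R 1 = 1 := LinearMap.ext fun v => by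
    rw [← hs v, hR]
    congr 1
    exact Subtype.ext (by show ((1 : N) : G) * _ * ((1 : N) : G)⁻¹ = _; simp)
  have hRm : ∀ g h, R (g * h) = R g * R h := fun g h => LinearMap.ext fun v => by
    rw [← hs v, hR, Module.End.mul_apply, hR, hR]
    congr 1
    refine Subtype.ext ?_
    show ((g * h : N) : G) * _ * ((g * h : N) : G)⁻¹ = (g : G) * ((h : G) * _ * (h : G)⁻¹) * (g : G)⁻¹
    rw [Subgroup.coe_mul]; group
  let M : N →* Matrix (Fin 2) (Fin 2) (ZMod p) :=
    { toFun := fun g => LinearMap.toMatrix' (R g)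
      map_one' := by rw [hR1]; exact LinearMap.toMatrix'_id
      map_mul' := fun g h => by rw [hRm]; exact LinearMap.toMatrix'_comp _ _ }
  let T : N →* GL (Fin 2) (ZMod p) := M.toHomUnits
  have hT : ∀ (g : N) (x : P), π (cj g x) = (T g : Matrix (Fin 2) (Fin 2) (ZMod p)) *ᵥ π x := by
    intro g x
    rw [← hR]
    exact (LinearMap.toMatrix'_mulVec (R g) (π x)).symm
  refine ⟨⟨π, hadd, hker, fun v => ⟨s v, hs v⟩, T, hT, ?_⟩⟩
  rw [← Subgroup.index_ker]
  intro hd
  have hle : (P : Subgroup G).subgroupOf N ≤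
      ((ProjGenLinGroup.mk (n := Fin 2) (R := ZMod p)).comp T).ker := by
    intro y hy
    have : T y = 1 := by
      refine Units.ext (Matrix.ext_of_mulVec_single fun i => ?_)
      rw [← hs (Pi.single i 1), ← hT, Units.val_one, Matrix.one_mulVec]
      have e : cj y (s (Pi.single i 1)) = ⟨y, hy⟩ * s (Pi.single i 1) * ⟨y, hy⟩⁻¹ := Subtype.ext rfl
      rw [e, hadd, hadd, add_assoc, add_comm (π (s _)), ← add_assoc, ← hadd, mul_inv_cancel,
        (hker 1).2 (one_mem _), zero_add]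
    rw [MonoidHom.mem_ker, MonoidHom.comp_apply, this, map_one]
  refine P.not_dvd_index (hd.trans ((index_dvd_of_le hle).trans ?_))
  rw [← Subgroup.relIndex]
  exact relIndex_dvd_index_of_le le_normalizer

include hE hexp hzP hZ in
/-- The split element attached to `u`. -/
theorem exists_split (C : Coord P) {u : P} (hu : u ∉ center P) {r : G} (hru : r * u * r⁻¹ = u)
    (hrz : r * z * r⁻¹ = z * u) (hz1 : z ≠ 1) (lam : ZMod p) (hlam : lam ≠ 0) (h6 : lam ^ 6 ≠ 1) :
    ∃ (g : normalizer ((P : Subgroup G) : Set G)) (D : PglPairs.Split (F := ZMod p) (orderOf (lam ^ 3))),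
      D.e = C.π u ∧ D.T = C.T g := by
  have hzp : z ^ p = 1 := pow_p_eq_one hexp hzP
  have hup : (u : G) ^ p = 1 := pow_p_eq_one hexp u.2
  have hzu : Commute z (u : G) := z_central hzP hZ u.2
  have hzo : orderOf z = p := orderOf_eq_prime hzp hz1
  have zinj : ∀ i j : ZMod p, z ^ i.val = z ^ j.val → i = j := fun i j h => by
    have h' := pow_eq_pow_iff_modEq.1 h
    rw [hzo, ← ZMod.natCast_eq_natCast_iff, ZMod.natCast_zmod_val, ZMod.natCast_zmod_val] at h'
    exact h'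
  have hπ1 : C.π 1 = 0 := (C.hker 1).2 (one_mem _)
  have hπinv : ∀ v, C.π v⁻¹ = -C.π v := fun v => by
    rw [eq_neg_iff_add_eq_zero, ← C.hadd, inv_mul_cancel, hπ1]
  have hπpow : ∀ (v : P) (n : ℕ), C.π (v ^ n) = (n : ZMod p) • C.π v := by
    intro v n
    induction n with
    | zero => simp [hπ1]
    | succ n ih => rw [pow_succ, C.hadd, ih]; push_cast; rw [add_smul, one_smul]
  set e := C.π u with he
  have he0 : e ≠ 0 := fun h => hu ((C.hker u).1 h)
  -- a second vector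
  obtain ⟨v, hv⟩ : ∃ v : Fin 2 → ZMod p, ∀ a : ZMod p, v ≠ a • e := by
    by_cases h0 : e 0 = 0
    · exact ⟨![1, 0], fun a h => by simpa [h0] using congrFun h 0⟩
    · refine ⟨![0, 1], fun a h => ?_⟩
      have h1 := congrFun h 0
      have h2 := congrFun h 1
      simp [h0] at h1
      simp [h1] at h2
  obtain ⟨y, hy⟩ := C.hsurj v
  have hdec : ∀ w : P, ∃ α β : ZMod p, ∃ c ∈ center P, w = u ^ α.val * y ^ β.val * c := fun w => by
    obtain ⟨α, β, hαβ⟩ := PglPairs.exists_coord he0 hv (C.π w)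
    refine ⟨α, β, (u ^ α.val * y ^ β.val)⁻¹ * w, ?_, (mul_inv_cancel_left _ _).symm⟩
    rw [← C.hker, C.hadd, hπinv, C.hadd, hπpow, hπpow, ZMod.natCast_zmod_val, ZMod.natCast_zmod_val,
      hy, hαβ, ← he, neg_add_cancel]
  obtain ⟨γ, hγ⟩ := commutator_eq hE hzP hZ u.2 y.2
  have hγ0 : γ ≠ 0 := by
    intro h0
    rw [h0, zv_zero, commutatorElement_eq_one_iff_mul_comm] at hγ
    have huy : Commute u y := Subtype.ext hγ
    refine hu (mem_center_iff.2 fun w => ?_)
    obtain ⟨α, β, c, hc, rfl⟩ := hdec w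
    exact ((((Commute.refl u).pow_right _).mul_right (huy.pow_right _)).mul_right
      (mem_center_iff.1 hc u)).eq.symm
  have hzP' : ∀ w ∈ (P : Subgroup G), w * z * w⁻¹ = z := fun w hw => by
    rw [← (z_central hzP hZ hw).eq, mul_inv_cancel_right]
  -- the first transvection
  have hyu : (y : G) * u * (y : G)⁻¹ = z ^ (-γ).val * u := by
    have h1 : z ^ (-γ).val * ⁅(u : G), (y : G)⁆ = 1 := by
      rw [hγ, ← zv_add hzp, neg_add_cancel, zv_zero]
    calc (y : G) * u * (y : G)⁻¹ = ⁅(u : G), (y : G)⁆⁻¹ * u := by rw [commutatorElement_def]; group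
      _ = z ^ (-γ).val * u := by rw [← eq_inv_of_mul_eq_one_left h1]
  obtain ⟨k, hk⟩ : ∃ k : ℕ, (k : ZMod p) * (-γ) = 1 :=
    ⟨((-γ)⁻¹).val, by rw [ZMod.natCast_zmod_val, inv_mul_cancel₀ (neg_ne_zero.2 hγ0)]⟩
  have hg1 : (y : G) ^ k * u * ((y : G) ^ k)⁻¹ = z * u := by
    have h1 : ∀ n : ℕ, (y : G) ^ n * u * ((y : G) ^ n)⁻¹ = z ^ ((n : ZMod p) * -γ).val * u := by
      intro n
      induction n with
      | zero => simp [zv_zero]
      | succ n ih =>
        have hc : (y : G) * z ^ ((n : ZMod p) * -γ).val * (y : G)⁻¹ = z ^ ((n : ZMod p) * -γ).val := by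
          rw [← conj_pow, hzP' _ y.2]
        calc (y : G) ^ (n + 1) * u * ((y : G) ^ (n + 1))⁻¹
            = (y : G) * ((y : G) ^ n * u * ((y : G) ^ n)⁻¹) * (y : G)⁻¹ := by rw [pow_succ']; group
          _ = ((y : G) * z ^ ((n : ZMod p) * -γ).val * (y : G)⁻¹) * ((y : G) * u * (y : G)⁻¹) := by
            rw [ih]; group
          _ = z ^ ((n + 1 : ℕ) * -γ : ZMod p).val * u := by
            rw [hc, hyu, ← mul_assoc, ← zv_add hzp]; push_cast; rw [add_one_mul]
    rw [h1, hk, zv_one]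
  obtain ⟨g, hgz, hgu⟩ := exists_diag hzp hup hzu (hzP' _ (pow_mem y.2 k)) hg1 hrz hru lam lam⁻¹
    (mul_inv_cancel₀ hlam)
  -- the stabilizer of the chain
  let K : Subgroup G :=
    { carrier := {h | h * z * h⁻¹ = z ∧ ∃ i : ZMod p, h * u * h⁻¹ = E z (u : G) i 1}
      one_mem' := ⟨by simp, 0, by simp [E, zv_zero, zv_one]⟩
      mul_mem' := by
        rintro h h' ⟨h1, i, h2⟩ ⟨h1', i', h2'⟩
        refine ⟨?_, i' + i, ?_⟩
        · rw [show h * h' * z * (h * h')⁻¹ = h * (h' * z * h'⁻¹) * h⁻¹ by group, h1', h1]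
        · rw [show h * h' * u * (h * h')⁻¹ = h * (h' * u * h'⁻¹) * h⁻¹ by group, h2',
            conj_E hzp hup hzu (a := 1) (b := 0) (c := i) (d := 1) (h1.trans (by simp [E, zv_one, zv_zero])) h2]
          congr 1 <;> ring
      inv_mem' := by
        rintro h ⟨h1, i, h2⟩
        refine ⟨?_, -i, ?_⟩
        · nth_rewrite 1 [← h1]; group
        · have h3 := conj_E hzp hup hzu (a := 1) (b := 0) (c := i) (d := 1)
            (h1.trans (by simp [E, zv_one, zv_zero])) h2 (-i) 1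
          rw [show (-i : ZMod p) * 1 + 1 * i = 0 by ring, show (-i : ZMod p) * 0 + 1 * 1 = 1 by ring,
            show E z (u : G) 0 (1 : ZMod p) = u by simp [E, zv_zero, zv_one]] at h3
          nth_rewrite 1 [← h3]; group }
  have hmemK : ∀ h : G, h ∈ K ↔ h * z * h⁻¹ = z ∧ ∃ i : ZMod p, h * u * h⁻¹ = E z (u : G) i 1 :=
    fun h => Iff.rfl
  have hPK : (P : Subgroup G) ≤ K := by
    intro w hw
    obtain ⟨i, hi⟩ := commutator_eq hE hzP hZ hw u.2
    refine (hmemK w).2 ⟨hzP' w hw, i, ?_⟩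
    rw [E, zv_one, ← hi, commutatorElement_def]; group
  have hgK : ∀ h ∈ K, g * h * g⁻¹ ∈ K := by
    intro h hh
    obtain ⟨h1, i, h2⟩ := (hmemK h).1 hh
    have e1 : ∀ a b : ZMod p, g * E z (u : G) a b * g⁻¹ = E z (u : G) (a * lam) (b * lam⁻¹) := fun a b => by
      rw [conj_E hzp hup hzu hgz hgu]; congr 1 <;> ring
    have e2 : ∀ a b : ZMod p, h * E z (u : G) a b * h⁻¹ = E z (u : G) (a + b * i) b := fun a b => by
      rw [conj_E hzp hup hzu (a := 1) (b := 0) (h1.trans (by simp [E, zv_one, zv_zero])) h2]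
      congr 1 <;> ring
    have e3 : ∀ a b : ZMod p, g * h * g⁻¹ * E z (u : G) (a * lam) (b * lam⁻¹) * (g * h * g⁻¹)⁻¹ =
        E z (u : G) ((a + b * i) * lam) (b * lam⁻¹) := fun a b => by
      rw [← e1, show g * h * g⁻¹ * (g * E z (u : G) a b * g⁻¹) * (g * h * g⁻¹)⁻¹ =
        g * (h * E z (u : G) a b * h⁻¹) * g⁻¹ by group, e2, e1]
    refine (hmemK _).2 ⟨?_, lam * i * lam, ?_⟩
    · have := e3 lam⁻¹ 0
      simpa [inv_mul_cancel₀ hlam, E, zv_one, zv_zero] using this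
    · have := e3 0 lam
      simpa [mul_inv_cancel₀ hlam, E, zv_one, zv_zero] using this
  set P' := g • P
  have hP'K : (P' : Subgroup G) ≤ K := by
    intro w hw
    rw [Sylow.coe_subgroup_smul] at hw
    obtain ⟨x, hx, rfl⟩ := hw
    exact hgK x (hPK hx)
  obtain ⟨⟨k, hkK⟩, hk'⟩ := MulAction.exists_smul_eq K (P'.subtype hP'K) (P.subtype hPK)
  have hkP : ∀ w ∈ (P : Subgroup G), k * g * w * (k * g)⁻¹ ∈ (P : Subgroup G) := by
    intro w hw
    have h1 : (⟨g * w * g⁻¹, hgK w (hPK hw)⟩ : K) ∈ (P'.subtype hP'K : Subgroup K) := by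
      show g * w * g⁻¹ ∈ (P' : Subgroup G)
      rw [Sylow.coe_subgroup_smul]
      exact ⟨w, hw, rfl⟩
    have h2 : (⟨k, hkK⟩ : K) * ⟨g * w * g⁻¹, hgK w (hPK hw)⟩ * (⟨k, hkK⟩ : K)⁻¹ ∈ (P.subtype hPK : Subgroup K) := by
      rw [← hk', Sylow.coe_subgroup_smul]
      exact ⟨_, h1, rfl⟩
    have h3 : k * (g * w * g⁻¹) * k⁻¹ ∈ (P : Subgroup G) := h2
    rwa [show k * g * w * (k * g)⁻¹ = k * (g * w * g⁻¹) * k⁻¹ by group]
  have hkg : k * g ∈ normalizer ((P : Subgroup G) : Set G) := by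
    rw [mem_normalizer_iff_map_conj_eq]
    refine eq_of_le_of_card_ge ?_ (card_map_of_injective (MulAut.conj (k * g)).injective).ge
    rintro _ ⟨w, hw, rfl⟩
    exact hkP w hw
  obtain ⟨hk1, ik, hk2⟩ := (hmemK k).1 hkK
  have hnz : k * g * z * (k * g)⁻¹ = z ^ lam.val := by
    rw [show k * g * z * (k * g)⁻¹ = k * (g * z * g⁻¹) * k⁻¹ by group, hgz, E, zv_zero, mul_one,
      ← conj_pow, hk1]
  have hnu : k * g * u * (k * g)⁻¹ = z ^ (lam⁻¹ * ik).val * (u : G) ^ lam⁻¹.val := by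
    rw [show k * g * u * (k * g)⁻¹ = k * (g * u * g⁻¹) * k⁻¹ by group, hgu,
      conj_E hzp hup hzu (a := 1) (b := 0) (hk1.trans (by simp [E, zv_one, zv_zero])) hk2]
    simp [E]
  let n : normalizer ((P : Subgroup G) : Set G) := ⟨k * g, hkg⟩
  have hTe : (C.T n : Matrix (Fin 2) (Fin 2) (ZMod p)) *ᵥ e = lam⁻¹ • e := by
    rw [he, ← C.hT]
    have e1 : (⟨(n : G) * (u : G) * (n : G)⁻¹, (mem_normalizer_iff.1 n.2 u).1 u.2⟩ : P) =
        ⟨z, hzP⟩ ^ (lam⁻¹ * ik).val * u ^ lam⁻¹.val := by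
      apply Subtype.ext
      simpa [n] using hnu
    rw [e1, C.hadd, hπpow, hπpow, (C.hker _).2 ((hZ _).2 ⟨1, by rw [zv_one]⟩), smul_zero, zero_add,
      ZMod.natCast_zmod_val]
  -- the other eigenvalue
  obtain ⟨α, β, c, hc, hw⟩ := hdec ⟨(n : G) * (y : G) * (n : G)⁻¹, (mem_normalizer_iff.1 n.2 y).1 y.2⟩
  have hTv : (C.T n : Matrix (Fin 2) (Fin 2) (ZMod p)) *ᵥ v = α • e + β • v := by
    rw [← hy, ← C.hT, hw, C.hadd, C.hadd, hπpow, hπpow, (C.hker _).2 hc, ZMod.natCast_zmod_val,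
      ZMod.natCast_zmod_val, add_zero, hy]
  have hβ : β = lam ^ 2 := by
    have hw' : (n : G) * (y : G) * (n : G)⁻¹ = (u : G) ^ α.val * (y : G) ^ β.val * (c : G) := by
      simpa using congrArg Subtype.val hw
    have hcc : ∀ x ∈ (P : Subgroup G), Commute x (c : G) := fun x hx =>
      congrArg Subtype.val (mem_center_iff.1 hc ⟨x, hx⟩)
    -- commutators with `u`
    have hcb : ∀ (a b : ℕ) (x : G), x * u * x⁻¹ = z ^ a * u →
        x * (u : G) ^ b * x⁻¹ = z ^ (a * b) * (u : G) ^ b := by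
      intro a b x hx
      rw [← conj_pow, hx, (hzu.pow_left a).mul_pow, ← pow_mul]
    have hpow : ∀ m : ℕ, (y : G) ^ m * u * ((y : G) ^ m)⁻¹ = z ^ ((-γ).val * m) * u := by
      intro m
      induction m with
      | zero => simp
      | succ m ih =>
        calc (y : G) ^ (m + 1) * u * ((y : G) ^ (m + 1))⁻¹
            = (y : G) * ((y : G) ^ m * u * ((y : G) ^ m)⁻¹) * (y : G)⁻¹ := by rw [pow_succ']; group
          _ = ((y : G) * z * (y : G)⁻¹) ^ ((-γ).val * m) * ((y : G) * u * (y : G)⁻¹) := by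
            rw [ih, conj_pow]; group
          _ = z ^ ((-γ).val * (m + 1)) * u := by
            rw [hzP' _ y.2, hyu, ← mul_assoc, ← pow_add, Nat.mul_succ]
    have L : (n : G) * (y * u * (y : G)⁻¹) * (n : G)⁻¹ =
        z ^ (lam * -γ).val * (z ^ (lam⁻¹ * ik).val * (u : G) ^ lam⁻¹.val) := by
      rw [hyu, show (n : G) * (z ^ (-γ).val * u) * (n : G)⁻¹ =
        ((n : G) * z ^ (-γ).val * (n : G)⁻¹) * ((n : G) * u * (n : G)⁻¹) by group, ← conj_pow,
        show (n : G) = k * g from rfl, hnz, hnu, ← zv_mul hzp]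
    have Rr : (n : G) * (y * u * (y : G)⁻¹) * (n : G)⁻¹ =
        z ^ (lam⁻¹ * ik).val * (z ^ ((-γ).val * β.val * lam⁻¹.val) * (u : G) ^ lam⁻¹.val) := by
      rw [show (n : G) * (y * u * (y : G)⁻¹) * (n : G)⁻¹ = ((n : G) * y * (n : G)⁻¹) *
        ((n : G) * u * (n : G)⁻¹) * ((n : G) * y * (n : G)⁻¹)⁻¹ by group, hw',
        show (n : G) * u * (n : G)⁻¹ = _ from hnu]
      set w0 := (u : G) ^ α.val * (y : G) ^ β.val * (c : G) with hw0
      have hw0P : w0 ∈ (P : Subgroup G) := mul_mem (mul_mem (pow_mem u.2 _) (pow_mem y.2 _)) c.2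
      have hw0u : w0 * u * w0⁻¹ = z ^ ((-γ).val * β.val) * u := by
        rw [hw0, show (u : G) ^ α.val * (y : G) ^ β.val * (c : G) * u *
          ((u : G) ^ α.val * (y : G) ^ β.val * (c : G))⁻¹ = (u : G) ^ α.val * ((y : G) ^ β.val *
          ((c : G) * u * (c : G)⁻¹) * ((y : G) ^ β.val)⁻¹) * ((u : G) ^ α.val)⁻¹ by group,
          ← (hcc _ u.2).eq, mul_inv_cancel_right, hpow,
          show (u : G) ^ α.val * (z ^ ((-γ).val * β.val) * u) * ((u : G) ^ α.val)⁻¹ =
            ((u : G) ^ α.val * z ^ ((-γ).val * β.val) * ((u : G) ^ α.val)⁻¹) * u by group,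
          ← conj_pow, hzP' _ (pow_mem u.2 _)]
      rw [show w0 * (z ^ (lam⁻¹ * ik).val * (u : G) ^ lam⁻¹.val) * w0⁻¹ =
        (w0 * z ^ (lam⁻¹ * ik).val * w0⁻¹) * (w0 * (u : G) ^ lam⁻¹.val * w0⁻¹) by group,
        ← conj_pow, hzP' _ hw0P, hcb _ _ _ hw0u]
    have h := L.symm.trans Rr
    rw [← mul_assoc, ← mul_assoc] at h
    have h' := mul_right_cancel h
    rw [(Commute.pow_pow_self z _ _).eq] at h'
    have h'' := mul_left_cancel h'
    rw [pow_mul, pow_mul, ← zv_mul hzp, ← zv_mul hzp] at h''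
    have h3 := zinj _ _ h''
    have h5 : lam⁻¹ * lam = 1 := inv_mul_cancel₀ hlam
    refine mul_left_cancel₀ (mul_ne_zero (neg_ne_zero.2 hγ0) (inv_ne_zero hlam)) ?_
    linear_combination (-h3) + (γ * lam) * h5
  have hne : lam ^ 2 ≠ lam⁻¹ := fun h => h6 (by
    calc lam ^ 6 = (lam ^ 2 * lam) ^ 2 := by ring
      _ = 1 := by rw [h, inv_mul_cancel₀ hlam, one_pow])
  set s := α / (lam ^ 2 - lam⁻¹) with hs
  refine ⟨n, ⟨C.T n, e, v + s • e, lam⁻¹, lam ^ 2, he0, fun h => hv (-s) (by rw [neg_smul]; exact eq_neg_of_add_eq_zero_left h),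
    inv_ne_zero hlam, pow_ne_zero 2 hlam, ?_, hTe, ?_, ?_⟩, rfl, rfl⟩
  · intro h
    refine h6 ?_
    calc lam ^ 6 = (lam ^ 2) ^ 2 * lam ^ 2 := by ring
      _ = (lam⁻¹) ^ 2 * lam ^ 2 := by rw [h]
      _ = 1 := by rw [← mul_pow, inv_mul_cancel₀ hlam, one_pow]
  · rw [Matrix.mulVec_add, Matrix.mulVec_smul, hTv, hTe, hβ, smul_add, smul_smul, smul_smul]
    have hs' : α + s * lam⁻¹ = lam ^ 2 * s := by
      have hd : s * (lam ^ 2 - lam⁻¹) = α := div_mul_cancel₀ _ (sub_ne_zero.2 hne)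
      linear_combination -hd
    rw [← hs', add_smul]
    abel
  · rw [div_inv_eq_mul, ← pow_succ]

end CfsgLib.LocalEvenSix.ExtraAutomizer
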