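import Cfsg.Agent.Lib.LocalEvenSix.ExtraAutomizer

/-!
# Counting the automizers of `p^{1+2}` containing `SL₂(p)`
-/

set_option autoImplicit false
set_option linter.unusedSectionVars false

namespace CfsgLib.LocalEvenSix.ExtraAutomizer

open Subgroup Matrix

variable {G : Type*} [Group G] [Finite G] {p : ℕ} [hp : Fact p.Prime] {P : Sylow p G}

/-- `u` has an element fixing it and moving `z` to `z u`. -/
def Moves (z : G) (u : P) : Prop :=
  u ∉ center P ∧ ∃ r : G, r * u * r⁻¹ = u ∧ r * z * r⁻¹ = z * u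

theorem exists_root (h : 7 < p) : ∃ lam : ZMod p, lam ≠ 0 ∧ lam ^ 6 ≠ 1 ∧
    ((17 ≤ p ∨ p = 11) → 6 ≤ orderOf (lam ^ 3)) ∧ (p = 13 → orderOf (lam ^ 3) = 4) := by
  obtain ⟨g, hg⟩ := IsCyclic.exists_generator (α := (ZMod p)ˣ)
  have hgo : orderOf ((g : ZMod p)) = p - 1 := by
    rw [orderOf_units, orderOf_eq_card_of_forall_mem_zpowers hg, Nat.card_eq_fintype_card, ZMod.card_units]
  refine ⟨g, g.ne_zero, fun h6 => ?_, fun hp' => ?_, fun hp' => ?_⟩
  · have := Nat.le_of_dvd (by norm_num) (hgo ▸ orderOf_dvd_of_pow_eq_one h6)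
    omega
  · rw [orderOf_pow' _ (by norm_num : (3 : ℕ) ≠ 0), hgo]
    have hd : Nat.gcd (p - 1) 3 ∣ 3 := Nat.gcd_dvd_right _ _
    rcases (Nat.dvd_prime Nat.prime_three).1 hd with h3 | h3
    · rw [h3, Nat.div_one]; omega
    · rw [h3]
      have h3' : 3 ∣ p - 1 := h3 ▸ Nat.gcd_dvd_left _ _
      have h2 : p % 2 = 1 := hp.out.eq_two_or_odd.resolve_left (by omega)
      rcases hp' with hp' | hp' <;> omega
  · rw [orderOf_pow' _ (by norm_num : (3 : ℕ) ≠ 0), hgo, hp']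
    decide

variable (hE : Cfsg.IsExtraspecial p P) (hexp : Monoid.exponent P = p)
  {z : G} (hzP : z ∈ (P : Subgroup G))
  (hZ : ∀ v : P, v ∈ center P ↔ ∃ i : ZMod p, (v : G) = z ^ i.val) (hz1 : z ≠ 1)
include hE hexp hzP hZ hz1

/-- The data needed for the count: a split element for each of a family of lines. -/
theorem exists_family (C : Coord P) (h7 : 7 < p) {ι : Type*} (u : ι → P) (hu : ∀ i, Moves z (u i)) :
    ∃ (H : Subgroup (ProjGenLinGroup (Fin 2) (ZMod p))) (m : ℕ) (D : ι → PglPairs.Split (F := ZMod p) m),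
      ¬ p ∣ Nat.card H ∧ ((17 ≤ p ∨ p = 11) → 6 ≤ m) ∧ (p = 13 → m = 4) ∧
      ∀ i, (D i).e = C.π (u i) ∧ ProjGenLinGroup.mk (D i).T ∈ H := by
  obtain ⟨lam, hlam, h6, hm1, hm2⟩ := exists_root h7
  have h : ∀ i, ∃ (g : normalizer ((P : Subgroup G) : Set G))
      (D : PglPairs.Split (F := ZMod p) (orderOf (lam ^ 3))), D.e = C.π (u i) ∧ D.T = C.T g := fun i => by
    obtain ⟨hui, r, hr1, hr2⟩ := hu i
    exact exists_split hE hexp hzP hZ C hui hr1 hr2 hz1 lam hlam h6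
  choose g D hD1 hD2 using h
  exact ⟨_, _, D, C.hcop, hm1, hm2, fun i => ⟨hD1 i, g i, by rw [hD2 i]; rfl⟩⟩

/-- For `p ≥ 17` or `p = 11` there are no three such lines. -/
theorem not_three_lines (C : Coord P) (h7 : 7 < p) (hp' : 17 ≤ p ∨ p = 11) (u : Fin 3 → P)
    (hu : ∀ i, Moves z (u i)) (hd : ∀ i j, i ≠ j → ∀ a : ZMod p, C.π (u j) ≠ a • C.π (u i)) : False := by
  obtain ⟨H, m, D, hH, hm, -, hD⟩ := exists_family hE hexp hzP hZ hz1 C h7 u hu
  haveI : Finite H := Nat.finite_of_card_ne_zero fun h => hH (h ▸ dvd_zero p)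
  obtain ⟨hc, -⟩ := PglPairs.structure' (by omega) H.subtype H.subtype_injective hH
  have hcomm : ∀ i j, Commute (ProjGenLinGroup.mk (D i).T) (ProjGenLinGroup.mk (D j).T) := fun i j => by
    have h6 := hm hp'
    exact congrArg Subtype.val (hc ⟨_, (hD i).2⟩ ⟨_, (hD j).2⟩
      (by rwa [orderOf_mk, (D i).orderOf_mk]) (by rwa [orderOf_mk, (D j).orderOf_mk]))
  refine PglPairs.not_three (D 0) (D 1) (D 2) ?_ ?_ ?_ (hcomm 0 1) (hcomm 0 2)
  · intro a; rw [(hD 0).1, (hD 1).1]; exact hd 0 1 (by decide) a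
  · intro a; rw [(hD 0).1, (hD 2).1]; exact hd 0 2 (by decide) a
  · intro a; rw [(hD 1).1, (hD 2).1]; exact hd 1 2 (by decide) a

/-- For `p = 13` there are no nine such lines. -/
theorem not_nine_lines (C : Coord P) (hp' : p = 13) (u : Fin 9 → P) (hu : ∀ i, Moves z (u i))
    (hd : ∀ i j, i ≠ j → ∀ a : ZMod p, C.π (u j) ≠ a • C.π (u i)) : False := by
  obtain ⟨H, m, D, hH, -, hm, hD⟩ := exists_family hE hexp hzP hZ hz1 C (by omega) u hu
  haveI : Finite H := Nat.finite_of_card_ne_zero fun h => hH (h ▸ dvd_zero p)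
  obtain ⟨-, f, hf⟩ := PglPairs.structure' (by omega) H.subtype H.subtype_injective hH
  classical
  obtain ⟨c, hc⟩ := Fintype.exists_lt_card_fiber_of_mul_lt_card (n := 2)
    (fun i => f ⟨_, (hD i).2⟩) (by simp)
  obtain ⟨i, j, k, hi, hj, hk, hij, hik, hjk⟩ := Finset.two_lt_card_iff.1 hc
  simp only [Finset.mem_filter, Finset.mem_univ, true_and] at hi hj hk
  have hcomm : ∀ a b, f ⟨_, (hD a).2⟩ = f ⟨_, (hD b).2⟩ →
      Commute (ProjGenLinGroup.mk (D a).T) (ProjGenLinGroup.mk (D b).T) := fun a b hab => by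
    have h4 := hm hp'
    exact congrArg Subtype.val (hf ⟨_, (hD a).2⟩ ⟨_, (hD b).2⟩
      (by rwa [orderOf_mk, (D a).orderOf_mk]) (by rwa [orderOf_mk, (D b).orderOf_mk]) hab)
  refine PglPairs.not_three (D i) (D j) (D k) ?_ ?_ ?_ (hcomm i j (hi.trans hj.symm))
    (hcomm i k (hi.trans hk.symm))
  · intro a; rw [(hD i).1, (hD j).1]; exact hd i j hij a
  · intro a; rw [(hD i).1, (hD k).1]; exact hd i k hik a
  · intro a; rw [(hD j).1, (hD k).1]; exact hd j k hjk a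

end CfsgLib.LocalEvenSix.ExtraAutomizer
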