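import Cfsg.Agent.Lib.Transfer.NormalComplement
import Cfsg.Agent.Lib.Transfer.Tate
import Cfsg.Agent.Lib.PGroup.Frattini

/-!
# Fusion modulo a subgroup of `P`
-/

set_option autoImplicit false

namespace CfsgLib.LocalEvenSix

open Subgroup CfsgLib.Transfer
open scoped commutatorElement

variable {G : Type*} [Group G] [Finite G] {p : ℕ} [Fact p.Prime]

/-- If in every `p`-local the `p'`-elements act trivially modulo `D ⊇ ⁅P,P⁆`, all `G`-fusion in `P` is
trivial modulo `D`. (Adapted from `CfsgLib.Transfer.FrobeniusCond.fusion`.) -/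
theorem fusion_mod (P : Sylow p G) (D : Subgroup G) (hD : ⁅(P : Subgroup G), (P : Subgroup G)⁆ ≤ D)
    (h : ∀ R : Subgroup G, R ≤ (P : Subgroup G) → ∀ y ∈ normalizer (R : Set G),
      Nat.Coprime (orderOf y) p → ∀ x ∈ R, y * x * y⁻¹ * x⁻¹ ∈ D) :
    ∀ n : ℕ, ∀ Q : Subgroup G, Q ≤ (P : Subgroup G) →
      Nat.card (P : Subgroup G) - Nat.card Q = n →
      ∀ g : G, (∀ x ∈ Q, g * x * g⁻¹ ∈ (P : Subgroup G)) →
      ∀ x ∈ Q, g * x * g⁻¹ * x⁻¹ ∈ D := by
  have hK : ∀ R : Subgroup G, R ≤ (P : Subgroup G) → ∀ c : normalizer (R : Set G),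
      c ∈ Cfsg.pResidual p (normalizer (R : Set G)) → ∀ x ∈ R, (c : G) * x * (c : G)⁻¹ * x⁻¹ ∈ D := by
    intro R hR c hc
    induction hc using closure_induction with
    | mem y hy => exact h R hR _ y.2 (by rwa [Subgroup.orderOf_coe])
    | one => intro x _; simp [one_mem]
    | mul a b _ _ iha ihb =>
      intro x hx
      have hxb : (b : G) * x * (b : G)⁻¹ ∈ R := (mem_normalizer_iff.mp b.2 x).mp hx
      have e : (↑(a * b) : G) * x * (↑(a * b) : G)⁻¹ * x⁻¹ =
          ((a : G) * ((b : G) * x * (b : G)⁻¹) * (a : G)⁻¹ * ((b : G) * x * (b : G)⁻¹)⁻¹) *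
            ((b : G) * x * (b : G)⁻¹ * x⁻¹) := by
        rw [Subgroup.coe_mul]; group
      rw [e]
      exact mul_mem (iha _ hxb) (ihb x hx)
    | inv a _ iha =>
      intro x hx
      have hxa : (a : G)⁻¹ * x * (a : G) ∈ R := by
        simpa using (mem_normalizer_iff.mp (a⁻¹).2 x).mp hx
      have := inv_mem (iha _ hxa)
      have e : ((a : G) * ((a : G)⁻¹ * x * (a : G)) * (a : G)⁻¹ * ((a : G)⁻¹ * x * (a : G))⁻¹)⁻¹ =
          (↑a⁻¹ : G) * x * (↑a⁻¹ : G)⁻¹ * x⁻¹ := by
        rw [Subgroup.coe_inv]; group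
      exact e ▸ this
  intro n
  induction n using Nat.strong_induction_on with
  | _ n ih =>
  intro Q hQP hn g hg
  rcases eq_or_lt_of_le hQP with rfl | hlt
  · have hgN : g ∈ normalizer ((P : Subgroup G) : Set G) := by
      refine mem_normalizer_of_map_conj_eq (eq_of_le_of_card_ge ?_ ?_)
      · rintro _ ⟨x, hx, rfl⟩
        exact hg x hx
      · exact (card_map_of_injective (MulAut.conj g).injective).ge
    -- split `g` into its `p`-part and its `p'`-part
    haveI := pResidual_normal (G := normalizer ((P : Subgroup G) : Set G)) (p := p)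
    let S : Sylow p (normalizer ((P : Subgroup G) : Set G)) := P.subtype le_normalizer
    have h1 : (⟨g, hgN⟩ : normalizer ((P : Subgroup G) : Set G)) ∈
        (S : Subgroup _) ⊔ Cfsg.pResidual p _ := by
      rw [sylow_sup_pResidual]; trivial
    rw [← SetLike.mem_coe, mul_normal] at h1
    obtain ⟨u, hu, c, hc, e⟩ := h1
    intro x hx
    have hu' : (u : G) ∈ (P : Subgroup G) := by simpa [S, mem_subgroupOf] using hu
    have e' : g = (u : G) * (c : G) := (congrArg Subtype.val e).symm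
    have hcx : (c : G) * x * (c : G)⁻¹ ∈ (P : Subgroup G) := (mem_normalizer_iff.mp c.2 x).mp hx
    have e1 : g * x * g⁻¹ * x⁻¹ = ⁅(u : G), (c : G) * x * (c : G)⁻¹⁆ * ((c : G) * x * (c : G)⁻¹ * x⁻¹) := by
      rw [e', commutatorElement_def]; group
    rw [e1]
    exact mul_mem (hD (commutator_mem_commutator hu' hcx)) (hK _ le_rfl c hc x hx)
  · obtain ⟨R, hR⟩ : ∃ R : Subgroup G, R = Q.map (MulAut.conj g).toMonoidHom := ⟨_, rfl⟩
    have hRP : R ≤ (P : Subgroup G) := by
      rw [hR]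
      rintro _ ⟨x, hx, rfl⟩
      exact hg x hx
    have hRcard : Nat.card R = Nat.card Q := by
      rw [hR]; exact card_map_of_injective (MulAut.conj g).injective
    have grow : ∀ T : Subgroup G, T ≤ (P : Subgroup G) → Nat.card T < Nat.card (P : Subgroup G) →
        ∃ T' : Subgroup G, T ≤ T' ∧ T' ≤ (P : Subgroup G) ∧ Nat.card T < Nat.card T' ∧
          T' ≤ normalizer (T : Set G) := by
      intro T hT hlt'
      refine ⟨(P : Subgroup G) ⊓ normalizer (T : Set G), le_inf hT le_normalizer, inf_le_left, ?_,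
        inf_le_right⟩
      by_contra hcon
      have hnc : NormalizerCondition (P : Subgroup G) :=
        haveI := P.2.isNilpotent
        Group.normalizerCondition_of_isNilpotent
      have hTt : T.subgroupOf (P : Subgroup G) = ⊤ := by
        by_contra hne
        obtain ⟨x, hx, hx'⟩ := SetLike.exists_of_lt (hnc _ (lt_top_iff_ne_top.mpr hne))
        have hxN : (x : G) ∈ normalizer (T : Set G) := by
          rw [mem_set_normalizer_iff]
          intro z
          by_cases hz : z ∈ (P : Subgroup G)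
          · exact mem_set_normalizer_iff.mp hx ⟨z, hz⟩
          · refine ⟨fun hh => absurd (hT hh) hz, fun hh => absurd (hT hh) fun h2 => hz ?_⟩
            have := mul_mem (mul_mem (inv_mem x.2) h2) x.2
            simpa [mul_assoc] using this
        have heq : T = (P : Subgroup G) ⊓ normalizer (T : Set G) :=
          eq_of_le_of_card_ge (le_inf hT le_normalizer) (not_lt.mp hcon)
        exact hx' (mem_subgroupOf.mpr (by rw [heq]; exact ⟨x.2, hxN⟩))
      have := card_le_of_le (subgroupOf_eq_top.mp hTt)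
      omega
    have hQlt : Nat.card Q < Nat.card (P : Subgroup G) := by
      by_contra hcon
      exact hlt.ne (eq_of_le_of_card_ge hQP (not_lt.mp hcon))
    obtain ⟨Q', hQQ', hQ'P, hQ'lt, hQ'N⟩ := grow Q hQP hQlt
    obtain ⟨R', hRR', hR'P, hR'lt, hR'N⟩ := grow R hRP (hRcard ▸ hQlt)
    have hQ'gN : Q'.map (MulAut.conj g).toMonoidHom ≤ normalizer (R : Set G) := by
      rintro _ ⟨x, hx, rfl⟩
      rw [mem_set_normalizer_iff]
      intro z
      rw [hR, SetLike.mem_coe, SetLike.mem_coe, mem_map_equiv, mem_map_equiv]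
      have := mem_set_normalizer_iff.mp (hQ'N hx) ((MulAut.conj g).symm z)
      simpa [mul_assoc] using this
    let N := normalizer (R : Set G)
    obtain ⟨S, hS⟩ := ((P.2.to_le hR'P).comap_subtype (K := N)).exists_le_sylow
    obtain ⟨T, hT⟩ :=
      (((P.2.to_le hQ'P).map (MulAut.conj g).toMonoidHom).comap_subtype (K := N)).exists_le_sylow
    obtain ⟨k, hk⟩ := MulAction.exists_smul_eq N T S
    haveI := pResidual_normal (G := N) (p := p)
    have hkk : k ∈ (S : Subgroup N) ⊔ Cfsg.pResidual p N := by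
      rw [sylow_sup_pResidual]; trivial
    rw [← SetLike.mem_coe, mul_normal] at hkk
    obtain ⟨s, hs, c, hc, e⟩ := hkk
    have hcS : ∀ x ∈ Q', ∃ w ∈ (S : Subgroup N),
        (w : G) = (c : G) * (g * x * g⁻¹) * (c : G)⁻¹ := by
      intro x hx
      let y : N := ⟨g * x * g⁻¹, hQ'gN ⟨x, hx, rfl⟩⟩
      have hyT : y ∈ (T : Subgroup N) :=
        hT (show (y : G) ∈ Q'.map (MulAut.conj g).toMonoidHom from ⟨x, hx, rfl⟩)
      have hky : k * y * k⁻¹ ∈ (S : Subgroup N) := hk ▸ ⟨y, hyT, rfl⟩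
      refine ⟨c * y * c⁻¹, ?_, rfl⟩
      have := mul_mem (mul_mem (inv_mem hs) hky) hs
      rw [← e] at this
      simpa [mul_assoc] using this
    have hSp : IsPGroup p ((S : Subgroup N).map N.subtype) := S.2.map _
    obtain ⟨P₁, hP₁⟩ := hSp.exists_le_sylow
    obtain ⟨a, rfl⟩ := MulAction.exists_smul_eq G P P₁
    have key : ∀ w ∈ (S : Subgroup N), a⁻¹ * (w : G) * a ∈ (P : Subgroup G) := by
      intro w hw
      obtain ⟨u, hu, e'⟩ := hP₁ (mem_map_of_mem _ hw)
      have e'' : (w : G) = a * u * a⁻¹ := e'.symm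
      simpa [e'', mul_assoc] using (show u ∈ (P : Subgroup G) from hu)
    have h1 := ih _ (by omega) R' hR'P rfl a⁻¹ (fun x hx => by
      have := key ⟨x, hR'N hx⟩ (hS (by simpa [mem_subgroupOf] using hx))
      simpa using this)
    have h2 := ih _ (by omega) Q' hQ'P rfl (a⁻¹ * ((c : G) * g)) (fun x hx => by
      obtain ⟨w, hw, e'⟩ := hcS x hx
      have := key w hw
      simpa [e', mul_assoc] using this)
    intro x hx
    have hr : g * x * g⁻¹ ∈ R := by rw [hR]; exact ⟨x, hx, rfl⟩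
    have hz : (c : G) * (g * x * g⁻¹) * (c : G)⁻¹ ∈ R := (mem_normalizer_iff.mp c.2 _).mp hr
    have e1 := h1 _ (hRR' hz)
    have e2 := h2 _ (hQQ' hx)
    have e3 := hK R hRP c hc _ hr
    have e : g * x * g⁻¹ * x⁻¹ = ((c : G) * (g * x * g⁻¹) * (c : G)⁻¹ * (g * x * g⁻¹)⁻¹)⁻¹ *
        ((a⁻¹ * ((c : G) * (g * x * g⁻¹) * (c : G)⁻¹) * a⁻¹⁻¹ * ((c : G) * (g * x * g⁻¹) * (c : G)⁻¹)⁻¹)⁻¹ *
          (a⁻¹ * ((c : G) * g) * x * (a⁻¹ * ((c : G) * g))⁻¹ * x⁻¹)) := by group
    rw [e]
    exact mul_mem (inv_mem e3) (mul_mem (inv_mem e1) e2)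

/-- If in every `p`-local the `p'`-elements act trivially modulo the Frattini subgroup of `P`, there is a
normal `p`-complement. -/
theorem hasNormalPComplement_of_trivial_mod_frattini (P : Sylow p G)
    (h : ∀ R : Subgroup G, R ≤ (P : Subgroup G) → ∀ y ∈ normalizer (R : Set G),
      Nat.Coprime (orderOf y) p → ∀ x ∈ R, y * x * y⁻¹ * x⁻¹ ∈ (frattini P).map (P : Subgroup G).subtype) :
    Cfsg.HasNormalPComplement p G := by
  set D := (frattini P).map (P : Subgroup G).subtype with hDdef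
  have hD : ⁅(P : Subgroup G), (P : Subgroup G)⁆ ≤ D := by
    rw [← map_subtype_commutator]
    exact map_mono (CfsgLib.PGroup.commutator_le_frattini P.isPGroup')
  refine CfsgLib.Transfer.hasNormalPComplement_of_inf_le_frattini P
    ((CfsgLib.Transfer.inf_pResidual_le_focal P).trans ?_)
  rw [focalSubgroup_def, closure_le]
  rintro z ⟨hz, x, hx, u, rfl⟩
  have h1 : u * x⁻¹ * u⁻¹ ∈ (P : Subgroup G) := by
    have := mul_mem (inv_mem hx) hz
    simpa [commutatorElement_def, mul_assoc] using this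
  have h2 := fusion_mod P D hD h _ (zpowers x⁻¹) (zpowers_le.mpr (inv_mem hx)) rfl u (fun w hw => by
    obtain ⟨k, rfl⟩ := hw
    show u * (x⁻¹) ^ k * u⁻¹ ∈ _
    rw [← conj_zpow]
    exact zpow_mem h1 k) x⁻¹ (mem_zpowers _)
  rw [inv_inv] at h2
  obtain ⟨d, hd, hde⟩ := h2
  refine ⟨(⟨x, hx⟩ : (P : Subgroup G)) * d * (⟨x, hx⟩ : (P : Subgroup G))⁻¹,
    (inferInstance : (frattini P).Normal).conj_mem d hd _, ?_⟩
  simp only [map_mul, map_inv, hde, commutatorElement_def]
  show x * (u * x⁻¹ * u⁻¹ * x) * x⁻¹ = x * u * x⁻¹ * u⁻¹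
  group

end CfsgLib.LocalEvenSix
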