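import Cfsg.Agent.Lib.LocalEvenSix.Sections
import Cfsg.Agent.Lib.LocalEvenSix.FusionMod
import Cfsg.Prelude.Def_TwoFusion
import Cfsg.Prelude.Def_Transfer

/-!
# p-nilpotency when all subgroups of a given order of a Sylow subgroup are strongly closed
-/

set_option autoImplicit false

namespace CfsgLib.LocalEvenSix

open Subgroup

variable {G : Type*} [Group G] [Finite G] {p : ℕ} [Fact p.Prime]

/-- All subgroups of `P` of order `n` (and of order `4` if `n = 2`) are strongly closed in `P`. -/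
def SCAll {G : Type*} [Group G] (n : ℕ) (P : Subgroup G) : Prop :=
  ∀ E : Subgroup G, E ≤ P → (Nat.card E = n ∨ (n = 2 ∧ Nat.card E = 4)) →
    ∀ x ∈ E, ∀ g : G, g * x * g⁻¹ ∈ P → g * x * g⁻¹ ∈ E

/-- A `p`-subgroup `E` of a `p`-group `P` with `gEg⁻¹ ∩ N(E) ≤ E` for all `g` is strongly closed in `P`. -/
theorem stronglyClosed_of_H {P E : Subgroup G} (hP : IsPGroup p P) (hEP : E ≤ P)
    (h : ∀ g : G, E.map (MulAut.conj g).toMonoidHom ⊓ normalizer (E : Set G) ≤ E) :
    ∀ x ∈ E, ∀ g : G, g * x * g⁻¹ ∈ P → g * x * g⁻¹ ∈ E := by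
  have hPN : P ≤ normalizer (E : Set G) := by
    by_contra hne
    set M := P ⊓ normalizer (E : Set G) with hMdef
    have hEM : E ≤ M := le_inf hEP le_normalizer
    have hlt : M.subgroupOf P < ⊤ := by
      rw [lt_top_iff_ne_top, Ne, subgroupOf_eq_top]
      exact fun h' => hne (h'.trans inf_le_right)
    haveI : Group.IsNilpotent P := hP.isNilpotent
    obtain ⟨⟨y, hyP⟩, hy, hyM⟩ := SetLike.exists_of_lt (normalizerCondition_of_isNilpotent _ hlt)
    refine hyM ⟨hyP, mem_normalizer_of_forall fun x hx => h y ⟨⟨x, hx, by simp⟩, ?_⟩⟩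
    have hxM := hEM hx
    have := (mem_normalizer_iff.mp hy ⟨x, hxM.1⟩).mp hxM
    exact this.2
  exact fun x hx g hgx => h g ⟨⟨x, hx, by simp⟩, hPN hgx⟩

/-- `p'`-elements normalising `R ≤ P` act trivially modulo `Φ(P)`. -/
theorem trivial_mod_frattini_of_scAll {P : Subgroup G} (hP : IsPGroup p P) {d : ℕ} (hd : 1 ≤ d)
    (hdP : p ^ d < Nat.card P) (hsc : SCAll (p ^ d) P) {R : Subgroup G} (hRP : R ≤ P) {y : G}
    (hy : y ∈ normalizer (R : Set G)) (hcop : (orderOf y).Coprime p)
    (hcop1 : (orderOf y).Coprime (p - 1)) :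
    ∀ x ∈ R, y * x * y⁻¹ * x⁻¹ ∈ (frattini P).map P.subtype := by
  have hpr : p.Prime := Fact.out
  have hR := hP.to_le hRP
  intro x hx
  have hyx : y * x * y⁻¹ ∈ R := (mem_normalizer_iff.mp hy x).mp hx
  by_cases hlt : p ^ d < Nat.card R
  · have hfix := centralizes_of_sections hR hcop hy hd hlt (fun X => y ∈ normalizer (X : Set G))
      (fun X hX => hX)
      (fun E hE hc => mem_normalizer_of_forall fun z hz =>
        hsc E (hE.trans hRP) hc z hz y (hRP ((mem_normalizer_iff.mp hy z).mp (hE hz))))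
      (fun A B hA hB => mem_normalizer_of_forall fun z hz => by
        have hle : A ⊔ B ≤ (A ⊔ B).comap (MulAut.conj y).toMonoidHom :=
          sup_le (fun a ha => le_sup_left (b := B) (by simpa using (mem_normalizer_iff.mp hA a).mp ha))
            (fun b hb => le_sup_right (a := A) (by simpa using (mem_normalizer_iff.mp hB b).mp hb))
        simpa using hle hz)
      (fun E hE hEy hEc => by
        obtain ⟨k, hk⟩ := (hR.to_le hE).exists_card_eq
        refine cyclic_fix hEy ?_
        rw [hk]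
        rcases k with _ | k
        · simp
        · rw [Nat.totient_prime_pow_succ hpr]
          exact Nat.Coprime.mul_right (hcop.pow_right k) hcop1)
      (fun T M hMT hTR hT hM hi => section_fix (hR.to_le hTR) hMT hi hT hM hcop1) x hx
    have : y * x * y⁻¹ * x⁻¹ = 1 := by rw [hfix]; group
    rw [this]; exact one_mem _
  · refine ⟨⟨y * x * y⁻¹ * x⁻¹, mul_mem (hRP hyx) (inv_mem (hRP hx))⟩, ?_, rfl⟩
    simp only [frattini, Order.radical, SetLike.mem_coe, mem_iInf]
    intro K hK
    obtain ⟨M, hMdef⟩ : ∃ M, M = K.map P.subtype := ⟨_, rfl⟩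
    suffices y * x * y⁻¹ * x⁻¹ ∈ M by
      rw [hMdef] at this
      obtain ⟨w, hw, e⟩ := this
      have : w = ⟨y * x * y⁻¹ * x⁻¹, mul_mem (hRP hyx) (inv_mem (hRP hx))⟩ := Subtype.ext e
      exact this ▸ hw
    have hMP : M ≤ P := hMdef ▸ map_subtype_le _
    have hMidx : M.relIndex P = p := by
      rw [hMdef, relIndex, subgroupOf, comap_map_eq_self_of_injective P.subtype_injective]
      exact CfsgLib.PGroup.index_of_isCoatom hP hK
    obtain ⟨r, hr⟩ := hP.exists_card_eq
    obtain ⟨s, hs⟩ := hR.exists_card_eq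
    have hsd : s ≤ d := (Nat.pow_le_pow_iff_right hpr.one_lt).mp (hs ▸ not_lt.mp hlt)
    have hdr : d < r := (Nat.pow_lt_pow_iff_right hpr.one_lt).mp (hr ▸ hdP)
    -- `R ∩ M` is invariant
    have hinv : y ∈ normalizer ((R ⊓ M : Subgroup G) : Set G) := by
      refine mem_normalizer_of_forall fun z hz => ?_
      obtain ⟨hzR, hzM⟩ := hz
      have hyz : y * z * y⁻¹ ∈ R := (mem_normalizer_iff.mp hy z).mp hzR
      refine ⟨hyz, ?_⟩
      obtain ⟨j, hj, hjz⟩ := (Nat.dvd_prime_pow hpr).mp (hs ▸ Subgroup.orderOf_dvd_natCard R hzR)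
      have hc : Nat.card (zpowers (⟨z, hzM⟩ : M)) = p ^ j := by
        rw [Nat.card_zpowers, Subgroup.orderOf_mk, hjz]
      have hMcard : Nat.card M = p ^ (r - 1) := by
        have e := (M.subgroupOf P).card_mul_index
        rw [← relIndex, hMidx, Nat.card_congr (subgroupOfEquivOfLe hMP).toEquiv, hr,
          show r = r - 1 + 1 by omega, pow_succ] at e
        exact Nat.eq_of_mul_eq_mul_right hpr.pos e
      obtain ⟨E₀, hE₀, hzE₀⟩ := Sylow.exists_subgroup_card_pow_prime_le p
        (m := d) (hMcard ▸ pow_dvd_pow p (by omega)) _ hc (hj.trans hsd)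
      have hEle : E₀.map M.subtype ≤ M := map_subtype_le _
      refine hEle (hsc _ (hEle.trans hMP) (Or.inl ?_) z ⟨⟨z, hzM⟩, hzE₀ (mem_zpowers _), rfl⟩ y (hRP hyz))
      rw [card_map_of_injective M.subtype_injective, hE₀]
    rcases eq_or_ne (R ⊓ M) R with he | he
    · exact mul_mem ((inf_eq_left.mp he) hyx) (inv_mem ((inf_eq_left.mp he) hx))
    · have hidx : (R ⊓ M).relIndex R = p := by
        have h1 : (R ⊓ M).relIndex R ∣ p := by
          rw [inf_comm, inf_relIndex_right, ← hMidx]
          have hMn : (M.subgroupOf P).Normal := by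
            rw [hMdef, subgroupOf, comap_map_eq_self_of_injective P.subtype_injective]
            exact CfsgLib.PGroup.normal_of_isCoatom hP hK
          have := relIndex_dvd_index_of_normal (M.subgroupOf P) (R.subgroupOf P)
          rwa [relIndex_subgroupOf hRP, ← relIndex] at this
        refine ((Nat.dvd_prime hpr).mp h1).resolve_left fun h => he ?_
        exact le_antisymm inf_le_left (relIndex_eq_one.mp h)
      exact (section_fix hR inf_le_left hidx hy hinv hcop1 x hx).2

theorem coprime_sub_one (hmin : ∀ q : ℕ, q.Prime → q ∣ Nat.card G → p ≤ q) (g : G) :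
    (orderOf g).Coprime (p - 1) := by
  refine Nat.coprime_of_dvd fun q hq h1 h2 => ?_
  have h4 := hmin q hq (h1.trans (orderOf_dvd_natCard g))
  have h5 := (Fact.out : p.Prime).two_le
  have h3 := Nat.le_of_dvd (by omega) h2
  omega

/-- The Frobenius-type conclusion. -/
theorem hasNormalPComplement_of_scAll (hmin : ∀ q : ℕ, q.Prime → q ∣ Nat.card G → p ≤ q)
    (P : Sylow p G) (h : IsCyclic ↥(P : Subgroup G) ∨ ∃ d : ℕ, 1 ≤ d ∧ p ^ d < Nat.card (P : Subgroup G) ∧
      SCAll (p ^ d) (P : Subgroup G)) : Cfsg.HasNormalPComplement p G := by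
  have hpr : p.Prime := Fact.out
  rcases h with hc | ⟨d, hd, hdP, hsc⟩
  · refine CfsgLib.Transfer.hasNormalPComplement_of_frobeniusCond
      (CfsgLib.Transfer.frobeniusCond_of_le_sylow P fun Q hQ g hg hcop => ?_)
    haveI : IsCyclic Q := isCyclic_of_injective (inclusion hQ) (inclusion_injective hQ)
    obtain ⟨k, hk⟩ := (P.isPGroup'.to_le hQ).exists_card_eq
    refine mem_centralizer_iff.mpr fun x hx => (cyclic_fix hg ?_ x hx).symm
    rw [hk]
    rcases k with _ | k
    · simp
    · rw [Nat.totient_prime_pow_succ hpr]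
      exact Nat.Coprime.mul_right (hcop.pow_right k) (coprime_sub_one hmin g)
  · exact hasNormalPComplement_of_trivial_mod_frattini P fun R hR y hy hcop =>
      trivial_mod_frattini_of_scAll P.isPGroup' hd hdP hsc hR hy hcop (coprime_sub_one hmin y)

end CfsgLib.LocalEvenSix
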