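import Cfsg.Agent.Lib.Frobenius.Theorem
import Cfsg.Agent.Lib.PCore.Basic
import Mathlib.GroupTheory.SchurZassenhaus

/-!
# An isolated element centralizing the `p'`-subgroups it normalizes is central

In a minimal counterexample `C(x)` contains every proper subgroup containing `x`, so `G / Z(G)` is a
Frobenius group with complement `C(x) / Z(G)`, and `x` centralizes the kernel.
-/

set_option autoImplicit false
set_option linter.style.haveILetI false

namespace CfsgLib.LocalEvenSix.IsolatedCentral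

open Subgroup
open scoped Pointwise

universe u

variable {p : ℕ} [hp : Fact p.Prime]

/-- A normal subgroup with a central Sylow subgroup `Z` is `Z` times a normal `p'`-subgroup. -/
theorem le_sup_pPrimeCore {G : Type u} [Group G] [Finite G] (K Z : Subgroup G) [K.Normal]
    (hZ : Z ≤ center G) (hZK : Z ≤ K) (hidx : ¬ p ∣ Z.relIndex K) :
    K ≤ Z ⊔ Cfsg.pPrimeCore p G := by
  haveI : Z.Normal := ⟨fun z hz g => by rw [mem_center_iff.1 (hZ hz) g, mul_inv_cancel_right]; exact hz⟩
  -- a Sylow `p`-subgroup of `K` inside `Z`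
  obtain ⟨S⟩ : Nonempty (Sylow p (Z.subgroupOf K)) := inferInstance
  set N : Subgroup K := (S : Subgroup (Z.subgroupOf K)).map (Z.subgroupOf K).subtype with hN
  have hcen : ∀ n ∈ N, ∀ c : K, c * n = n * c := fun n hn c => by
    obtain ⟨m, -, rfl⟩ := hn
    exact Subtype.ext (mem_center_iff.1 (hZ m.2) (c : G))
  haveI : N.Normal := ⟨fun n hn c => by rw [hcen n hn c, mul_inv_cancel_right]; exact hn⟩
  have hNi : ¬ p ∣ N.index := by
    intro hd
    rw [hN, index_map_of_injective _ (Subgroup.subtype_injective _)] at hd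
    rcases hp.out.dvd_mul.1 hd with hd | hd
    · exact S.not_dvd_index hd
    · refine hidx ?_
      rwa [range_subtype] at hd
  have hNp : IsPGroup p N := S.isPGroup'.map _
  have hcop : Nat.Coprime (Nat.card N) N.index := by
    obtain ⟨k, hk⟩ := IsPGroup.iff_card.1 hNp
    rw [hk]
    exact (hp.out.coprime_iff_not_dvd.2 hNi).pow_left k
  obtain ⟨C, hC⟩ := exists_right_complement'_of_coprime hcop
  haveI : C.Normal := ⟨fun k hk c => by
    obtain ⟨⟨n, l⟩, hnl⟩ := hC.2 c
    have hnl' : (n : K) * (l : K) = c := hnl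
    have h1 : Commute (n : K) ((l : K) * k * (l : K)⁻¹) := (hcen n n.2 _).symm
    rw [← hnl', show (n : K) * l * k * ((n : K) * l)⁻¹ = n * (l * k * (l : K)⁻¹) * (n : K)⁻¹ by group,
      h1.eq, mul_inv_cancel_right]
    exact mul_mem (mul_mem l.2 hk) (inv_mem l.2)⟩
  have hCc : (Nat.card C).Coprime p := by
    refine (hp.out.coprime_iff_not_dvd.2 ?_).symm
    rwa [← hC.symm.index_eq_card]
  have hCO : C.map K.subtype ≤ Cfsg.pPrimeCore p G := by
    refine (map_mono (PCore.le_pPrimeCore inferInstance hCc)).trans ?_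
    rw [PCore.map_pPrimeCore_subtype_of_normal]
    exact inf_le_right
  intro k hk
  obtain ⟨⟨n, c⟩, hnc⟩ := hC.2 ⟨k, hk⟩
  have hnc' : ((n : K) : G) * ((c : K) : G) = k := congrArg Subtype.val hnc
  rw [← hnc']
  obtain ⟨m, -, hm⟩ := n.2
  refine mul_mem_sup ?_ (hCO ⟨c, c.2, rfl⟩)
  rw [← hm]
  exact m.2

theorem mem_center_of_isolated {G : Type u} [Group G] [Finite G] (S : Sylow p G) (x : G)
    (hx : x ∈ S) (hU : ∀ g : G, g⁻¹ * x * g ∈ S → g⁻¹ * x * g = x)
    (hb : ∀ H : Subgroup G, (Nat.card H).Coprime p → (∀ h ∈ H, x * h * x⁻¹ ∈ H) →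
      ∀ h ∈ H, x * h = h * x) :
    x ∈ center G := by
  suffices key : ∀ (n : ℕ) (G : Type u) [Group G] [Finite G], Nat.card G = n → ∀ (S : Sylow p G) (x : G),
      x ∈ S → (∀ g : G, g⁻¹ * x * g ∈ S → g⁻¹ * x * g = x) →
      (∀ H : Subgroup G, (Nat.card H).Coprime p → (∀ h ∈ H, x * h * x⁻¹ ∈ H) →
        ∀ h ∈ H, x * h = h * x) → x ∈ center G from key _ G rfl S x hx hU hb
  clear hU hb hx x S
  intro n
  induction n using Nat.strong_induction_on with
  | _ n ih =>
  intro G _ _ hn S x hx hU hb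
  by_contra hxc
  -- a Sylow subgroup of a subgroup containing `x` has `x` isolated
  have hiso : ∀ (T : Subgroup G), IsPGroup p T → x ∈ T → ∀ g : G, g⁻¹ * x * g ∈ T → g⁻¹ * x * g = x := by
    intro T hT hxT g hg
    obtain ⟨R, hR⟩ := hT.exists_le_sylow
    obtain ⟨h, rfl⟩ := MulAction.exists_smul_eq G S R
    have hmem : ∀ t ∈ T, h⁻¹ * t * h ∈ (S : Subgroup G) := fun t ht => by
      have h1 := hR ht
      rw [Sylow.coe_subgroup_smul, mem_pointwise_smul_iff_inv_smul_mem] at h1
      simpa [MulAut.smul_def] using h1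
    have h1 := hU h (hmem x hxT)
    have h2 := hmem _ hg
    rw [show h⁻¹ * (g⁻¹ * x * g) * h = (g * h)⁻¹ * x * (g * h) by group] at h2
    have h3 := hU (g * h) h2
    rw [show (g * h)⁻¹ * x * (g * h) = h⁻¹ * (g⁻¹ * x * g) * h by group] at h3
    exact mul_left_cancel (mul_right_cancel (h3.trans h1.symm))
  -- proper subgroups containing `x` centralize it
  have hL : ∀ L : Subgroup G, L ≠ ⊤ → x ∈ L → ∀ l ∈ L, l * x = x * l := by
    intro L hLt hxL l hl
    have hxp : IsPGroup p (zpowers (⟨x, hxL⟩ : L)) := by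
      have h1 : IsPGroup p ((zpowers x).subgroupOf L) :=
        (S.isPGroup'.to_le (zpowers_le.2 hx)).comap_subtype
      refine h1.to_le (zpowers_le.2 (mem_zpowers x))
    obtain ⟨T, hT⟩ := hxp.exists_le_sylow
    have hxT : (⟨x, hxL⟩ : L) ∈ T := hT (mem_zpowers _)
    have := ih _ (hn ▸ (card_le_card_group L).lt_of_ne fun h => hLt (eq_top_of_card_eq L h)) L rfl T
      ⟨x, hxL⟩ hxT (fun g hg => Subtype.ext (hiso ((T : Subgroup L).map L.subtype) (T.isPGroup'.map _)
        ⟨_, hxT, rfl⟩ (g : G) ⟨_, hg, rfl⟩))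
      (fun H hH hHn h hh => Subtype.ext (hb (H.map L.subtype)
        (by rwa [card_map_of_injective L.subtype_injective])
        (by rintro _ ⟨k, hk, rfl⟩; exact ⟨_, hHn k hk, rfl⟩) (h : G) ⟨h, hh, rfl⟩))
    exact congrArg Subtype.val (mem_center_iff.1 this ⟨l, hl⟩)
  set M := centralizer ({x} : Set G) with hM
  have hMmem : ∀ {g : G}, g ∈ M ↔ g * x = x * g := fun {g} => mem_centralizer_singleton_iff
  have hxM : x ∈ M := hMmem.2 rfl
  have hMtop : M ≠ ⊤ := fun h => hxc (mem_center_iff.2 fun g => hMmem.1 (h ▸ mem_top g))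
  -- `x` commutes with no other conjugate
  have hcomm : ∀ g : G, g * x * g⁻¹ ∈ M → g ∈ M := by
    intro g hg
    have hp' : IsPGroup p (zpowers (g * x * g⁻¹)) := by
      obtain ⟨k, hk⟩ := S.isPGroup' ⟨x, hx⟩
      refine IsPGroup.of_card (n := Nat.log p (Nat.card (zpowers (g * x * g⁻¹)))) ?_
      have h1 : orderOf (g * x * g⁻¹) ∣ p ^ k := by
        apply orderOf_dvd_of_pow_eq_one
        rw [conj_pow, show x ^ p ^ k = 1 from congrArg Subtype.val hk]
        group
      obtain ⟨j, -, hj⟩ := (Nat.dvd_prime_pow hp.out).1 h1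
      rw [Nat.card_zpowers, hj, Nat.log_pow hp.out.one_lt]
    have hxp : IsPGroup p (zpowers x) := S.isPGroup'.to_le (zpowers_le.2 hx)
    have hnorm : zpowers (g * x * g⁻¹) ≤ normalizer (zpowers x : Set G) := by
      rw [zpowers_le]
      refine mem_normalizer_iff.2 fun v => ?_
      have hc : ∀ w ∈ zpowers x, Commute (g * x * g⁻¹) w := by
        rintro _ ⟨i, rfl⟩
        exact Commute.zpow_right (show Commute (g * x * g⁻¹) x from hMmem.1 hg) i
      constructor
      · intro hv
        rwa [(hc v hv).eq, mul_inv_cancel_right]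
      · intro hv
        have h2 := (hc _ hv).eq
        have h3 : v = (g * x * g⁻¹)⁻¹ * (g * x * g⁻¹ * v * (g * x * g⁻¹)⁻¹ * (g * x * g⁻¹)) := by group
        rw [h3, ← h2, inv_mul_cancel_left]
        exact hv
    have h1 := hiso _ (IsPGroup.to_sup_of_normal_right' hp' hxp hnorm) (mem_sup_right (mem_zpowers x))
      g⁻¹ (mem_sup_left (by rw [inv_inv]; exact mem_zpowers _))
    rw [inv_inv] at h1
    refine hMmem.2 ?_
    calc g * x = g * x * g⁻¹ * g := by group
      _ = x * g := by rw [h1]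
  -- intersections of conjugates of `M` are central
  set Z := center G with hZ
  have hZM : Z ≤ M := center_le_centralizer _
  have hTI : ∀ g : G, g ∉ M → ∀ d ∈ M, g⁻¹ * d * g ∈ M → d ∈ Z := by
    intro g hg d hd hd'
    by_contra hdZ
    set C := centralizer ({d} : Set G)
    have hC : C ≠ ⊤ := fun h => hdZ (mem_center_iff.2 fun a =>
      mem_centralizer_singleton_iff.1 (show a ∈ C by rw [h]; exact mem_top a))
    have h1 : x ∈ C := mem_centralizer_singleton_iff.2 (hMmem.1 hd).symm
    have h2 : g * x * g⁻¹ ∈ C := by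
      refine mem_centralizer_singleton_iff.2 ?_
      have h3 := hMmem.1 hd'
      calc g * x * g⁻¹ * d = g * (x * (g⁻¹ * d * g)) * g⁻¹ := by group
        _ = g * (g⁻¹ * d * g * x) * g⁻¹ := by rw [h3]
        _ = d * (g * x * g⁻¹) := by group
    exact hg (hcomm g (hMmem.2 (hL C hC h1 _ h2)))
  -- the Frobenius group `G / Z`
  set q := QuotientGroup.mk' Z with hq
  set Mb := M.map q with hMb
  have hcomap : Mb.comap q = M := by
    rw [hMb, comap_map_eq, hq, QuotientGroup.ker_mk', sup_eq_left.2 hZM]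
  have hF : Cfsg.IsFrobeniusComplement Mb := by
    refine ⟨?_, ?_, ?_⟩
    · rw [Ne, hMb, Subgroup.map_eq_bot_iff, hq, QuotientGroup.ker_mk']
      exact fun h => hxc (h hxM)
    · intro h
      apply hMtop
      rw [← hcomap, h, comap_top]
    · intro gb hgb
      obtain ⟨g, rfl⟩ := QuotientGroup.mk'_surjective Z gb
      rw [eq_bot_iff]
      rintro db ⟨hdb, hdb'⟩
      obtain ⟨d, rfl⟩ := QuotientGroup.mk'_surjective Z db
      have hd : d ∈ M := by rw [← hcomap]; exact hdb
      have hd' : g⁻¹ * d * g ∈ M := by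
        rw [← hcomap]
        have h1 := mem_pointwise_smul_iff_inv_smul_mem.1 hdb'
        simpa [hq, MulAut.smul_def] using h1
      have hg : g ∉ M := fun h => hgb ⟨g, h, rfl⟩
      exact (QuotientGroup.eq_one_iff d).2 (hTI g hg d hd hd')
  obtain ⟨Kb, -, hKn, hKM⟩ := Frobenius.exists_normal_kernel hF
  haveI := hKn
  set K := Kb.comap q with hK
  haveI : K.Normal := inferInstance
  have hKMZ : K ⊓ M ≤ Z := by
    intro k hk
    refine (QuotientGroup.eq_one_iff k).1 ?_
    exact Subgroup.disjoint_def.1 hKM.disjoint hk.1 ⟨k, hk.2, rfl⟩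
  have hsup : K ⊔ M = ⊤ := by
    refine top_le_iff.1 fun g _ => ?_
    obtain ⟨⟨⟨kb, hkb⟩, ⟨mb, m, hm, hmm⟩⟩, hkm⟩ := hKM.2 (q g)
    have hkm' : kb * mb = q g := hkm
    have hgm : g * m⁻¹ ∈ K := by
      show q (g * m⁻¹) ∈ Kb
      rw [map_mul, map_inv, hmm, ← hkm', mul_inv_cancel_right]
      exact hkb
    have := mul_mem_sup hgm hm
    rwa [inv_mul_cancel_right] at this
  have hidx : ¬ p ∣ Z.relIndex K := by
    have h1 : Z.relIndex K = M.relIndex K := by
      have : Z ⊓ K = M ⊓ K :=
        le_antisymm (inf_le_inf_right _ hZM) (le_inf (by rw [inf_comm]; exact hKMZ) inf_le_right)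
      rw [← inf_relIndex_right, this, inf_relIndex_right]
    rw [h1]
    have h2 : M.relIndex K ∣ M.index := by
      have h3 := relIndex_mul_index (inf_le_left : M ⊓ K ≤ M)
      have h4 := relIndex_mul_index (inf_le_right : M ⊓ K ≤ K)
      rw [inf_relIndex_left] at h3
      rw [inf_relIndex_right] at h4
      have h5 : K.relIndex M = K.index := by
        rw [← relIndex_top_right (H := K), ← hsup, relIndex_sup_left]
      rw [h5] at h3
      have h6 : K.index * M.relIndex K = K.index * M.index := by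
        rw [mul_comm, h4, h3]
      exact (Nat.eq_of_mul_eq_mul_left (Nat.pos_of_ne_zero index_ne_zero_of_finite) h6).dvd
    intro hd
    -- a Sylow subgroup containing `x` lies in `M`
    have hSM : (S : Subgroup G) ≤ M := fun s hs => hMmem.2 (by
      have h4 := hU s⁻¹ (by rw [inv_inv]; exact mul_mem (mul_mem hs hx) (inv_mem hs))
      rw [inv_inv] at h4
      calc s * x = s * x * s⁻¹ * s := by group
        _ = x * s := by rw [h4])
    exact S.not_dvd_index (hd.trans (h2.trans (index_dvd_of_le hSM)))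
  have hKc : K ≤ M := by
    refine (le_sup_pPrimeCore K Z le_rfl (fun z hz => ?_) hidx).trans (sup_le hZM fun w hw => ?_)
    · show q z ∈ Kb
      rw [hq, QuotientGroup.mk'_apply, (QuotientGroup.eq_one_iff z).2 hz]
      exact one_mem _
    · haveI := Cfsg.pPrimeCore_normal p G
      exact hMmem.2 (hb _ PCore.pPrimeCore_coprime
        (fun h hh => ‹(Cfsg.pPrimeCore p G).Normal›.conj_mem h hh x) w hw).symm
  exact hMtop (top_le_iff.1 (hsup.ge.trans (sup_le hKc le_rfl)))

end CfsgLib.LocalEvenSix.IsolatedCentral
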