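import Cfsg.Agent.Lib.LocalEvenSix.IsolatedSetup

/-!
# Lifting from `G / O_p(G)`
-/

set_option autoImplicit false

namespace CfsgLib.LocalEvenSix.IsolatedMin

open Subgroup

variable {G : Type*} [Group G] [Finite G] {p : ℕ} [hp : Fact p.Prime]

/-- `Y / O_p(Y)` is the image of `Y` in `G / O_p(G)`. -/
theorem quotient_equiv (Y : Subgroup G) [hY : Y.Normal] [(Cfsg.pCore p ↥Y).Normal] [hOn : (Cfsg.pCore p G).Normal] :
    Nonempty (↥Y ⧸ Cfsg.pCore p ↥Y ≃* Y.map (QuotientGroup.mk' (Cfsg.pCore p G))) := by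
  set π := QuotientGroup.mk' (Cfsg.pCore p G) with hπ
  let φ : ↥Y →* Y.map π := π.subgroupMap Y
  have hker : φ.ker = Cfsg.pCore p ↥Y := by
    ext y
    rw [MonoidHom.mem_ker, ← OneMemClass.coe_eq_one]
    show π (y : G) = 1 ↔ _
    rw [hπ, QuotientGroup.mk'_apply, QuotientGroup.eq_one_iff]
    constructor
    · intro h
      exact CfsgLib.LocalEvenCharP.le_pCore (hOn.comap Y.subtype)
        ((CfsgLib.LocalEvenCharP.isPGroup_pCore p G).comap_of_injective _ Y.subtype_injective) h
    · intro h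
      haveI : (Cfsg.pCore p ↥Y).Characteristic := CfsgLib.Fitting.pCore_characteristic p
      exact CfsgLib.LocalEvenCharP.le_pCore (N := (Cfsg.pCore p ↥Y).map Y.subtype) inferInstance
        ((CfsgLib.LocalEvenCharP.isPGroup_pCore p ↥Y).map _) ⟨y, h, rfl⟩
  exact ⟨(QuotientGroup.quotientMulEquivOfEq hker.symm).trans
    (QuotientGroup.quotientKerEquivOfSurjective φ (π.subgroupMap_surjective Y))⟩

/-- If the images agree in `G / O_p(G)` then `O^p(P)` is already normal. -/
theorem res_eq_closure (S : Sylow p G) (P : Subgroup G) (hSP : (S : Subgroup G) ≤ P)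
    [hOn : (Cfsg.pCore p G).Normal]
    (hDY : (res p P).map (QuotientGroup.mk' (Cfsg.pCore p G)) =
      (normalClosure (res p P : Set G)).map (QuotientGroup.mk' (Cfsg.pCore p G))) :
    res p P = normalClosure (res p P : Set G) := by
  set O := Cfsg.pCore p G with hO
  set D := res p P with hD
  set Y := normalClosure (D : Set G) with hYdef
  haveI hYn : Y.Normal := normalClosure_normal
  set π := QuotientGroup.mk' O
  refine le_antisymm le_normalClosure ?_
  have hYle : Y ≤ D ⊔ O := by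
    have h := (Subgroup.map_le_map_iff' (f := π)).1 hDY.ge
    rw [QuotientGroup.ker_mk'] at h
    exact le_sup_left.trans h
  have hOP : O ≤ P := (CfsgLib.LocalEvenSix.IsolatedMin.pCore_le_sylow S).trans hSP
  have hOD : O ≤ Subgroup.normalizer (D : Set G) :=
    hOP.trans (CfsgLib.LocalEvenSix.IsolatedMin.le_normalizer_res P)
  intro y hy
  rw [hYdef] at hy
  refine (Subgroup.closure_le _).2 ?_ hy
  intro z hz
  obtain ⟨d, hd, g, rfl⟩ : ∃ d ∈ (D : Set G), ∃ g : G, g * d * g⁻¹ = z := by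
    obtain ⟨d, hd, hc⟩ := Group.mem_conjugatesOfSet_iff.1 hz
    obtain ⟨g, hg⟩ := isConj_iff.1 hc
    exact ⟨d, hd, g, hg⟩
  -- the conjugate of `O^p(P)` lies in `D`
  have key : CfsgLib.LocalEvenSix.IsolatedMin.res p P ≤ D.comap (MulAut.conj g).toMonoidHom := by
    refine CfsgLib.LocalEvenSix.IsolatedMin.res_le_of_map_le P (O := O)
      (CfsgLib.LocalEvenCharP.isPGroup_pCore p G) ?_ ?_
    · intro x hx
      rw [Subgroup.mem_normalizer_iff]
      intro w
      simp only [Subgroup.mem_comap, map_mul, map_inv]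
      exact (Subgroup.mem_normalizer_iff (H := D)).1 (hOD (hOn.conj_mem x hx g)) _
    · intro x hx
      have hx' : g * x * g⁻¹ ∈ D ⊔ O :=
        hYle (hYn.conj_mem x (Subgroup.le_normalClosure hx) g)
      obtain ⟨o, ho, d', hd', he⟩ := CfsgLib.Techniques.exists_mul_of_mem_sup hOD (sup_comm D O ▸ hx')
      have e : x = (g⁻¹ * o * g) * (g⁻¹ * d' * g) := by
        rw [show (g⁻¹ * o * g) * (g⁻¹ * d' * g) = g⁻¹ * (o * d') * g by group, he]; group
      rw [e]
      refine mul_mem (Subgroup.mem_sup_right ?_) (Subgroup.mem_sup_left ?_)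
      · simpa using hOn.conj_mem o ho g⁻¹
      · show g * (g⁻¹ * d' * g) * g⁻¹ ∈ D
        rwa [show g * (g⁻¹ * d' * g) * g⁻¹ = d' by group]
  exact key hd

end CfsgLib.LocalEvenSix.IsolatedMin
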