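import Cfsg.Agent.Lib.LocalEvenSix.IsolatedMin

/-!
# From an isolated `p`-minimal subgroup to the reduced hypotheses
-/

set_option autoImplicit false
set_option linter.unusedSectionVars false

namespace CfsgLib.LocalEvenSix.IsolatedMin

open Subgroup

variable {G : Type*} [Group G] [Finite G] {p : ℕ} [hp : Fact p.Prime]

/-- The subgroup generated by `N(S)` and the `p`-minimal subgroups containing `S` other than `P`. -/
def others (S : Sylow p G) (P : Subgroup G) : Subgroup G :=
  normalizer ((S : Subgroup G) : Set G) ⊔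
    ⨆ P' : {P' : Subgroup G // (S : Subgroup G) ≤ P' ∧ Cfsg.IsPMinimal p ↥P' ∧ P' ≠ P}, (P' : Subgroup G)

theorem sylow_le_others (S : Sylow p G) (P : Subgroup G) : (S : Subgroup G) ≤ others S P :=
  le_normalizer.trans le_sup_left

theorem le_others_or (S : Sylow p G) (P : Subgroup G) {H : Subgroup G} (hSH : (S : Subgroup G) ≤ H) :
    P ≤ H ∨ H ≤ others S P := by
  refine or_iff_not_imp_left.2 fun hPH => ?_
  refine le_sup_pMinimal S _ H le_rfl hSH _ (fun h _ hn => mem_sup_left hn) ?_
  intro P' hSP' hP'H hP'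
  exact le_sup_of_le_right (le_iSup_of_le ⟨P', hSP', hP', fun e => hPH (e ▸ hP'H)⟩ le_rfl)

theorem sup_others (S : Sylow p G) (P : Subgroup G) : P ⊔ others S P = ⊤ := by
  refine top_le_iff.1 (le_sup_pMinimal S _ ⊤ le_rfl le_top _ (fun h _ hn => mem_sup_right (mem_sup_left hn)) ?_)
  intro P' hSP' _ hP'
  by_cases e : P' = P
  · exact e.le.trans le_sup_left
  · exact le_sup_of_le_right (le_sup_of_le_right (le_iSup_of_le ⟨P', hSP', hP', e⟩ le_rfl))

/-- `O^p(P)` as a subgroup of `G`. -/
abbrev res (p : ℕ) (P : Subgroup G) : Subgroup G := (Cfsg.pResidual p ↥P).map P.subtype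

theorem res_sup_sylow (S : Sylow p G) {P : Subgroup G} (hSP : (S : Subgroup G) ≤ P) :
    res p P ⊔ (S : Subgroup G) = P := by
  refine le_antisymm (sup_le (map_subtype_le _) hSP) ?_
  have h := congrArg (Subgroup.map P.subtype) (CfsgLib.Transfer.sylow_sup_pResidual (S.subtype hSP))
  rw [Subgroup.map_sup, ← MonoidHom.range_eq_map, P.range_subtype] at h
  rw [sup_comm]
  refine h.ge.trans (sup_le_sup ?_ le_rfl)
  exact (map_subgroupOf_eq_of_le hSP).le

theorem le_normalizer_res (P : Subgroup G) : P ≤ normalizer (res p P : Set G) := by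
  rw [← normal_subgroupOf_iff_le_normalizer (map_subtype_le _)]
  show ((res p P).comap P.subtype).Normal
  rw [comap_map_eq_self_of_injective P.subtype_injective]
  exact CfsgLib.Transfer.pResidual_normal

/-- An element of order prime to `p` in `U ⊔ S` lies in `U`. -/
theorem res_le_of_le_sup {U S P : Subgroup G} (hS : IsPGroup p S) (hSU : S ≤ normalizer (U : Set G))
    (h : P ≤ U ⊔ S) : res p P ≤ U := by
  rw [map_le_iff_le_comap, CfsgLib.Transfer.pResidual_le_iff]
  intro x hx
  obtain ⟨u, hu, s, hs, hus⟩ : ∃ u ∈ U, ∃ s ∈ S, (x : G) = u * s := by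
    obtain ⟨u, hu, s, hs, e⟩ := CfsgLib.Techniques.exists_mul_of_mem_sup' hSU (sup_comm U S ▸ h x.2)
    exact ⟨u, hu, s, hs, e.symm⟩
  let H := U ⊔ S
  haveI : (U.subgroupOf H).Normal :=
    (normal_subgroupOf_iff_le_normalizer le_sup_left).2 (sup_le le_normalizer hSU)
  let q := (QuotientGroup.mk' (U.subgroupOf H))
  have hxH : (x : G) ∈ H := h x.2
  have e : q ⟨x, hxH⟩ = q ⟨s, mem_sup_right hs⟩ := by
    refine QuotientGroup.eq.2 (mem_subgroupOf.2 ?_)
    show (x : G)⁻¹ * s ∈ U
    have : (x : G)⁻¹ * s = s⁻¹ * u⁻¹ * s := by rw [hus]; group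
    rw [this]
    exact ((mem_normalizer_iff'' (H := U)).1 (hSU hs) _).1 (inv_mem hu)
  obtain ⟨k, hk⟩ := hS ⟨s, hs⟩
  have hk' : s ^ p ^ k = 1 := by simpa using congrArg Subtype.val hk
  have h1 : q ⟨x, hxH⟩ ^ p ^ k = 1 := by
    rw [e, ← map_pow, show (⟨s, mem_sup_right hs⟩ : H) ^ p ^ k = 1 from Subtype.ext (by simp [hk']), map_one]
  have h2 : q ⟨x, hxH⟩ ^ orderOf x = 1 := by
    rw [← map_pow, show (⟨(x : G), hxH⟩ : H) ^ orderOf x = 1 from Subtype.ext (by
      simp [← SubgroupClass.coe_pow]), map_one]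
  have h3 : q ⟨x, hxH⟩ = 1 := by
    have := pow_gcd_eq_one.2 ⟨h2, h1⟩
    rwa [Nat.Coprime.pow_right k hx, pow_one] at this
  exact mem_subgroupOf.1 ((QuotientGroup.eq_one_iff (⟨x, hxH⟩ : H)).1 h3)

/-- `O^p` is idempotent. -/
theorem res_le_of_map_le (P : Subgroup G) {V O : Subgroup G} (hO : IsPGroup p O)
    (hOV : O ≤ normalizer (V : Set G)) (h : res p P ≤ V ⊔ O) : res p P ≤ V := by
  rw [map_le_iff_le_comap, CfsgLib.Transfer.pResidual_le_iff]
  intro x hx
  have h' : zpowers (x : G) ≤ V ⊔ O :=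
    zpowers_le.2 (h ⟨x, CfsgLib.Transfer.mem_pResidual hx, rfl⟩)
  exact res_le_of_le_sup hO hOV h' ⟨⟨x, mem_zpowers _⟩, CfsgLib.Transfer.mem_pResidual (by
    simpa [Subgroup.orderOf_coe, Subgroup.orderOf_mk] using hx), rfl⟩

theorem pCore_le_sylow (S : Sylow p G) : Cfsg.pCore p G ≤ (S : Subgroup G) := by
  haveI : (Cfsg.pCore p G).Normal := Cfsg.pCore_normal p G
  have h := S.3 ((CfsgLib.LocalEvenCharP.isPGroup_pCore p G).to_sup_of_normal_left S.2) le_sup_right
  exact le_sup_left.trans h.le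

theorem pCoreOf_others_le (S : Sylow p G) (P : Subgroup G) :
    Cfsg.pCoreOf p (others S P) ≤ (S : Subgroup G) := by
  have h := S.3 ((CfsgLib.LocalEvenCharP.isPGroup_pCoreOf p (others S P)).to_sup_of_normal_left' S.2
    ((sylow_le_others S P).trans (CfsgLib.LocalEvenCharP.le_normalizer_pCoreOf p _))) le_sup_right
  exact le_sup_left.trans h.le

variable {S : Sylow p G} {P : Subgroup G} (hSP : (S : Subgroup G) ≤ P)
  (hiso : ¬ (Cfsg.pCore p ↥(others S P)).map (others S P).subtype ≤ (Cfsg.pCore p ↥P).map P.subtype)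

include hSP hiso

theorem not_le_others : ¬ P ≤ others S P := by
  intro h
  apply hiso
  exact CfsgLib.LocalEvenCharP.le_pCoreOf ((pCoreOf_others_le S P).trans hSP)
    (h.trans (CfsgLib.LocalEvenCharP.le_normalizer_pCoreOf p _))
    (CfsgLib.LocalEvenCharP.isPGroup_pCoreOf p _)

theorem res_not_le_others : ¬ res p P ≤ others S P := fun h =>
  not_le_others hSP hiso ((res_sup_sylow S hSP).ge.trans (sup_le h (sylow_le_others S P)))

omit hSP in
/-- `O_p` of the other members is not inside `O_p(G)`. -/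
theorem pCoreOf_others_not_le (hSP' : (S : Subgroup G) ≤ P) :
    ¬ Cfsg.pCoreOf p (others S P) ≤ Cfsg.pCore p G := fun h =>
  hiso (h.trans (CfsgLib.LocalEvenCharP.le_pCoreOf ((pCore_le_sylow S).trans hSP')
    (le_top.trans (normalizer_eq_top_iff.2 (Cfsg.pCore_normal p G)).ge)
    (CfsgLib.LocalEvenCharP.isPGroup_pCore p G)))

/-- The reduced hypotheses hold in `G / O_p(G)`. -/
theorem ctx [(Cfsg.pCore p G).Normal] :
    Ctx p ((S : Subgroup G).map (QuotientGroup.mk' (Cfsg.pCore p G)))
      ((others S P).map (QuotientGroup.mk' (Cfsg.pCore p G)))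
      ((res p P).map (QuotientGroup.mk' (Cfsg.pCore p G)))
      ((normalClosure (res p P : Set G)).map (QuotientGroup.mk' (Cfsg.pCore p G)))
      ((Cfsg.pCoreOf p (others S P)).map (QuotientGroup.mk' (Cfsg.pCore p G))) := by
  set π := QuotientGroup.mk' (Cfsg.pCore p G)
  have hsur : Function.Surjective π := QuotientGroup.mk'_surjective _
  have hO : Cfsg.pCore p G ≤ others S P := (pCore_le_sylow S).trans (sylow_le_others S P)
  have hker : ∀ Z : Subgroup G, Cfsg.pCore p G ≤ Z → (Z.map π).comap π = Z := fun Z hZ => by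
    rw [comap_map_eq, QuotientGroup.ker_mk', sup_eq_left.2 hZ]
  refine
  { hO := CfsgLib.PCore.pCore_quotient_pCore
    hS := S.2.map π
    hQS := map_mono (pCoreOf_others_le S P)
    hSL := map_mono (sylow_le_others S P)
    hLQ := (map_mono (CfsgLib.LocalEvenCharP.le_normalizer_pCoreOf p _)).trans (le_normalizer_map π)
    hQ1 := fun e => pCoreOf_others_not_le hiso hSP (by
      rwa [Subgroup.map_eq_bot_iff, QuotientGroup.ker_mk'] at e)
    hDY := map_mono le_normalClosure
    hY := normalClosure_normal.map π hsur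
    hmin := fun N hN hD => ?_
    hSD := (map_mono (hSP.trans (le_normalizer_res P))).trans (le_normalizer_map π)
    hDL := fun h => res_not_le_others hSP hiso ?_
    hYL := ?_
    hdic := fun U hU => ?_ }
  · rw [map_le_iff_le_comap] at hD ⊢
    haveI := hN.comap π
    exact normalClosure_le_normal hD
  · rw [map_le_iff_le_comap, hker _ hO] at h
    exact h
  · rw [← Subgroup.map_sup, ← Subgroup.map_top_of_surjective π hsur]
    congr 1
    refine top_le_iff.1 ((sup_others S P).ge.trans (sup_le ?_ le_sup_right))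
    exact (res_sup_sylow S hSP).ge.trans (sup_le_sup le_normalClosure (sylow_le_others S P))
  · have hSU : (S : Subgroup G) ≤ normalizer ((U.comap π : Subgroup G) : Set G) := by
      intro s hs
      have hh := hU (mem_map_of_mem π hs)
      rw [mem_normalizer_iff] at hh ⊢
      intro x
      simpa [mem_comap] using hh (π x)
    obtain h | h := le_others_or S P (le_sup_right : (S : Subgroup G) ≤ U.comap π ⊔ (S : Subgroup G))
    · exact Or.inl (map_le_iff_le_comap.2 (res_le_of_le_sup S.2 hSU h))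
    · exact Or.inr ((map_comap_eq_self_of_surjective hsur U).ge.trans (map_mono (le_sup_left.trans h)))

end CfsgLib.LocalEvenSix.IsolatedMin
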