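import Cfsg.Agent.Lib.LocalEvenSix.QdControl

/-!
# Fusion control from the normalizers of the subgroups above `Z(S)`
-/

set_option autoImplicit false
set_option linter.unusedSectionVars false
set_option linter.style.haveILetI false

namespace CfsgLib.LocalEvenSix.LocallyFree

open Subgroup CfsgLib CfsgLib.PLocal CfsgLib.LocalEvenSix.ZJClosed CfsgLib.LocalEvenSix.ControlsZJ
  CfsgLib.LocalEvenSix.QdControl
open scoped commutatorElement

universe u

variable {G : Type u} [Group G] [Finite G] {p : ℕ} [hp : Fact p.Prime]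

/-- Control inside a subgroup meeting `P` in a Sylow subgroup. -/
theorem rel_local' {e : ℕ} (P : Sylow p G)
    {D : Subgroup G} (hD : Cfsg.IsStronglyClosed D (P : Subgroup G)) (L : Subgroup G) (IH : Ctrl e p L)
    (hPL : ¬ p ∣ (P : Subgroup G).relIndex L) {R : Subgroup G}
    (hR : R ≤ (P : Subgroup G) ⊓ L) {y : G} (hy : y ∈ L)
    (hyP : R.map (MulAut.conj y : G →* G) ≤ (P : Subgroup G)) :
    Rel (L ⊓ normalizer (zj e (D ⊓ L) : Set G)) R y := by
  let PL : Sylow p L := (P.isPGroup'.comap_subtype (K := L)).toSylow hPL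
  have hDL : Cfsg.IsStronglyClosed (D.subgroupOf L) (PL : Subgroup L) :=
    ⟨Subgroup.comap_mono hD.1, fun z hz l hl => hD.2 z hz l hl⟩
  obtain ⟨k, hk, hk'⟩ := IH PL (D.subgroupOf L) hDL (R.subgroupOf L)
    (Subgroup.comap_mono (hR.trans inf_le_left)) ⟨y, hy⟩ (by
      rintro _ ⟨r, hr, rfl⟩
      exact hyP ⟨(r : G), hr, rfl⟩)
  refine ⟨(k : G), ⟨k.2, ?_⟩, fun r hr => congrArg Subtype.val (hk' ⟨r, (hR hr).2⟩ hr)⟩
  have h1 : zj e (D ⊓ L) = (zj e (D.subgroupOf L)).map L.subtype := by
    rw [← zj_map L.subtype_injective, subgroupOf_map_subtype]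
  rw [h1]
  exact le_normalizer_map L.subtype ⟨k, hk, rfl⟩

/-- A family of subgroups with controlled normalizers, closed under the passage to `Z(J)`. -/
theorem rel_normalizer {e : ℕ} (P : Sylow p G) {D : Subgroup G}
    (hD : Cfsg.IsStronglyClosed D (P : Subgroup G)) (Good : Subgroup G → Prop)
    (hloc : ∀ Y : Subgroup G, Y ≤ (P : Subgroup G) → Good Y → Ctrl e p (normalizer (Y : Set G)))
    (hnext : ∀ Y : Subgroup G, Y ≤ (P : Subgroup G) → Good Y →
      Good (zj e (D ⊓ normalizer (Y : Set G))))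
    (hconj : ∀ (a : G) (Y : Subgroup G), Good Y → Good (Y.map (MulAut.conj a : G →* G)))
    {R : Subgroup G} (hRP : R ≤ (P : Subgroup G)) (hRg : Good R) (hRf : Full P R)
    (big : ∀ U : Subgroup G, U ≤ (P : Subgroup G) → Nat.card R < Nat.card U → ∀ y : G,
      U.map (MulAut.conj y : G →* G) ≤ (P : Subgroup G) → Rel (normalizer (zj e D : Set G)) U y)
    {y : G} (hy : y ∈ normalizer (R : Set G)) : Rel (normalizer (zj e D : Set G)) R y := by
  set M := normalizer (zj e D : Set G) with hM
  have hPD : (P : Subgroup G) ≤ normalizer (D : Set G) := le_normalizer_of_stronglyClosed hD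
  suffices inner : ∀ j (Y : Subgroup G), Y ≤ (P : Subgroup G) → Good Y → Full P Y →
      Nat.card (P : Subgroup G) - Nat.card ((P : Subgroup G) ⊓ normalizer (Y : Set G) : Subgroup G) = j →
      ∀ (R' : Subgroup G) (y : G), Nat.card R' = Nat.card R →
        R' ≤ (P : Subgroup G) ⊓ normalizer (Y : Set G) → y ∈ normalizer (Y : Set G) →
        R'.map (MulAut.conj y : G →* G) ≤ (P : Subgroup G) → Rel M R' y by
    refine inner _ R hRP hRg hRf rfl R y rfl (le_inf hRP le_normalizer) hy ?_
    rwa [(mem_normalizer_iff_map_conj_eq.1 hy : R.map (MulAut.conj y : G →* G) = R)]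
  intro j
  induction j using Nat.strong_induction_on with
  | _ j IH2 =>
    intro Y hYP hYg hYf hj R' y hR'c hR'T hy hyP
    set L := normalizer (Y : Set G) with hL
    set T := (P : Subgroup G) ⊓ L with hT
    set Y' := zj e (D ⊓ L) with hY'
    obtain ⟨k', hk', hagree⟩ := rel_local' P hD L (hloc Y hYP hYg) hYf hR'T hy hyP
    refine Rel.congr (y := k') ?_ hagree
    have hk'R : R'.map (MulAut.conj k' : G →* G) ≤ (P : Subgroup G) := by
      rintro _ ⟨r, hr, rfl⟩
      exact hyP ⟨r, hr, hagree r hr⟩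
    have hk'N : k' ∈ normalizer (Y' : Set G) := hk'.2
    by_cases hTP : (P : Subgroup G) ≤ L
    · refine Rel.of_mem ?_
      have h1 := hk'N
      rwa [hY', inf_eq_left.2 (hD.1.trans hTP)] at h1
    have hTlt : Nat.card T < Nat.card ((P : Subgroup G) ⊓ normalizer (T : Set G) : Subgroup G) :=
      SylowControl.card_lt_inf_normalizer P inf_le_left fun h => hTP (h ▸ inf_le_right)
    have hNT : (P : Subgroup G) ⊓ normalizer (T : Set G) ≤ (P : Subgroup G) ⊓ normalizer (Y' : Set G) :=
      le_inf inf_le_left fun t ht => normalizer_le_normalizer_zj e _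
        (normalizer_inf_le_of_stronglyClosed hD (K := L) ht.2)
    have hY'P : Y' ≤ (P : Subgroup G) := (zj_le e _).trans (inf_le_left.trans hD.1)
    obtain ⟨a, haf, haT, haY⟩ := exists_full P Y' hY'P
    set Y1 := Y'.map (MulAut.conj a : G →* G) with hY1
    set T' := (P : Subgroup G) ⊓ normalizer (Y' : Set G) with hT'
    have hRT' : R' ≤ T' := hR'T.trans ((le_inf inf_le_left le_normalizer).trans hNT)
    have hcardT : Nat.card R < Nat.card T' := by
      have h1 := Subgroup.card_le_of_le hR'T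
      have h2 := Subgroup.card_le_of_le hNT
      omega
    have hrelT : Rel M T' a := big T' inf_le_left hcardT a haT
    have hY1n : normalizer (Y1 : Set G) = (normalizer (Y' : Set G)).map (MulAut.conj a : G →* G) :=
      (Subgroup.map_equiv_normalizer_eq Y' (MulAut.conj a)).symm
    have hT1 : T'.map (MulAut.conj a : G →* G) ≤ (P : Subgroup G) ⊓ normalizer (Y1 : Set G) :=
      le_inf haT (hY1n ▸ Subgroup.map_mono inf_le_right)
    have hlt : Nat.card (P : Subgroup G) - Nat.card ((P : Subgroup G) ⊓ normalizer (Y1 : Set G) : Subgroup G) < j := by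
      have h1 := Subgroup.card_le_of_le hT1
      rw [card_map_of_injective (MulAut.conj a).injective] at h1
      have h2 := Subgroup.card_le_of_le hNT
      have h3 : Nat.card ((P : Subgroup G) ⊓ normalizer (Y1 : Set G) : Subgroup G) ≤ Nat.card (P : Subgroup G) :=
        Subgroup.card_le_of_le inf_le_left
      omega
    have hR1 : R'.map (MulAut.conj a : G →* G) ≤ (P : Subgroup G) ⊓ normalizer (Y1 : Set G) :=
      (Subgroup.map_mono hRT').trans hT1
    have hk'T' : R'.map (MulAut.conj k' : G →* G) ≤ T' := le_inf hk'R (by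
      rintro _ ⟨r, hr, rfl⟩
      exact mul_mem (mul_mem (hk'N) (hRT' hr).2) (inv_mem (hk'N)))
    have hy1 : a * k' * a⁻¹ ∈ normalizer (Y1 : Set G) := hY1n ▸ ⟨k', hk'N, rfl⟩
    have hrel1 : Rel M (R'.map (MulAut.conj a : G →* G)) (a * k' * a⁻¹) := by
      refine IH2 _ hlt Y1 haY ?_ haf rfl _ _
        ((card_map_of_injective (MulAut.conj a).injective).trans hR'c) hR1 hy1 ?_
      · exact hconj _ _ (hnext Y hYP hYg)
      · rintro _ ⟨_, ⟨r, hr, rfl⟩, rfl⟩
        have := haT ⟨_, hk'T' ⟨r, hr, rfl⟩, rfl⟩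
        simpa [mul_assoc] using this
    have h3 : Rel M R' ((a * k' * a⁻¹) * a) := (hrelT.mono hRT').mul hrel1
    have h4 : Rel M ((R'.map (MulAut.conj k' : G →* G)).map (MulAut.conj a : G →* G)) a⁻¹ :=
      (hrelT.mono hk'T').inv
    have h5 : Rel M R' (a⁻¹ * ((a * k' * a⁻¹) * a)) := h3.mul (by
      rw [Subgroup.map_map] at h4
      convert h4 using 2
      ext z
      simp [mul_assoc])
    simpa [mul_assoc] using h5

/-- `Qd(p)` has the section `SL(2, p)`. -/
theorem not_involves_qd_of_no_sl2 (N : Subgroup G)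
    (h : ¬ ∃ (H K : Subgroup G) (_ : (K.subgroupOf H).Normal), H ≤ N ∧
      Nonempty ((H ⧸ K.subgroupOf H) ≃* Matrix.SpecialLinearGroup (Fin 2) (ZMod p))) :
    ¬ Cfsg.Involves ↥(Cfsg.qd p) N := by
  intro hi
  obtain ⟨H, f, hf⟩ := LocalEven.Involved.exists_hom_of_involves hi
  let g : ↥H →* Matrix.SpecialLinearGroup (Fin 2) (ZMod p) :=
    (LocalEven.Qd.block (F := ZMod p)).comp f
  exact h (PLocal.exists_section_of_surjective (f := g) (LocalEven.Qd.block_surjective.comp hf))

/-- Elements central in `T` lie in `Z(J(T))`. -/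
theorem mem_zj_zero_of_central {T : Subgroup G} {z : G} (hz : z ∈ T)
    (hc : ∀ t ∈ T, t * z = z * t) : z ∈ zj 0 T := by
  rw [zj_eq_sInf, mem_sInf]
  intro A hA
  exact hA.mem_of_centralizes hz (pow_zero z) fun a ha => hc a (hA.le ha)

/-- Normalizers of the subgroups above `Z(S)` decide control by `N(Z(J(S)))`. -/
theorem rel_zj_of_local (hp2 : p ≠ 2) (P : Sylow p G)
    (hfree : ∀ Y : Subgroup G, (P : Subgroup G) ⊓ centralizer ((P : Subgroup G) : Set G) ≤ Y →
      Y ≤ (P : Subgroup G) → ¬ Cfsg.Involves ↥(Cfsg.qd p) (normalizer (Y : Set G))) :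
    ∀ R : Subgroup G, R ≤ (P : Subgroup G) → ∀ x : G,
      R.map (MulAut.conj x : G →* G) ≤ (P : Subgroup G) →
        Rel (normalizer (zj 0 (P : Subgroup G) : Set G)) R x := by
  set Z := (P : Subgroup G) ⊓ centralizer ((P : Subgroup G) : Set G) with hZ
  have hPP : Cfsg.IsStronglyClosed (P : Subgroup G) (P : Subgroup G) := ⟨le_rfl, fun _ _ _ h => h⟩
  refine rel_of_step P hPP fun R hRP hR0 hRf big x hx => ?_
  set L := normalizer (R : Set G) with hL
  set C := centralizer (R : Set G) with hC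
  haveI : (C.subgroupOf L).Normal := ⟨fun c hc g => Techniques.centralizer_conj_mem g.2 hc⟩
  let PL : Sylow p L := (P.isPGroup'.comap_subtype (K := L)).toSylow hRf
  obtain ⟨c, hc, n, hn, hcn⟩ := Techniques.exists_eq_mul_normalizer_inf PL (C.subgroupOf L) ⟨x, hx⟩
  have hnR : R.map (MulAut.conj (n : G) : G →* G) = R := mem_normalizer_iff_map_conj_eq.1 n.2
  refine Rel.congr (y := (n : G)) ?_ fun r hr => ?_
  swap
  · have h1 : (n : G) * r * (n : G)⁻¹ ∈ R := (mem_normalizer_iff.1 n.2 r).1 hr
    have h2 : (c : G) * ((n : G) * r * (n : G)⁻¹) * (c : G)⁻¹ = (n : G) * r * (n : G)⁻¹ := by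
      rw [← mem_centralizer_iff.1 (show (c : G) ∈ C from hc) _ h1, mul_inv_cancel_right]
    rw [← h2, show x = (c : G) * n from (congrArg Subtype.val hcn).symm]
    group
  set U := R ⊔ ((P : Subgroup G) ⊓ C) with hU
  by_cases hle : (P : Subgroup G) ⊓ C ≤ R
  · have hZR : Z ≤ R := (inf_le_inf_left _ (centralizer_le (fun r hr => hRP hr))).trans hle
    refine rel_normalizer P hPP (fun Y => ¬ Cfsg.Involves ↥(Cfsg.qd p) (normalizer (Y : Set G)))
      (fun Y _ hY => ctrl_of_not_involves hp2 (Or.inl rfl) hY) ?_ ?_ hRP (hfree R hZR hRP) hRf big n.2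
    · intro Y hY _
      refine hfree _ (fun z hz => mem_zj_zero_of_central ⟨hz.1, ?_⟩ fun t ht =>
        mem_centralizer_iff.1 hz.2 t ht.1) ((zj_le _ _).trans inf_le_left)
      refine mem_normalizer_iff.2 fun v => ⟨fun hv => ?_, fun hv => ?_⟩
      · rw [← mem_centralizer_iff.1 hz.2 v (hY hv), mul_inv_cancel_right]
        exact hv
      · have hz' : z⁻¹ ∈ centralizer ((P : Subgroup G) : Set G) := inv_mem hz.2
        have h1 := mem_centralizer_iff.1 hz' _ (hY hv)
        have h2 : v = z⁻¹ * (z * v * z⁻¹) * z := by group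
        rw [h2, ← h1, inv_mul_cancel_right]
        exact hv
    · intro a Y hY hi
      refine hY ?_
      let e := (normalizer (Y : Set G)).equivMapOfInjective (MulAut.conj a : G →* G)
        (MulAut.conj a).injective
      have he : normalizer ((Y.map (MulAut.conj a : G →* G) : Subgroup G) : Set G) =
          (normalizer (Y : Set G)).map (MulAut.conj a : G →* G) :=
        (Subgroup.map_equiv_normalizer_eq Y (MulAut.conj a)).symm
      exact LocalEven.Involved.involves_of_surjective
        (e.trans (MulEquiv.subgroupCongr he.symm)).toMonoidHom (MulEquiv.surjective _) hi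
  · have hUP : U ≤ (P : Subgroup G) := sup_le hRP inf_le_left
    have hRU : R < U := lt_of_le_of_ne le_sup_left fun h => hle (le_sup_right.trans h.ge)
    refine (big U hUP (lt_of_le_of_ne (Subgroup.card_le_of_le hRU.le) fun h =>
      hRU.ne (Subgroup.eq_of_le_of_card_ge hRU.le h.ge)) n ?_).mono hRU.le
    rw [hU, Subgroup.map_sup, hnR]
    refine sup_le hRP ?_
    rintro _ ⟨v, hv, rfl⟩
    have hvL : v ∈ L := by
      refine mem_normalizer_iff.2 fun w => ⟨fun hw => ?_, fun hw => ?_⟩
      · rw [← mem_centralizer_iff.1 hv.2 w hw, mul_inv_cancel_right]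
        exact hw
      · have h1 := mem_centralizer_iff.1 (inv_mem hv.2 : v⁻¹ ∈ C) _ hw
        rw [show w = v⁻¹ * (v * w * v⁻¹) * v by group, ← h1, inv_mul_cancel_right]
        exact hw
    exact ((mem_normalizer_iff.1 hn ⟨v, hvL⟩).1 hv).1

end CfsgLib.LocalEvenSix.LocallyFree
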