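import Cfsg.Agent.Lib.Techniques.KInfBasic
import Cfsg.Agent.Lib.Structure80.Basic

/-!
# The conjugate pair order condition on an irreducible normal subgroup

If no conjugate pair `⟨x, gxg⁻¹⟩` (`x` a `p`-element, `g` a `q`-element) has order divisible by `q²`, then a
self-centralizing normal abelian subgroup of a complement acts by equal weights, so the complement is abelian.
-/

set_option autoImplicit false

namespace CfsgLib.LocalEvenSix.PairOrder

open Subgroup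

variable {G : Type*} [Group G]

/-- The hypothesis on conjugate pairs. -/
def PairCond (G : Type*) [Group G] : Prop :=
  ∀ (p q : ℕ), p.Prime → q.Prime → p ≠ q → ∀ (x g : G), (∃ a : ℕ, orderOf x = p ^ a) →
    (∃ b : ℕ, orderOf g = q ^ b) → ¬ q ^ 2 ∣ Nat.card ↥(zpowers x ⊔ zpowers (g * x * g⁻¹))

theorem le_of_forall_primePow [Finite G] {H D : Subgroup G}
    (h : ∀ q : ℕ, q.Prime → ∀ y ∈ H, ∀ k : ℕ, orderOf y = q ^ k → y ∈ D) : H ≤ D := by
  by_contra hn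
  obtain ⟨q, hq, y, hy, hyD, k, hk⟩ := Structure80.exists_primePow_mem_not_mem hn
  obtain ⟨j, -, hj⟩ := (Nat.dvd_prime_pow hq).1 (orderOf_dvd_of_pow_eq_one hk)
  exact hyD (h q hq y hy j hj)

theorem mem_zpowers_of_pow [Finite G] {w u : G} {r : ℕ} (hr : r.Prime) (hw : w ^ r = 1) (hw1 : w ≠ 1)
    (hu : u ∈ zpowers w) (hu1 : u ≠ 1) : w ∈ zpowers u := by
  haveI := Fact.mk hr
  have ho : orderOf w = r := orderOf_eq_prime hw hw1
  obtain ⟨i, rfl⟩ := hu
  refine (eq_of_le_of_card_ge (K := zpowers w) (zpowers_le.2 (zpow_mem (mem_zpowers w) i)) ?_).ge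
    (mem_zpowers w)
  rw [Nat.card_zpowers, Nat.card_zpowers, ho]
  refine le_of_eq (Eq.symm ?_)
  have h1 : orderOf (w ^ i) ∣ r := by
    refine orderOf_dvd_of_pow_eq_one ?_
    rw [← zpow_natCast, ← zpow_mul, mul_comm, zpow_mul, zpow_natCast, hw, one_zpow]
  exact (hr.eq_one_or_self_of_dvd _ h1).resolve_left fun h => hu1 (orderOf_eq_one_iff.1 h)

/-- Two elements of the same prime order `r`, commuting, in a group of order not divisible by `r²`. -/
theorem mem_zpowers_of_not_sq_dvd [Finite G] {H : Subgroup G} {r : ℕ} (hr : r.Prime)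
    (hH : ¬ r ^ 2 ∣ Nat.card H) {A : Subgroup G} (hA : IsPGroup r A) {c d : G} (hcA : c ∈ A)
    (hdA : d ∈ A) (hcH : c ∈ H) (hdH : d ∈ H) (hc1 : c ≠ 1) : c ^ r = 1 ∧ d ∈ zpowers c := by
  haveI := Fact.mk hr
  obtain ⟨n, hn⟩ := (hA.to_le (inf_le_left : A ⊓ H ≤ A)).exists_card_eq
  have hn1 : n ≤ 1 := by
    by_contra hlt
    exact hH ((pow_dvd_pow r (by omega)).trans (hn ▸ card_dvd_of_le inf_le_right))
  have hcard : Nat.card (A ⊓ H : Subgroup G) ∣ r := by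
    rw [hn]; exact (pow_dvd_pow r hn1).trans (by rw [pow_one])
  have hdvd : orderOf c ∣ r :=
    (orderOf_dvd_natCard _ (show c ∈ A ⊓ H from ⟨hcA, hcH⟩)).trans hcard
  refine ⟨orderOf_dvd_iff_pow_eq_one.1 hdvd, ?_⟩
  have hle : zpowers c = A ⊓ H := by
    refine eq_of_le_of_card_ge (zpowers_le.2 ⟨hcA, hcH⟩) (le_trans (Nat.le_of_dvd hr.pos hcard) ?_)
    rw [Nat.card_zpowers,
      (hr.eq_one_or_self_of_dvd _ hdvd).resolve_left fun h => hc1 (orderOf_eq_one_iff.1 h)]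
  rw [hle]
  exact ⟨hdA, hdH⟩

/-- `v ↦ x v x⁻¹ v⁻¹` on an abelian normal subgroup. -/
def disp (N : Subgroup G) [N.Normal] (hab : ∀ a ∈ N, ∀ b ∈ N, a * b = b * a) (x : G) : N →* G where
  toFun v := x * v * x⁻¹ * (v : G)⁻¹
  map_one' := by simp
  map_mul' v w := by
    have h1 : (v : G)⁻¹ * (x * w * x⁻¹ * (w : G)⁻¹) = (x * w * x⁻¹ * (w : G)⁻¹) * (v : G)⁻¹ :=
      hab _ (inv_mem v.2) _ (mul_mem (Normal.conj_mem ‹_› _ w.2 x) (inv_mem w.2))
    rw [mul_assoc (x * v * x⁻¹), h1, Subgroup.coe_mul]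
    group

variable {N : Subgroup G} [N.Normal] (hab : ∀ a ∈ N, ∀ b ∈ N, a * b = b * a)

include hab in
theorem disp_mem (x v : G) (hv : v ∈ N) : x * v * x⁻¹ * v⁻¹ ∈ (disp N hab x).range :=
  ⟨⟨v, hv⟩, rfl⟩

include hab in
theorem disp_range_le (x : G) : (disp N hab x).range ≤ N := by
  rintro _ ⟨v, rfl⟩
  exact mul_mem (Normal.conj_mem ‹_› _ v.2 x) (inv_mem v.2)

variable [Finite G] (hG : PairCond G) {q : ℕ} (hq : q.Prime) (hexp : ∀ a ∈ N, a ^ q = 1)

include hab hG hq hexp in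
/-- An element of prime power order prime to `q` is a scalar on what it moves. -/
theorem exists_scalar {p : ℕ} (hp : p.Prime) (hpq : p ≠ q) {x : G} (hx : ∃ a : ℕ, orderOf x = p ^ a) :
    ∃ l : ℤ, ∀ w ∈ (disp N hab x).range, x * w * x⁻¹ = w ^ l := by
  haveI := Fact.mk hq
  have hNq : IsPGroup q N := fun a => ⟨1, Subtype.ext (by simpa using hexp a a.2)⟩
  have key : ∀ w ∈ (disp N hab x).range, ∃ i : ℤ, x * w * x⁻¹ = w ^ i := by
    rintro _ ⟨v, rfl⟩
    set w := disp N hab x v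
    have hwN : w ∈ N := disp_range_le hab x ⟨v, rfl⟩
    rcases eq_or_ne w 1 with hw1 | hw1
    · exact ⟨0, by simp [hw1]⟩
    have hvo : ∃ b : ℕ, orderOf (v : G) = q ^ b := by
      obtain ⟨j, -, hj⟩ := (Nat.dvd_prime_pow hq).1
        (orderOf_dvd_of_pow_eq_one (x := (v : G)) (n := q ^ 1) (by rw [pow_one]; exact hexp _ v.2))
      exact ⟨j, hj⟩
    set H := zpowers x ⊔ zpowers ((v : G) * x * (v : G)⁻¹)
    have hxH : x ∈ H := mem_sup_left (mem_zpowers x)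
    have hwH : w ∈ H := by
      have h1 := mul_mem hxH (inv_mem (mem_sup_right (mem_zpowers ((v : G) * x * (v : G)⁻¹)) : _ ∈ H))
      convert h1 using 1
      show x * v * x⁻¹ * (v : G)⁻¹ = _
      group
    obtain ⟨i, hi⟩ := (mem_zpowers_of_not_sq_dvd hq (hG p q hp hq hpq x v hx hvo) hNq hwN
      (Normal.conj_mem ‹_› w hwN x) hwH (mul_mem (mul_mem hxH hwH) (inv_mem hxH)) hw1).2
    exact ⟨i, hi.symm⟩
  by_cases hb : ∀ w ∈ (disp N hab x).range, w = 1
  · exact ⟨1, fun w hw => by simp [hb w hw]⟩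
  push Not at hb
  obtain ⟨w₀, hw₀, hw₀1⟩ := hb
  obtain ⟨l, hl⟩ := key w₀ hw₀
  refine ⟨l, fun w hw => ?_⟩
  have hwN := disp_range_le hab x hw
  have hw₀N := disp_range_le hab x hw₀
  by_cases hmem : w ∈ zpowers w₀
  · obtain ⟨i, rfl⟩ := hmem
    rw [← conj_zpow, hl, ← zpow_mul, ← zpow_mul, mul_comm]
  obtain ⟨i, hi⟩ := key w hw
  obtain ⟨j, hj⟩ := key _ (mul_mem hw hw₀)
  have hc : Commute w w₀ := hab w hwN w₀ hw₀N
  have h1 : w ^ i * w₀ ^ l = w ^ j * w₀ ^ j := by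
    rw [← hc.mul_zpow, ← hj, ← hi, ← hl]; group
  have h2 : w ^ (i - j) = w₀ ^ (j - l) := by
    rw [zpow_sub, zpow_sub, mul_inv_eq_iff_eq_mul, mul_assoc,
      ((hc.zpow_zpow j l).symm.inv_left).eq, ← mul_assoc]
    rw [eq_mul_inv_iff_mul_eq, h1, (hc.zpow_zpow j j).eq]
  have h3 : w ^ (i - j) = 1 := by
    by_contra h3
    refine hmem (zpowers_le.2 ?_ (mem_zpowers_of_pow hq (hexp w hwN) (fun h => hmem (h ▸ one_mem _))
      ⟨_, rfl⟩ h3))
    show w ^ (i - j) ∈ zpowers w₀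
    rw [h2]; exact zpow_mem (mem_zpowers w₀) _
  rw [hi, zpow_eq_zpow_iff_modEq, Int.modEq_iff_dvd]
  have h4 : w₀ ^ (j - l) = 1 := h2 ▸ h3
  rw [← orderOf_dvd_iff_zpow_eq_one] at h3 h4
  have ho : ∀ u : G, u ^ q = 1 → u ≠ 1 → orderOf u = q := fun u hu hu1 => orderOf_eq_prime hu hu1
  rw [ho _ (hexp w hwN) (fun h => hmem (h ▸ one_mem _))] at h3 ⊢
  rw [ho _ (hexp w₀ hw₀N) hw₀1] at h4
  have h5 := dvd_neg.2 (dvd_add h3 h4)
  rwa [show -(i - j + (j - l)) = l - i by ring] at h5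

include hab hG hq hexp in
/-- An `s`-element normalizing an abelian `p'`-subgroup centralizes its `r`-elements, `r ≠ s`. -/
theorem commute_of_ne {M A : Subgroup G} (hAM : A ≤ M) (hA : ∀ a ∈ A, ∀ b ∈ A, a * b = b * a)
    (hMA : ∀ m ∈ M, ∀ a ∈ A, m * a * m⁻¹ ∈ A) (hfaith : ∀ m ∈ M, (∀ v ∈ N, m * v = v * m) → m = 1)
    {r s : ℕ} (hr : r.Prime) (hs : s.Prime) (hrs : r ≠ s) (hrq : r ≠ q) {a y : G} (ha : a ∈ A)
    (hao : ∃ i : ℕ, orderOf a = r ^ i) (hy : y ∈ M) (hyo : ∃ i : ℕ, orderOf y = s ^ i) :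
    Commute y a := by
  haveI := Fact.mk hr
  haveI := Fact.mk hq
  set c := y * a * y⁻¹ * a⁻¹ with hc
  rcases eq_or_ne c 1 with hc1 | hc1
  · exact mul_inv_eq_iff_eq_mul.1 (mul_inv_eq_one.1 hc1)
  exfalso
  have hcA : c ∈ A := mul_mem (hMA y hy a ha) (inv_mem ha)
  set c' := y * c * y⁻¹ with hc'
  have hc'A : c' ∈ A := hMA y hy c hcA
  have hca : Commute c a := hA c hcA a ha
  obtain ⟨k, hk⟩ := hao
  -- the `r`-part of `A`
  let Ar : Subgroup G :=
    { carrier := {b | b ∈ A ∧ b ^ r ^ k = 1}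
      one_mem' := ⟨one_mem A, one_pow _⟩
      mul_mem' := fun {b d} hb hd => ⟨mul_mem hb.1 hd.1, by
        rw [(show Commute b d from hA b hb.1 d hd.1).mul_pow, hb.2, hd.2, one_mul]⟩
      inv_mem' := fun {b} hb => ⟨inv_mem hb.1, by rw [inv_pow, hb.2, inv_one]⟩ }
  have hAr : IsPGroup r Ar := fun b => ⟨k, Subtype.ext (by simpa using b.2.2)⟩
  have hak : a ^ r ^ k = 1 := hk ▸ pow_orderOf_eq_one a
  have hconj : ∀ b ∈ Ar, y * b * y⁻¹ ∈ Ar := fun b hb =>
    ⟨hMA y hy b hb.1, by rw [conj_pow, hb.2, mul_one, mul_inv_cancel]⟩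
  have hcR : c ∈ Ar := mul_mem (hconj a ⟨ha, hak⟩) (inv_mem (⟨ha, hak⟩ : a ∈ Ar))
  set H := zpowers y ⊔ zpowers (a * y * a⁻¹) with hH
  have hyH : y ∈ H := mem_sup_left (mem_zpowers y)
  have hcH : c ∈ H := by
    have h1 := mul_mem hyH (inv_mem (mem_sup_right (mem_zpowers (a * y * a⁻¹)) : _ ∈ H))
    convert h1 using 1
    rw [hc]; group
  obtain ⟨hcr, i, hi⟩ := mem_zpowers_of_not_sq_dvd hr
    (hG s r hs hr hrs.symm y a hyo ⟨k, hk⟩) hAr hcR (hconj c hcR) hcH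
    (mul_mem (mul_mem hyH hcH) (inv_mem hyH)) hc1
  have hi' : c ^ i = c' := hi
  obtain ⟨l, hl⟩ := exists_scalar hab hG hq hexp hr hrq (x := c)
    ⟨1, by rw [pow_one]; exact orderOf_eq_prime hcr hc1⟩
  set W := (disp N hab c).range with hW
  have hiter : ∀ j : ℕ, ∀ w ∈ W, c ^ j * w * (c ^ j)⁻¹ = w ^ (l ^ j) := by
    intro j w hw
    induction j with
    | zero => simp
    | succ j ih =>
      rw [pow_succ', pow_succ l, mul_comm (l ^ j), zpow_mul, ← hl w hw, conj_zpow, ← ih]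
      group
  have hdisp : ∀ j : ℕ, ∀ v ∈ N, c ^ j * v * (c ^ j)⁻¹ * v⁻¹ ∈ W := by
    intro j v hv
    induction j with
    | zero => simp
    | succ j ih =>
      have h1 := mul_mem (disp_mem hab c _ (Normal.conj_mem ‹_› v hv (c ^ j))) ih
      convert h1 using 1
      rw [pow_succ']; group
  -- `c` moves something
  obtain ⟨v, hv, hvc⟩ : ∃ v ∈ N, c * v * c⁻¹ * v⁻¹ ≠ 1 := by
    by_contra h
    push Not at h
    exact hc1 (hfaith c (hAM hcA) fun v hv =>
      mul_inv_eq_iff_eq_mul.1 (mul_inv_eq_one.1 (h v hv)))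
  set w := c * v * c⁻¹ * v⁻¹ with hw
  have hwW : w ∈ W := disp_mem hab c v hv
  have hwN := disp_range_le hab c hwW
  obtain ⟨m, hm⟩ : ∃ m : ℕ, c' = c ^ m := by
    haveI : Finite (zpowers c) := inferInstance
    obtain ⟨m, hm⟩ := (mem_powers_iff_mem_zpowers.2 ⟨i, hi'⟩ : c' ∈ Submonoid.powers c)
    exact ⟨m, hm.symm⟩
  set u := y * w * y⁻¹ with hu
  have huW : u ∈ W := by
    convert hdisp m _ (Normal.conj_mem ‹_› v hv y) using 1
    rw [← hm, hu, hw, hc']; group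
  have h1 : u ^ l = u ^ (l ^ m) := by
    rw [← hiter m u huW, ← hm, hu, conj_zpow, ← hl w hwW, hc']; group
  have hu1 : u ≠ 1 := fun h => hvc (by simpa [hu] using h)
  have hlm : ∀ z ∈ W, z ^ l = z ^ (l ^ m) := by
    intro z hz
    rw [zpow_eq_zpow_iff_modEq] at h1 ⊢
    rw [orderOf_eq_prime (hexp u (disp_range_le hab c huW)) hu1] at h1
    exact h1.of_dvd (Int.natCast_dvd_natCast.2
      (orderOf_dvd_of_pow_eq_one (hexp z (disp_range_le hab c hz))))
  have hne : c' ≠ c := by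
    intro heq
    have hyc : Commute y c := mul_inv_eq_iff_eq_mul.1 heq
    have hpow : ∀ j : ℕ, y ^ j * a * (y ^ j)⁻¹ = c ^ j * a := by
      intro j
      induction j with
      | zero => simp
      | succ j ih =>
        calc y ^ (j + 1) * a * (y ^ (j + 1))⁻¹ = y * (y ^ j * a * (y ^ j)⁻¹) * y⁻¹ := by
              rw [pow_succ']; group
          _ = y * c ^ j * a * y⁻¹ := by rw [ih]; group
          _ = c ^ j * (y * a * y⁻¹) := by rw [(hyc.pow_right j).eq]; group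
          _ = c ^ j * (c * a) := by rw [hc]; group
          _ = c ^ (j + 1) * a := by rw [pow_succ]; group
    obtain ⟨b, hb⟩ := hyo
    have h2 := hpow (s ^ b)
    rw [← hb, pow_orderOf_eq_one, inv_one, one_mul, mul_one] at h2
    have h3 : orderOf c ∣ s ^ b := orderOf_dvd_of_pow_eq_one (by
      rw [← hb]; exact mul_eq_right.1 h2.symm)
    rw [orderOf_eq_prime hcr hc1] at h3
    exact hrs ((Nat.prime_dvd_prime_iff_eq hr hs).1 (hr.dvd_of_dvd_pow h3))
  -- `c⁻¹c'` fixes `W`, hence so does `c`, hence `c` fixes `N`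
  have hfix : c * w = w * c := by
    have h3 : c' * w * c'⁻¹ = c * w * c⁻¹ := by rw [hm, hiter m w hwW, ← hlm w hwW, hl w hwW]
    have h4 : c⁻¹ * c' * w = w * (c⁻¹ * c') := by
      calc c⁻¹ * c' * w = c⁻¹ * (c' * w * c'⁻¹) * c' := by group
        _ = w * (c⁻¹ * c') := by rw [h3]; group
    have hmem : c ∈ zpowers (c⁻¹ * c') := mem_zpowers_of_pow hr hcr hc1
      (mul_mem (inv_mem (mem_zpowers c)) ⟨i, hi'⟩) (fun h => hne (inv_mul_eq_one.1 h).symm)
    obtain ⟨e, he⟩ := hmem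
    have h5 := (Commute.zpow_left (show Commute (c⁻¹ * c') w from h4) e).eq
    rwa [show (c⁻¹ * c') ^ e = c from he] at h5
  have hcv : ∀ j : ℕ, c ^ j * v * (c ^ j)⁻¹ = w ^ j * v := by
    intro j
    induction j with
    | zero => simp
    | succ j ih =>
      calc c ^ (j + 1) * v * (c ^ (j + 1))⁻¹ = c * (c ^ j * v * (c ^ j)⁻¹) * c⁻¹ := by
            rw [pow_succ']; group
        _ = c * w ^ j * v * c⁻¹ := by rw [ih]; group
        _ = w ^ j * (c * v * c⁻¹) := by rw [(Commute.pow_right (show Commute c w from hfix) j).eq]; group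
        _ = w ^ j * (w * v) := by rw [hw]; group
        _ = w ^ (j + 1) * v := by rw [pow_succ]; group
  have h6 := hcv r
  rw [hcr, inv_one, one_mul, mul_one] at h6
  have h7 : w ^ r = 1 := mul_eq_right.1 h6.symm
  exact hvc (orderOf_eq_one_iff.1 (Nat.eq_one_of_dvd_coprimes ((Nat.coprime_primes hr hq).2 hrq)
    (orderOf_dvd_of_pow_eq_one h7) (orderOf_dvd_of_pow_eq_one (hexp w hwN))))

include hab hG hq hexp in
/-- The conclusion: a self-centralizing normal abelian `q'`-subgroup is everything, and some cyclic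
subgroup is invariant. -/
theorem exists_invariant_zpowers {M A : Subgroup G} (hN : N ≠ ⊥) (hAM : A ≤ M)
    (hA : ∀ a ∈ A, ∀ b ∈ A, a * b = b * a) (hMA : ∀ m ∈ M, ∀ a ∈ A, m * a * m⁻¹ ∈ A)
    (hsc : ∀ m ∈ M, (∀ a ∈ A, m * a = a * m) → m ∈ A)
    (hqA : ¬ q ∣ Nat.card A) (hfaith : ∀ m ∈ M, (∀ v ∈ N, m * v = v * m) → m = 1)
    (hirr : ∀ U : Subgroup G, U ≤ N → U ≠ ⊥ → (∀ m ∈ M, ∀ u ∈ U, m * u * m⁻¹ ∈ U) → U = N) :
    ∃ v ∈ N, v ≠ 1 ∧ ∀ m ∈ M, m * v * m⁻¹ ∈ zpowers v := by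
  haveI := Fact.mk hq
  have hrq : ∀ {r : ℕ}, r.Prime → ∀ {a : G}, a ∈ A → ∀ {i : ℕ}, orderOf a = r ^ i → a ≠ 1 →
      r ≠ q := by
    intro r hr a ha i hi ha1 h
    subst h
    rcases i with _ | i
    · exact ha1 (orderOf_eq_one_iff.1 (by simpa using hi))
    · exact hqA ((dvd_pow_self r i.succ_ne_zero).trans (hi ▸ orderOf_dvd_natCard A ha))
  -- a minimal nontrivial `A`-invariant subgroup consists of eigenvectors
  obtain ⟨W, hWm⟩ := ({W : Subgroup G | W ≤ N ∧ W ≠ ⊥ ∧ ∀ a ∈ A, ∀ w ∈ W, a * w * a⁻¹ ∈ W}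
    ).toFinite.exists_minimal ⟨N, le_rfl, hN, fun a _ w hw => Normal.conj_mem ‹_› w hw a⟩
  obtain ⟨hWN, hW1, hWinv⟩ := hWm.prop
  let S : Set G := {v | v ∈ N ∧ v ≠ 1 ∧ ∀ a ∈ A, a * v * a⁻¹ ∈ zpowers v}
  obtain ⟨v₀, hv₀W, hv₀⟩ : ∃ w ∈ W, w ≠ 1 := by
    by_contra h; push Not at h; exact hW1 ((eq_bot_iff_forall _).2 h)
  have hv₀S : v₀ ∈ S := by
    refine ⟨hWN hv₀W, hv₀, ?_⟩
    let D : Subgroup G :=
      { carrier := {a | a ∈ A ∧ ∀ w ∈ W, a * w * a⁻¹ ∈ zpowers w}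
        one_mem' := ⟨one_mem A, fun w _ => by simp⟩
        mul_mem' := fun {a b} ha hb => ⟨mul_mem ha.1 hb.1, fun w hw => by
          obtain ⟨i, hi⟩ := hb.2 w hw
          obtain ⟨j, hj⟩ := ha.2 w hw
          refine ⟨j * i, ?_⟩
          show w ^ (j * i) = _
          rw [zpow_mul, show w ^ j = _ from hj, conj_zpow, show w ^ i = _ from hi]; group⟩
        inv_mem' := fun {a} ha => ⟨inv_mem ha.1, fun w hw => by
          have hw' : a⁻¹ * w * a⁻¹⁻¹ ∈ W := hWinv _ (inv_mem ha.1) w hw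
          have h1 := ha.2 _ hw'
          rw [show a * (a⁻¹ * w * a⁻¹⁻¹) * a⁻¹ = w by group] at h1
          rcases eq_or_ne w 1 with hw1 | hw1
          · simp [hw1]
          exact mem_zpowers_of_pow hq (hexp _ (hWN hw')) (fun h => hw1 (by
            calc w = a * (a⁻¹ * w * a⁻¹⁻¹) * a⁻¹ := by group
              _ = 1 := by rw [h]; group)) h1 hw1⟩ }
    have hD : A ≤ D := le_of_forall_primePow fun r hr a ha i hi => by
      refine ⟨ha, fun w hw => ?_⟩
      rcases eq_or_ne a 1 with rfl | ha1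
      · simp
      obtain ⟨l, hl⟩ := exists_scalar hab hG hq hexp hr (hrq hr ha hi ha1) ⟨i, hi⟩
      set V := ((disp N hab a).comp (inclusion hWN)).range with hV
      have hVW : V ≤ W := by
        rintro _ ⟨u, rfl⟩
        exact mul_mem (hWinv a ha u u.2) (inv_mem u.2)
      by_cases hVb : V = ⊥
      · have h1 : a * w * a⁻¹ * w⁻¹ ∈ V := ⟨⟨w, hw⟩, rfl⟩
        rw [hVb, mem_bot, mul_inv_eq_one] at h1
        rw [h1]; exact mem_zpowers w
      · have hVe : V = W := hWm.eq_of_le ⟨hVW.trans hWN, hVb, fun b hb z hz => by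
          obtain ⟨u, rfl⟩ := hz
          refine ⟨⟨b * u * b⁻¹, hWinv b hb u u.2⟩, ?_⟩
          show a * (b * u * b⁻¹) * a⁻¹ * (b * u * b⁻¹)⁻¹ = b * (a * u * a⁻¹ * (u : G)⁻¹) * b⁻¹
          calc a * (b * u * b⁻¹) * a⁻¹ * (b * u * b⁻¹)⁻¹
              = (a * b) * u * (a * b)⁻¹ * (b * (u : G)⁻¹ * b⁻¹) := by group
            _ = _ := by rw [hA a ha b hb]; group⟩ hVW
        obtain ⟨u, hu⟩ := hVe.ge hw
        exact ⟨l, (hl w ⟨inclusion hWN u, hu⟩).symm⟩
    exact fun a ha => (hD ha).2 v₀ hv₀W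
  have hSconj : ∀ m ∈ M, ∀ v ∈ S, m * v * m⁻¹ ∈ S := by
    rintro m hm v ⟨hvN, hv1, hv⟩
    refine ⟨Normal.conj_mem ‹_› v hvN m, fun h => hv1 (by simpa using h), fun a ha => ?_⟩
    obtain ⟨i, hi⟩ := hv _ (by simpa using hMA m⁻¹ (inv_mem hm) a ha : m⁻¹ * a * m ∈ A)
    refine ⟨i, ?_⟩
    show (m * v * m⁻¹) ^ i = _
    rw [conj_zpow, show v ^ i = _ from hi]; group
  have hgen : closure S = N := by
    refine hirr _ ((closure_le _).2 fun v hv => hv.1) (fun h => hv₀ (mem_bot.1 (h ▸ subset_closure hv₀S)))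
      fun m hm u hu => ?_
    induction hu using closure_induction with
    | mem u hu => exact subset_closure (hSconj m hm u hu)
    | one => simp
    | mul u u' _ _ ihu ihu' =>
      rw [show m * (u * u') * m⁻¹ = (m * u * m⁻¹) * (m * u' * m⁻¹) by group]; exact mul_mem ihu ihu'
    | inv u _ ihu =>
      rw [show m * u⁻¹ * m⁻¹ = (m * u * m⁻¹)⁻¹ by group]; exact inv_mem ihu
  -- every prime power element of `M` fixes all weights
  suffices hall : M ≤ A from ⟨v₀, hv₀S.1, hv₀, fun m hm => hv₀S.2.2 m (hall hm)⟩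
  refine le_of_forall_primePow fun s hs y hy b hb => ?_
  by_contra hyA
  -- two weights moved by a prime power element force an involution
  have invol : ∀ z ∈ M, (∃ e : ℕ, orderOf z = s ^ e) → ∀ {r : ℕ}, r.Prime → ∀ {a : G}, a ∈ A →
      (∃ i : ℕ, orderOf a = r ^ i) → ∀ v ∈ S, (∀ i : ℤ, a * v * a⁻¹ = v ^ i →
        a * (z * v * z⁻¹) * a⁻¹ ≠ (z * v * z⁻¹) ^ i) → r = s ∧ z * z = 1 := by
    intro z hz hzo r hr a ha hao v hv hne
    obtain ⟨c, hc : v ^ c = _⟩ := hv.2.2 a ha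
    have ha1 : a ≠ 1 := fun h => by simpa [h] using hne 1 (by simp [h])
    obtain ⟨i, hi⟩ := hao
    have hrs : r = s := by
      by_contra hrs
      have hcm := commute_of_ne hab hG hq hexp hAM hA hMA hfaith hr hs hrs (hrq hr ha hi ha1) ha
        ⟨i, hi⟩ hz hzo
      refine hne c hc.symm ?_
      rw [conj_zpow, hc]
      calc a * (z * v * z⁻¹) * a⁻¹ = (a * z) * v * (a * z)⁻¹ := by group
        _ = _ := by rw [← hcm.eq]; group
    refine ⟨hrs, ?_⟩
    obtain ⟨l, hl⟩ := exists_scalar hab hG hq hexp hs (hrs ▸ hrq hr ha hi ha1) hzo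
    have hstep : ∀ u ∈ N, z * (z * u * z⁻¹) * z⁻¹ = (z * u * z⁻¹) ^ (l + 1) * u ^ (-l) := by
      intro u hu
      have h1 := hl _ (disp_mem hab z u hu)
      have hc' : Commute (z * u * z⁻¹) u⁻¹ :=
        hab _ (Normal.conj_mem ‹_› u hu z) _ (inv_mem hu)
      rw [hc'.mul_zpow, inv_zpow, ← zpow_neg] at h1
      have h2 : Commute (z * u * z⁻¹) (u ^ (-l)) :=
        hab _ (Normal.conj_mem ‹_› u hu z) _ (zpow_mem hu _)
      calc z * (z * u * z⁻¹) * z⁻¹ = z * (z * u * z⁻¹ * u⁻¹) * z⁻¹ * (z * u * z⁻¹) := by group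
        _ = (z * u * z⁻¹) ^ l * u ^ (-l) * (z * u * z⁻¹) := by rw [h1]
        _ = (z * u * z⁻¹) ^ (l + 1) * u ^ (-l) := by
          rw [mul_assoc, ← h2.eq, ← mul_assoc, ← zpow_add_one]
    set v' := z * v * z⁻¹ with hv'
    have hv'S := hSconj z hz v hv
    have hv''S := hSconj z hz v' hv'S
    obtain ⟨c', hc' : v' ^ c' = _⟩ := hv'S.2.2 a ha
    obtain ⟨c'', hc'' : (z * v' * z⁻¹) ^ c'' = _⟩ := hv''S.2.2 a ha
    have hov : orderOf v = q := orderOf_eq_prime (hexp v hv.1) hv.2.1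
    have hov' : orderOf v' = q := orderOf_eq_prime (hexp v' hv'S.1) hv'S.2.1
    have hcc : ¬ (q : ℤ) ∣ c' - c := fun h => hne c hc.symm (by
      rw [← hc', zpow_eq_zpow_iff_modEq, hov', Int.modEq_iff_dvd]; rwa [dvd_sub_comm])
    have hind : ∀ i j : ℤ, v' ^ i = v ^ j → (q : ℤ) ∣ i ∧ (q : ℤ) ∣ j := by
      intro i j hij
      by_cases hi1 : v' ^ i = 1
      · exact ⟨hov' ▸ orderOf_dvd_iff_zpow_eq_one.2 hi1,
          hov ▸ orderOf_dvd_iff_zpow_eq_one.2 (hij ▸ hi1)⟩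
      exfalso
      have hmem : v' ∈ zpowers v := by
        refine zpowers_le.2 ?_ (mem_zpowers_of_pow hq (hexp _ hv'S.1) hv'S.2.1
          ⟨i, rfl⟩ hi1)
        show v' ^ i ∈ zpowers v
        rw [hij]; exact zpow_mem (mem_zpowers v) j
      obtain ⟨e, he : v ^ e = v'⟩ := hmem
      refine hcc ?_
      have h3 : v' ^ c' = v' ^ c := by
        calc v' ^ c' = a * v' * a⁻¹ := hc'
          _ = a * v ^ e * a⁻¹ := by rw [he]
          _ = (v ^ c) ^ e := by rw [← conj_zpow, hc]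
          _ = (v ^ e) ^ c := by rw [← zpow_mul, ← zpow_mul, mul_comm]
          _ = v' ^ c := by rw [he]
      rw [zpow_eq_zpow_iff_modEq, hov', Int.modEq_iff_dvd] at h3
      rwa [dvd_sub_comm] at h3
    have hv'' := hstep v hv.1
    rw [← hv'] at hv''
    have hcomm : Commute v' v := hab _ hv'S.1 _ hv.1
    have h4 : v' ^ (c' * (l + 1)) * v ^ (c * -l) = v' ^ ((l + 1) * c'') * v ^ (-l * c'') := by
      have hmap : ∀ i j : ℤ, a * (v' ^ i * v ^ j) * a⁻¹ =
          (a * v' * a⁻¹) ^ i * (a * v * a⁻¹) ^ j := fun i j => by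
        rw [← MulAut.conj_apply, map_mul, map_zpow, map_zpow]; rfl
      calc v' ^ (c' * (l + 1)) * v ^ (c * -l)
          = (a * v' * a⁻¹) ^ (l + 1) * (a * v * a⁻¹) ^ (-l) := by rw [zpow_mul, zpow_mul, hc', hc]
        _ = a * (z * v' * z⁻¹) * a⁻¹ := by rw [← hmap, ← hv'']
        _ = (v' ^ (l + 1) * v ^ (-l)) ^ c'' := by rw [← hc'', hv'']
        _ = _ := by rw [(hcomm.zpow_zpow (l + 1) (-l)).mul_zpow, ← zpow_mul, ← zpow_mul]
    have h5 : v' ^ ((c' - c'') * (l + 1)) = v ^ ((c - c'') * l) := by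
      have e1 : v' ^ ((c' - c'') * (l + 1)) =
          v' ^ (c' * (l + 1)) * (v' ^ ((l + 1) * c''))⁻¹ := by
        rw [← zpow_neg, ← zpow_add]; congr 1; ring
      have e2 : v ^ ((c - c'') * l) = v ^ (-l * c'') * (v ^ (c * -l))⁻¹ := by
        rw [← zpow_neg, ← zpow_add]; congr 1; ring
      rw [e1, e2, eq_mul_inv_iff_mul_eq, mul_assoc, ((hcomm.zpow_zpow ((l + 1) * c'') (c * -l)).inv_left).eq,
        ← mul_assoc, h4, mul_assoc, ((hcomm.zpow_zpow ((l + 1) * c'') (-l * c'')).symm.inv_right).eq,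
        ← mul_assoc, mul_inv_cancel, one_mul]
    obtain ⟨h6, h7⟩ := hind _ _ h5
    have hql : ¬ (q : ℤ) ∣ l := by
      intro hdvd
      have e1 : v ^ (-l) = 1 := orderOf_dvd_iff_zpow_eq_one.1 (by rw [hov, dvd_neg]; exact hdvd)
      have e2 : v' ^ (l + 1) = v' := by
        rw [zpow_add, zpow_one, orderOf_dvd_iff_zpow_eq_one.1 (by rwa [hov']), one_mul]
      rw [e1, e2, mul_one] at hv''
      have e3 : v' = v := mul_left_cancel (mul_right_cancel (hv''.trans hv'))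
      exact hcc (by
        have h3 : v ^ c' = v ^ c := by
          calc v ^ c' = v' ^ c' := by rw [e3]
            _ = a * v' * a⁻¹ := hc'
            _ = a * v * a⁻¹ := by rw [e3]
            _ = v ^ c := hc.symm
        rw [zpow_eq_zpow_iff_modEq, hov, Int.modEq_iff_dvd] at h3
        rwa [dvd_sub_comm] at h3)
    have hq' : Prime (q : ℤ) := Nat.prime_iff_prime_int.1 hq
    have hc2 : (q : ℤ) ∣ c - c'' := (hq'.dvd_mul.1 h7).resolve_right hql
    have hl1 : (q : ℤ) ∣ l + 1 := (hq'.dvd_mul.1 h6).resolve_left fun h => hcc (by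
      simpa [sub_sub_sub_cancel_right] using dvd_sub h hc2)
    refine hfaith _ (mul_mem hz hz) fun u hu => ?_
    have e1 : (z * u * z⁻¹) ^ (l + 1) = 1 := orderOf_dvd_iff_zpow_eq_one.1
      ((Int.natCast_dvd_natCast.2 (orderOf_dvd_of_pow_eq_one
        (hexp _ (Normal.conj_mem ‹_› u hu z)))).trans hl1)
    have e2 : u ^ (-l) = u := by
      conv_rhs => rw [← zpow_one u]
      rw [zpow_eq_zpow_iff_modEq, Int.modEq_iff_dvd]
      refine (Int.natCast_dvd_natCast.2 (orderOf_dvd_of_pow_eq_one (hexp u hu))).trans ?_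
      rwa [sub_neg_eq_add, add_comm]
    have e3 := hstep u hu
    rw [e1, e2, one_mul] at e3
    calc z * z * u = z * (z * u * z⁻¹) * z⁻¹ * (z * z) := by group
      _ = u * (z * z) := by rw [e3]
  -- `y` moves some weight
  obtain ⟨r, hr, a, ha, hao, v, hv, hne⟩ : ∃ r : ℕ, r.Prime ∧ ∃ a ∈ A,
      (∃ i : ℕ, orderOf a = r ^ i) ∧ ∃ v ∈ S, ∀ i : ℤ, a * v * a⁻¹ = v ^ i →
        a * (y * v * y⁻¹) * a⁻¹ ≠ (y * v * y⁻¹) ^ i := by
    by_contra hcon
    push Not at hcon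
    refine hyA (hsc y hy fun a ha => ?_)
    have hle : A ≤ centralizer {y} := le_of_forall_primePow fun r hr a ha j hj => by
      have hmem : y⁻¹ * a * y ∈ A := by simpa using hMA y⁻¹ (inv_mem hy) a ha
      have hN' : ∀ u ∈ N, a⁻¹ * (y⁻¹ * a * y) * u = u * (a⁻¹ * (y⁻¹ * a * y)) := by
        rw [← hgen]
        intro u hu
        induction hu using closure_induction with
        | mem v hv =>
          obtain ⟨i, hi, hi'⟩ := hcon r hr a ha ⟨j, hj⟩ v hv
          rw [conj_zpow, ← hi] at hi'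
          calc a⁻¹ * (y⁻¹ * a * y) * v
              = a⁻¹ * y⁻¹ * (a * (y * v * y⁻¹) * a⁻¹) * a * y := by group
            _ = v * (a⁻¹ * (y⁻¹ * a * y)) := by rw [hi']; group
        | one => simp
        | mul u u' _ _ ihu ihu' => exact (Commute.mul_right ihu ihu').eq
        | inv u _ ihu => exact (Commute.inv_right ihu).eq
      have h1 := hfaith _ (mul_mem (inv_mem (hAM ha)) (hAM hmem)) hN'
      rw [mem_centralizer_singleton_iff]
      calc a * y = y * (y⁻¹ * a * y) := by group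
        _ = y * a := by rw [← inv_mul_eq_one.1 h1]
    exact (mem_centralizer_singleton_iff.1 (hle ha)).symm
  obtain ⟨hrs, hyy⟩ := invol y hy ⟨b, hb⟩ hr ha hao v hv hne
  subst hrs
  -- so `r = 2`, and `ay` is again such an element
  have hr2 : r = 2 := by
    have h1 : orderOf y ∣ 2 := orderOf_dvd_of_pow_eq_one (by rw [pow_two, hyy])
    rw [hb] at h1
    rcases b with _ | b
    · exact absurd (orderOf_eq_one_iff.1 (by simpa using hb)) fun h => hyA (by rw [h]; exact one_mem A)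
    · exact (Nat.prime_dvd_prime_iff_eq hr Nat.prime_two).1 ((dvd_pow_self r b.succ_ne_zero).trans h1)
  obtain ⟨k, hk⟩ := hao
  have hsq : a * y * (a * y) = a * (y * a * y⁻¹) := by
    calc a * y * (a * y) = a * (y * a * y⁻¹) * (y * y) := by group
      _ = _ := by rw [hyy, mul_one]
  have hyaA : y * a * y⁻¹ ∈ A := hMA y hy a ha
  obtain ⟨e, he⟩ : ∃ e : ℕ, orderOf (a * y) = r ^ e := by
    have h1 : (a * y) ^ (2 * r ^ k) = 1 := by
      rw [pow_mul, pow_two, hsq, (show Commute a (y * a * y⁻¹) from hA a ha _ hyaA).mul_pow,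
        conj_pow, ← hk, pow_orderOf_eq_one, one_mul, mul_one, mul_inv_cancel]
    obtain ⟨e, -, he⟩ := (Nat.dvd_prime_pow hr).1 (orderOf_dvd_of_pow_eq_one (n := r ^ (k + 1))
      (by rw [pow_succ', hr2] at *; exact h1))
    exact ⟨e, he⟩
  obtain ⟨c, hc : v ^ c = _⟩ := hv.2.2 a ha
  have hne' : ∀ i : ℤ, a * v * a⁻¹ = v ^ i →
      a * (a * y * v * (a * y)⁻¹) * a⁻¹ ≠ (a * y * v * (a * y)⁻¹) ^ i := by
    intro i hi h
    refine hne i hi ?_
    rw [show a * y * v * (a * y)⁻¹ = a * (y * v * y⁻¹) * a⁻¹ by group, conj_zpow] at h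
    exact mul_left_cancel (mul_right_cancel h)
  obtain ⟨-, hay⟩ := invol (a * y) (mul_mem (hAM ha) hy) ⟨e, he⟩ hr ha ⟨k, hk⟩ v hv hne'
  rw [hsq] at hay
  have hinv : y * a * y⁻¹ = a⁻¹ := (inv_eq_of_mul_eq_one_right hay).symm
  -- weights of an element inverted by `y` are `1` or `-1`
  have ha1 : a ≠ 1 := fun h => by simpa [h] using hne 1 (by simp [h])
  obtain ⟨l, hl⟩ := exists_scalar hab hG hq hexp hr (hrq hr ha hk ha1) ⟨k, hk⟩
  set v' := y * v * y⁻¹ with hv'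
  have hv'S := hSconj y hy v hv
  obtain ⟨c', hc' : v' ^ c' = _⟩ := hv'S.2.2 a ha
  have hsc2 : ∀ u ∈ S, ∀ i : ℤ, a * u * a⁻¹ = u ^ i → a * u * a⁻¹ = u ∨ a * u * a⁻¹ = u ^ l := by
    intro u hu i hi
    have h1 := hl _ (disp_mem hab a u hu.1)
    rw [hi, show u ^ i * u⁻¹ = u ^ (i - 1) by rw [zpow_sub, zpow_one], ← conj_zpow, hi,
      ← zpow_mul, ← zpow_mul, zpow_eq_zpow_iff_modEq, orderOf_eq_prime (hexp u hu.1) hu.2.1,
      Int.modEq_iff_dvd, show (i - 1) * l - i * (i - 1) = (i - 1) * (l - i) by ring,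
      (Nat.prime_iff_prime_int.1 hq).dvd_mul] at h1
    rcases h1 with h1 | h1
    · left
      rw [hi]
      conv_rhs => rw [← zpow_one u]
      rw [zpow_eq_zpow_iff_modEq, orderOf_eq_prime (hexp u hu.1) hu.2.1, Int.modEq_iff_dvd,
        dvd_sub_comm]
      exact h1
    · right
      rw [hi, zpow_eq_zpow_iff_modEq, orderOf_eq_prime (hexp u hu.1) hu.2.1, Int.modEq_iff_dvd]
      exact h1
  have hflip : a⁻¹ * v' * a = y * (a * v * a⁻¹) * y⁻¹ := by
    rw [show a⁻¹ * v' * a = (y * a * y⁻¹) * v' * (y * a * y⁻¹)⁻¹ by rw [hinv, inv_inv], hv']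
    group
  rcases hsc2 v hv c hc.symm with h1 | h1
  · refine hne 1 (by rw [h1, zpow_one]) ?_
    rw [zpow_one]
    rw [h1] at hflip
    calc a * v' * a⁻¹ = a * (a⁻¹ * v' * a) * a⁻¹ := by rw [hflip]
      _ = v' := by group
  · rcases hsc2 v' hv'S c' hc'.symm with h2 | h2
    · refine hne l h1 ?_
      rw [h2]
      have h3 : a⁻¹ * v' * a = v' := by
        calc a⁻¹ * v' * a = a⁻¹ * (a * v' * a⁻¹) * a := by rw [h2]
          _ = v' := by group
      rw [h3, h1] at hflip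
      rw [hv', conj_zpow, ← hflip]
    · exact hne l h1 h2

end CfsgLib.LocalEvenSix.PairOrder
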