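import Cfsg.Agent.Lib.PSL2.Dickson
import Cfsg.Agent.Lib.PSL2.Basic

/-!
# Commuting semisimple elements of `PGL₂(p)`

In a `p'`-subgroup of `PGL₂(p)` two elements of order at least `6` commute, and the elements of order `4`
fall into four commuting families; commuting split elements of order at least `3` share their fixed lines.
-/

set_option autoImplicit false
set_option linter.unusedSectionVars false

namespace CfsgLib.LocalEvenSix.PglPairs

open Matrix

variable {F : Type*} [Field F]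

/-- Two vectors that are not proportional span the plane. -/
theorem exists_coord {e f : Fin 2 → F} (he : e ≠ 0) (hf : ∀ a : F, f ≠ a • e) (v : Fin 2 → F) :
    ∃ α β : F, v = α • e + β • f := by
  have hd : e 0 * f 1 - e 1 * f 0 ≠ 0 := by
    intro hd
    by_cases h0 : e 0 = 0
    · have h1 : e 1 ≠ 0 := fun h1 => he (funext fun i => by fin_cases i <;> simp [h0, h1])
      refine hf (f 1 / e 1) (funext fun i => ?_)
      fin_cases i
      · have : f 0 = 0 := by simpa [h0, h1] using hd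
        simp [h0, this]
      · simp [h1]
    · refine hf (f 0 / e 0) (funext fun i => ?_)
      fin_cases i
      · simp [h0]
      · show f 1 = f 0 / e 0 * e 1
        field_simp
        linear_combination hd
  refine ⟨(v 0 * f 1 - v 1 * f 0) / (e 0 * f 1 - e 1 * f 0),
    (e 0 * v 1 - e 1 * v 0) / (e 0 * f 1 - e 1 * f 0), funext fun i => ?_⟩
  simp only [Pi.add_apply, Pi.smul_apply, smul_eq_mul]
  rw [div_mul_eq_mul_div, div_mul_eq_mul_div, ← add_div, eq_div_iff hd]
  fin_cases i <;> simp <;> ring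

/-- A split element with eigenlines `e`, `f` and eigenvalue ratio of order `m`. -/
structure Split (m : ℕ) where
  T : GL (Fin 2) F
  e : Fin 2 → F
  f : Fin 2 → F
  μ : F
  ν : F
  he : e ≠ 0
  hf : f ≠ 0
  hμ : μ ≠ 0
  hν : ν ≠ 0
  hsq : μ ^ 2 ≠ ν ^ 2
  hTe : (T : Matrix (Fin 2) (Fin 2) F) *ᵥ e = μ • e
  hTf : (T : Matrix (Fin 2) (Fin 2) F) *ᵥ f = ν • f
  hm : orderOf (ν / μ) = m

variable {m : ℕ} (D : Split (F := F) m)

theorem Split.ne : D.μ ≠ D.ν := fun h => D.hsq (by rw [h])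

theorem Split.indep : ∀ a : F, D.f ≠ a • D.e := fun a h => D.ne (by
  have h1 := D.hTf
  rw [h, Matrix.mulVec_smul, D.hTe, smul_smul, smul_smul] at h1
  have ha : a ≠ 0 := fun ha => D.hf (by rw [h, ha, zero_smul])
  exact mul_left_cancel₀ ha ((smul_left_injective F D.he h1).trans (mul_comm _ _)))

theorem Split.pow_mulVec (k : ℕ) :
    ((D.T ^ k : GL (Fin 2) F) : Matrix (Fin 2) (Fin 2) F) *ᵥ D.e = D.μ ^ k • D.e ∧
    ((D.T ^ k : GL (Fin 2) F) : Matrix (Fin 2) (Fin 2) F) *ᵥ D.f = D.ν ^ k • D.f := by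
  induction k with
  | zero => simp
  | succ k ih =>
    obtain ⟨h1, h2⟩ := ih
    constructor <;> rw [pow_succ, Units.val_mul, ← Matrix.mulVec_mulVec]
    · rw [D.hTe, Matrix.mulVec_smul, h1, smul_smul, pow_succ, mul_comm]
    · rw [D.hTf, Matrix.mulVec_smul, h2, smul_smul, pow_succ, mul_comm]

theorem scalar_mulVec (u : Fˣ) (v : Fin 2 → F) :
    ((GeneralLinearGroup.scalar (Fin 2) u : GL (Fin 2) F) : Matrix (Fin 2) (Fin 2) F) *ᵥ v = (u : F) • v := by
  rw [GeneralLinearGroup.coe_scalar]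
  ext i
  fin_cases i <;> simp [Matrix.mulVec, dotProduct, Matrix.scalar_apply, Fin.sum_univ_two]

theorem Split.orderOf_mk : orderOf (ProjGenLinGroup.mk D.T) = m := by
  refine Eq.trans ?_ D.hm
  refine orderOf_eq_orderOf_iff.2 fun k => ?_
  rw [div_pow, div_eq_one_iff_eq (pow_ne_zero _ D.hμ), ← map_pow, ProjGenLinGroup.mk_eq_one,
    GeneralLinearGroup.center_eq_range_scalar]
  constructor
  · rintro ⟨u, hu⟩
    obtain ⟨h1, h2⟩ := D.pow_mulVec k
    rw [← hu, scalar_mulVec] at h1 h2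
    rw [← smul_left_injective F D.he h1, ← smul_left_injective F D.hf h2]
  · intro hk
    refine ⟨Units.mk0 (D.μ ^ k) (pow_ne_zero _ D.hμ), Units.ext (Matrix.ext_of_mulVec_single fun i => ?_)⟩
    obtain ⟨α, β, hv⟩ := exists_coord D.he D.indep (Pi.single i 1)
    rw [scalar_mulVec, hv, Matrix.mulVec_add, Matrix.mulVec_smul, Matrix.mulVec_smul, (D.pow_mulVec k).1,
      (D.pow_mulVec k).2, hk, Units.val_mk0, smul_add, smul_comm (D.μ ^ k) α, smul_comm (D.μ ^ k) β]

/-- Projectively commuting split elements share their eigenlines. -/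
theorem Split.share {n : ℕ} (E : Split (F := F) n)
    (hc : Commute (ProjGenLinGroup.mk D.T) (ProjGenLinGroup.mk E.T)) :
    (∃ a : F, E.e = a • D.e) ∨ ∃ a : F, E.e = a • D.f := by
  obtain ⟨u, hu⟩ := ProjGenLinGroup.mk_eq_mk_iff.1 (by rw [map_mul, map_mul]; exact hc.eq :
    ProjGenLinGroup.mk (D.T * E.T) = ProjGenLinGroup.mk (E.T * D.T))
  set T : Matrix (Fin 2) (Fin 2) F := (D.T : Matrix (Fin 2) (Fin 2) F)
  set S : Matrix (Fin 2) (Fin 2) F := (E.T : Matrix (Fin 2) (Fin 2) F)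
  have hinjS : ∀ v : Fin 2 → F, S *ᵥ v = 0 → v = 0 := fun v hv => by
    have h := congrArg (fun w => ((E.T⁻¹ : GL (Fin 2) F) : Matrix (Fin 2) (Fin 2) F) *ᵥ w) hv
    simp only [S, Matrix.mulVec_mulVec, ← Units.val_mul, inv_mul_cancel, Units.val_one, Matrix.one_mulVec, Matrix.mulVec_zero] at h
    exact h
  -- `T` scales `S v` for an eigenvector `v`
  have key : ∀ (v : Fin 2 → F) (κ : F), T *ᵥ v = κ • v →
      (u : F) • (T *ᵥ (S *ᵥ v)) = κ • (S *ᵥ v) := by
    intro v κ hv
    have h := congrArg (fun A : GL (Fin 2) F => (A : Matrix (Fin 2) (Fin 2) F) *ᵥ v) hu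
    simp only [Units.val_mul, ← Matrix.mulVec_mulVec] at h
    rw [scalar_mulVec] at h
    change T *ᵥ (S *ᵥ ((u : F) • v)) = S *ᵥ (T *ᵥ v) at h
    rw [hv, Matrix.mulVec_smul, Matrix.mulVec_smul, Matrix.mulVec_smul] at h
    exact h
  have split : ∀ (v : Fin 2 → F) (κ : F), v ≠ 0 → T *ᵥ v = κ • v → ∃ α β : F,
      S *ᵥ v = α • D.e + β • D.f ∧ (α = 0 ∨ (u : F) * D.μ = κ) ∧ (β = 0 ∨ (u : F) * D.ν = κ) ∧
        (α ≠ 0 ∨ β ≠ 0) := by
    intro v κ hv0 hv
    obtain ⟨α, β, hαβ⟩ := exists_coord D.he D.indep (S *ᵥ v)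
    refine ⟨α, β, hαβ, ?_⟩
    have h := key v κ hv
    rw [hαβ, Matrix.mulVec_add, Matrix.mulVec_smul, Matrix.mulVec_smul, D.hTe, D.hTf, smul_add,
      smul_add, smul_smul, smul_smul, smul_smul, smul_smul, smul_smul, smul_smul] at h
    have h' : ((u : F) * α * D.μ - κ * α) • D.e = (κ * β - (u : F) * β * D.ν) • D.f := by
      rw [sub_smul, sub_smul, sub_eq_sub_iff_add_eq_add]
      simpa [mul_assoc, add_comm] using h
    by_cases hb : κ * β - (u : F) * β * D.ν = 0
    · rw [hb, zero_smul, smul_eq_zero, or_iff_left D.he] at h'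
      refine ⟨?_, ?_, ?_⟩
      · by_cases hα : α = 0
        · exact Or.inl hα
        · exact Or.inr (mul_right_cancel₀ hα (by linear_combination h'))
      · by_cases hβ : β = 0
        · exact Or.inl hβ
        · exact Or.inr (mul_right_cancel₀ hβ (by linear_combination -hb))
      · by_contra hn
        push Not at hn
        exact hv0 (hinjS v (by rw [hαβ, hn.1, hn.2, zero_smul, zero_smul, add_zero]))
    · exact absurd (show D.f = _ • D.e by
        rw [← smul_smul (κ * β - (u : F) * β * D.ν)⁻¹, h', inv_smul_smul₀ hb]) (D.indep _)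
  obtain ⟨α, β, h1, hα, hβ, hn⟩ := split D.e D.μ D.he D.hTe
  obtain ⟨α', β', h2, hα', hβ', hn'⟩ := split D.f D.ν D.hf D.hTf
  have hu1 : (u : F) = 1 := by
    rcases hα with hα | hα
    · have hb : (u : F) * D.ν = D.μ := hβ.resolve_left (hn.resolve_left (not_not.2 hα))
      rcases hn' with h | h
      · have ha : (u : F) * D.μ = D.ν := hα'.resolve_left h
        exfalso
        refine D.hsq ?_
        calc D.μ ^ 2 = (u : F) * D.μ * D.ν := by rw [pow_two]; nth_rewrite 2 [← hb]; ring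
          _ = D.ν ^ 2 := by rw [ha]; ring
      · exact (mul_eq_right₀ D.hν).1 (hβ'.resolve_left h)
    · exact (mul_eq_right₀ D.hμ).1 hα
  have hβ0 : β = 0 := hβ.resolve_right fun h => D.ne (by rw [← h, hu1, one_mul])
  have hα0 : α' = 0 := hα'.resolve_right fun h => D.ne (by rw [← h, hu1, one_mul])
  rw [hβ0, zero_smul, add_zero] at h1
  rw [hα0, zero_smul, zero_add] at h2
  obtain ⟨a, b, hab⟩ := exists_coord D.he D.indep E.e
  by_cases ha : a = 0
  · right; exact ⟨b, by rw [hab, ha, zero_smul, zero_add]⟩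
  by_cases hb : b = 0
  · left; exact ⟨a, by rw [hab, hb, zero_smul, add_zero]⟩
  exfalso
  have h := E.hTe
  rw [hab, Matrix.mulVec_add, Matrix.mulVec_smul, Matrix.mulVec_smul] at h
  rw [show (E.T : Matrix (Fin 2) (Fin 2) F) *ᵥ D.e = α • D.e from h1,
    show (E.T : Matrix (Fin 2) (Fin 2) F) *ᵥ D.f = β' • D.f from h2, smul_add, smul_smul, smul_smul,
    smul_smul, smul_smul] at h
  have h' : (a * α - E.μ * a) • D.e = (E.μ * b - b * β') • D.f := by
    rw [sub_smul, sub_smul, sub_eq_sub_iff_add_eq_add]; simpa [add_comm] using h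
  by_cases hz : E.μ * b - b * β' = 0
  · rw [hz, zero_smul, smul_eq_zero, or_iff_left D.he] at h'
    have e1 : α = E.μ := mul_left_cancel₀ ha (by linear_combination h')
    have e2 : β' = E.μ := mul_left_cancel₀ hb (by linear_combination -hz)
    obtain ⟨c, d, hcd⟩ := exists_coord D.he D.indep E.f
    have h3 := E.hTf
    rw [hcd, Matrix.mulVec_add, Matrix.mulVec_smul, Matrix.mulVec_smul,
      show (E.T : Matrix (Fin 2) (Fin 2) F) *ᵥ D.e = α • D.e from h1,
      show (E.T : Matrix (Fin 2) (Fin 2) F) *ᵥ D.f = β' • D.f from h2, e1, e2, smul_comm c, smul_comm d,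
      ← smul_add, ← hcd] at h3
    exact E.ne (smul_left_injective F E.hf h3)
  · exact D.indep _ (show D.f = _ • D.e by
      rw [← smul_smul (E.μ * b - b * β')⁻¹, h', inv_smul_smul₀ hz])

/-- Three split elements with pairwise different lines cannot commute pairwise. -/
theorem not_three {n : ℕ} (E₁ E₂ E₃ : Split (F := F) n) (h12 : ∀ a : F, E₂.e ≠ a • E₁.e)
    (h13 : ∀ a : F, E₃.e ≠ a • E₁.e) (h23 : ∀ a : F, E₃.e ≠ a • E₂.e)
    (c12 : Commute (ProjGenLinGroup.mk E₁.T) (ProjGenLinGroup.mk E₂.T))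
    (c13 : Commute (ProjGenLinGroup.mk E₁.T) (ProjGenLinGroup.mk E₃.T)) : False := by
  obtain ⟨a, ha⟩ := (E₁.share E₂ c12).resolve_left fun ⟨a, ha⟩ => h12 a ha
  obtain ⟨b, hb⟩ := (E₁.share E₃ c13).resolve_left fun ⟨a, ha⟩ => h13 a ha
  have ha0 : a ≠ 0 := fun h => E₂.he (by rw [ha, h, zero_smul])
  exact h23 (b / a) (by rw [ha, hb, smul_smul, div_mul_cancel₀ _ ha0])

set_option maxRecDepth 100000 in
theorem perm_four_commute : ∀ a b : Equiv.Perm (Fin 4), a ^ 4 = 1 → a * a ≠ 1 → b ^ 4 = 1 → b * b ≠ 1 →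
    (a * a) 0 = (b * b) 0 → a * b = b * a := by decide

set_option maxRecDepth 10000 in
theorem perm_four_pow : ∀ a : Equiv.Perm (Fin 4), a ^ 3 = 1 ∨ a ^ 4 = 1 := by decide

set_option maxRecDepth 100000 in
theorem alt_five_pow : ∀ a : alternatingGroup (Fin 5), a ^ 2 = 1 ∨ a ^ 3 = 1 ∨ a ^ 5 = 1 := by decide

set_option maxRecDepth 10000 in
theorem alt_four_pow : ∀ a : alternatingGroup (Fin 4), a ^ 2 = 1 ∨ a ^ 3 = 1 := by decide

/-- The structure needed of a `p'`-subgroup of `PGL₂(p)`. -/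
theorem structure' {p : ℕ} [Fact p.Prime] (hp : p ≠ 2) {H : Type*} [Group H] [Finite H]
    (φ : H →* ProjGenLinGroup (Fin 2) (ZMod p)) (hφ : Function.Injective φ) (hcop : ¬ p ∣ Nat.card H) :
    (∀ a b : H, 6 ≤ orderOf a → 6 ≤ orderOf b → a * b = b * a) ∧
      ∃ f : H → Fin 4, ∀ a b : H, orderOf a = 4 → orderOf b = 4 → f a = f b → a * b = b * a := by
  classical
  have hpr : p.Prime := Fact.out
  have comm : (∀ a b : H, 3 ≤ orderOf a → 3 ≤ orderOf b → a * b = b * a) →
      (∀ a b : H, 6 ≤ orderOf a → 6 ≤ orderOf b → a * b = b * a) ∧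
      ∃ f : H → Fin 4, ∀ a b : H, orderOf a = 4 → orderOf b = 4 → f a = f b → a * b = b * a :=
    fun h => ⟨fun a b ha hb => h a b (by omega) (by omega), fun _ => 0,
      fun a b ha hb _ => h a b (by omega) (by omega)⟩
  have small : ∀ (K : Type) [Group K] (_ : H ≃* K), (∀ k : K, ∀ h : H, 6 ≤ orderOf h →
      orderOf k = orderOf h → False) → ∀ a b : H, 6 ≤ orderOf a → 6 ≤ orderOf b → a * b = b * a :=
    fun K _ e h a _ ha _ => (h (e a) a ha (MulEquiv.orderOf_eq e a)).elim
  rcases PSL2.dickson p φ hφ with hfix | hT | hD | ⟨⟨e⟩⟩ | ⟨⟨e⟩⟩ | ⟨⟨e⟩⟩ | ⟨S, -, hS⟩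
  · refine comm fun a b _ _ => ?_
    obtain ⟨x, hx⟩ := hfix
    rcases subsingleton_or_nontrivial H with h | h
    · exact Subsingleton.elim _ _
    let ι : ZMod p →+* AlgebraicClosure (ZMod p) := algebraMap _ _
    haveI : CharP (AlgebraicClosure (ZMod p)) p := charP_of_injective_ringHom ι.injective p
    let f : H →* Equiv.Perm (OnePoint (AlgebraicClosure (ZMod p))) := (PSL2.lineHom ι).comp φ
    have hA := PSL2.isLineAction f p ((PSL2.lineHom_injective ι).comp hφ)
      fun g => PSL2.lineHom_mem_range ι (φ g)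
    have hfx : ∀ g : H, f g (x.map ι) = x.map ι := fun g =>
      (PSL2.lineHom_apply_map ι (φ g) x).trans (congrArg _ (hx g))
    obtain ⟨g₀, hg₀⟩ := exists_ne (1 : H)
    let z : PSL2.Pts f := ⟨x.map ι, g₀, hg₀, hfx g₀⟩
    obtain ⟨χ, hχ⟩ := hA.stab_hom z
    let a' : MulAction.stabilizer H z := ⟨a, (PSL2.pts_smul_eq_iff f _ _).2 (hfx a)⟩
    let b' : MulAction.stabilizer H z := ⟨b, (PSL2.pts_smul_eq_iff f _ _).2 (hfx b)⟩
    have h1 := (hχ (a' * b' * a'⁻¹ * b'⁻¹)).1 (by
      rw [map_mul, map_mul, map_mul, map_inv, map_inv, mul_right_comm (χ a'), mul_inv_cancel, one_mul,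
        mul_inv_cancel])
    have h2 : orderOf (a * b * a⁻¹ * b⁻¹) ∣ p := orderOf_dvd_of_pow_eq_one h1
    have h3 : a * b * a⁻¹ * b⁻¹ = 1 := orderOf_eq_one_iff.1
      ((hpr.eq_one_or_self_of_dvd _ h2).resolve_right fun h => hcop (h ▸ orderOf_dvd_natCard _))
    rwa [mul_inv_eq_one, mul_inv_eq_iff_eq_mul] at h3
  · refine comm fun a b _ _ => ?_
    obtain ⟨g, hg⟩ := hT.1.exists_generator
    obtain ⟨i, rfl⟩ := hg a
    obtain ⟨j, rfl⟩ := hg b
    exact (Commute.refl g).zpow_zpow i j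
  · refine comm fun a b ha hb => ?_
    obtain ⟨C, -, -, ⟨e⟩⟩ := hD
    refine e.injective ?_
    rw [map_mul, map_mul]
    rw [← MulEquiv.orderOf_eq e] at ha hb
    cases h1 : e a with
    | sr i => rw [h1, DihedralGroup.orderOf_sr] at ha; omega
    | r i =>
      cases h2 : e b with
      | sr j => rw [h2, DihedralGroup.orderOf_sr] at hb; omega
      | r j => rw [DihedralGroup.r_mul_r, DihedralGroup.r_mul_r, add_comm]
  · refine ⟨small _ e fun k h hh he => ?_, fun _ => 0, fun a b ha _ _ => ?_⟩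
    · rcases alt_four_pow k with h' | h' <;>
        have := Nat.le_of_dvd (by norm_num) (orderOf_dvd_of_pow_eq_one h') <;> omega
    · rw [← MulEquiv.orderOf_eq e] at ha
      rcases alt_four_pow (e a) with h' | h' <;>
        · have := orderOf_dvd_of_pow_eq_one h'; rw [ha] at this; norm_num at this
  · refine ⟨small _ e fun k h hh he => ?_, fun a => (e a * e a) 0, fun a b ha hb hab => ?_⟩
    · rcases perm_four_pow k with h' | h' <;>
        have := Nat.le_of_dvd (by norm_num) (orderOf_dvd_of_pow_eq_one h') <;> omega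
    · have h4 : ∀ c : H, orderOf c = 4 → (e c) ^ 4 = 1 ∧ e c * e c ≠ 1 := fun c hc => by
        rw [← MulEquiv.orderOf_eq e] at hc
        refine ⟨?_, fun h => ?_⟩
        · rw [← orderOf_dvd_iff_pow_eq_one, hc]
        have := orderOf_dvd_of_pow_eq_one (x := e c) (n := 2) (by rw [pow_two]; exact h)
        rw [hc] at this; norm_num at this
      refine e.injective ?_
      rw [map_mul, map_mul]
      exact perm_four_commute _ _ (h4 a ha).1 (h4 a ha).2 (h4 b hb).1 (h4 b hb).2 hab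
  · refine ⟨small _ e fun k h hh he => ?_, fun _ => 0, fun a b ha _ _ => ?_⟩
    · rcases alt_five_pow k with h' | h' | h' <;>
        have := Nat.le_of_dvd (by norm_num) (orderOf_dvd_of_pow_eq_one h') <;> omega
    · rw [← MulEquiv.orderOf_eq e] at ha
      rcases alt_five_pow (e a) with h' | h' | h' <;>
        · have := orderOf_dvd_of_pow_eq_one h'; rw [ha] at this; norm_num at this
  · exfalso
    apply hcop
    have hS' : Fintype.card S = p := by
      have h := S.toSubring.toAddSubgroup.card_addSubgroup_dvd_card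
      rw [Nat.card_zmod] at h
      have h1 : Nat.card S ≠ 1 := by
        rw [Ne, Nat.card_eq_one_iff_unique, not_and_or, not_subsingleton_iff_nontrivial]
        exact Or.inl inferInstance
      rw [← Nat.card_eq_fintype_card]
      exact (hpr.eq_one_or_self_of_dvd _ h).resolve_left h1
    have hpgl : p ∣ Nat.card (ProjGenLinGroup (Fin 2) S) := by
      rw [PSL2.card_pgl, hS']; exact dvd_mul_of_dvd_right (dvd_mul_right _ _) _
    rcases hS with ⟨⟨e⟩⟩ | ⟨⟨e⟩⟩
    · rw [Nat.card_congr e.toEquiv, Nat.card_congr PSL2.pslEquiv.toEquiv]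
      rw [← Subgroup.card_mul_index (PSL2.pslImage S), PSL2.index_pslImage] at hpgl
      refine (hpr.dvd_mul.1 hpgl).resolve_right fun h => ?_
      have h2 := Nat.le_of_dvd (by norm_num) (h.trans (Nat.gcd_dvd_left 2 _))
      have := hpr.two_le
      omega
    · rwa [Nat.card_congr e.toEquiv]

end CfsgLib.LocalEvenSix.PglPairs
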