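import Cfsg.Agent.Lib.PLocal.Replacement

/-!
# Rank and exponent in Glauberman's replacement
-/

set_option autoImplicit false

namespace CfsgLib.LocalEvenSix.ReplacementRank

open Subgroup CfsgLib CfsgLib.PLocal
open scoped commutatorElement

variable {G : Type*} [Group G] [Finite G]

theorem exists_replacement {p : ℕ} [hp : Fact p.Prime] (hp2 : p ≠ 2) (hG : IsPGroup p G)
    (A B : Subgroup G) [IsMulCommutative A] (hBA : ⁅B, B⁆ ≤ A)
    (hAB : A ≤ normalizer (B : Set G)) (hBnA : ¬ B ≤ normalizer (A : Set G)) :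
    ∃ R : Subgroup G, IsMulCommutative R ∧ Nat.card R = Nat.card A ∧ A ⊓ B < R ⊓ B ∧
      R ≤ normalizer (A : Set G) ∧ R ≤ normalClosure (A : Set G) ∧
      Monoid.exponent R ∣ Monoid.exponent A ∧
      Nat.card (Cfsg.omegaOne p A) ≤ Nat.card (Cfsg.omegaOne p R) := by
  set P := normalizer (B : Set G)
  obtain ⟨b, hb, hbN, hbA⟩ :=
    exists_replacement_element (hG.to_subgroup P) hAB le_normalizer le_rfl hBnA
  set N := P ⊓ normalizer (A : Set G) with hN
  have hAN : A ≤ N := le_inf hAB le_normalizer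
  obtain ⟨hcard, hRab, -, hlt, -, hNR, hRA, -, -, hexp⟩ :=
    glauberman_replacement_core (N := N) hBA inf_le_left hb hAN inf_le_right hbN hbA
      (eq_one_of_sq_eq_one (hG.to_subgroup B) fun h => absurd h hp2)
  set R := replacement A b with hR
  set A₁ := A.map (MulAut.conj b⁻¹ : G →* G) with hA₁
  have hncl : A ≤ normalClosure (A : Set G) := fun a ha => subset_normalClosure ha
  refine ⟨R, hRab, hcard, hlt, hRA, ?_, ?_, ?_⟩
  · refine sup_le (inf_le_left.trans hncl) ((closure_le _).2 ?_)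
    rintro _ ⟨a, ha, rfl⟩
    have h1 := (normalClosure_normal (s := (A : Set G))).conj_mem a (hncl ha) b⁻¹
    rw [inv_inv] at h1
    exact mul_mem (inv_mem (hncl ha)) h1
  · have hodd : Odd (Monoid.exponent A) := by
      obtain ⟨k, hk⟩ := IsPGroup.iff_card.1 (hG.to_subgroup A)
      exact Odd.of_dvd_nat ((hp.out.odd_of_ne_two hp2).pow) (hk ▸ Group.exponent_dvd_nat_card)
    rw [Monoid.exponent_dvd_iff_forall_pow_eq_one]
    rintro ⟨x, hx⟩
    exact Subtype.ext (hexp _ (fun a ha => congrArg Subtype.val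
      (Monoid.pow_exponent_eq_one (⟨a, ha⟩ : A))) (Or.inl hodd) x hx)
  -- the elements of order dividing `p`
  set W := Cfsg.omegaOne p A with hW
  set V := Cfsg.omegaOne p R with hV
  haveI := hRab
  have hWA : W ≤ A := omegaOne_le p A
  have hVR : V ≤ R := omegaOne_le p R
  have hWpow : ∀ a ∈ W, a ^ p = 1 := (omegaOne_elemAb p A).2
  set α : G → G := fun x => b⁻¹ * x * b with hα
  have hα1 : ∀ a ∈ A, α a ∈ A₁ := fun a ha => conj_mem_conjMap b ha
  have hNA₁ : ∀ c ∈ A, ∀ d ∈ A₁, c * d * c⁻¹ ∈ A₁ := by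
    intro c hc d hd
    rw [hA₁, mem_conjMap] at hd ⊢
    have h1 : b * c * b⁻¹ ∈ normalizer (A : Set G) := ((mem_normalizer_iff.1 hbN c).1 (hAN hc)).2
    have h2 := (mem_normalizer_iff.1 h1 _).1 hd
    simpa [mul_assoc] using h2
  have hA1N : ∀ c ∈ A₁, c ∈ normalizer (A : Set G) := by
    intro c hc
    rw [hA₁, mem_conjMap] at hc
    exact ((mem_normalizer_iff.1 hbN c).2 (hAN hc)).2
  have hu : ∀ a ∈ W, a⁻¹ * α a ∈ V := by
    intro a ha
    refine mem_omegaOne (le_sup_right (a := A ⊓ A₁) (shift_gen_mem b (hWA ha))) ?_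
    set a₁ := α a with ha₁
    set z := a₁⁻¹ * a * a₁ * a⁻¹ with hz
    have hz1 : a₁⁻¹ * a * a₁ ∈ A := (mem_normalizer_iff''.1 (hA1N _ (hα1 a (hWA ha))) a).1 (hWA ha)
    have hzA : z ∈ A := mul_mem hz1 (inv_mem (hWA ha))
    have hzA₁ : z ∈ A₁ := by
      rw [hz, show a₁⁻¹ * a * a₁ * a⁻¹ = a₁⁻¹ * (a * a₁ * a⁻¹) by group]
      exact mul_mem (inv_mem (hα1 a (hWA ha))) (hNA₁ a (hWA ha) _ (hα1 a (hWA ha)))
    have hz2 : z * a₁ = a₁ * z := by
      obtain ⟨z', hz', hz''⟩ := hzA₁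
      obtain ⟨a', ha', ha''⟩ := hα1 a (hWA ha)
      rw [← hz'', show a₁ = _ from ha''.symm, ← map_mul, ← map_mul, setLike_mul_comm hz' ha']
    have hconj : a₁ ^ p = 1 := by
      rw [ha₁, hα]
      simp only
      rw [show b⁻¹ * a * b = MulAut.conj b⁻¹ a by simp, ← map_pow, hWpow a ha, map_one]
    have hpow := mul_pow_of_commutator (u := a⁻¹) (v := a₁) (z := z)
      (setLike_mul_comm hzA (inv_mem (hWA ha))) hz2 (by rw [hz]; group) p
    have hzp : z ^ p = 1 := by
      rw [hz, (show Commute (a₁⁻¹ * a * a₁) a⁻¹ from setLike_mul_comm hz1 (inv_mem (hWA ha))).mul_pow,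
        inv_pow, hWpow a ha, inv_one, mul_one,
        show a₁⁻¹ * a * a₁ = MulAut.conj a₁⁻¹ a by simp, ← map_pow, hWpow a ha, map_one]
    obtain ⟨k, hk⟩ := hp.out.odd_of_ne_two hp2
    have hch : p.choose 2 = p * k := by
      rw [Nat.choose_two_right, hk]
      have : (2 * k + 1) * (2 * k + 1 - 1) = 2 * ((2 * k + 1) * k) := by
        rw [Nat.add_sub_cancel]; ring
      rw [this]; simp
    rw [hpow, inv_pow, hWpow a ha, hconj, hch, pow_mul, hzp, one_pow, inv_one, mul_one, mul_one]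
  have hAR : A ≤ normalizer (R : Set G) := hAN.trans hNR
  set K : Subgroup R := A.subgroupOf R with hK
  haveI : K.Normal := Subgroup.Normal.mk fun k hk g => by
    have : g * k * g⁻¹ = k := by rw [show g * k = k * g from Subtype.ext (setLike_mul_comm g.2 k.2), mul_inv_cancel_right]
    rwa [this]
  let q := QuotientGroup.mk' K
  let ψ : W →* R ⧸ K :=
    { toFun := fun a => q ⟨(a : G)⁻¹ * α a, hVR (hu a a.2)⟩
      map_one' := by
        rw [← map_one q]
        congr 1
        exact Subtype.ext (by simp [hα])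
      map_mul' := fun a c => by
        rw [← map_mul]
        refine QuotientGroup.eq.2 ?_
        show ((a * c : G)⁻¹ * α (a * c))⁻¹ * ((a : G)⁻¹ * α a * ((c : G)⁻¹ * α c)) ∈ A
        have hu' := hRA (hVR (hu a a.2))
        have h1 : ((a * c : G)⁻¹ * α (a * c))⁻¹ * ((a : G)⁻¹ * α a * ((c : G)⁻¹ * α c)) =
            (α c)⁻¹ * (((a : G)⁻¹ * α a)⁻¹ * (c : G) * ((a : G)⁻¹ * α a) * (c : G)⁻¹) * α c := by
          simp only [hα]; group
        rw [h1]
        exact (mem_normalizer_iff''.1 (hA1N _ (hα1 c (hWA c.2))) _).1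
          (mul_mem ((mem_normalizer_iff''.1 hu' c).1 (hWA c.2)) (inv_mem (hWA c.2))) }
  -- kernel
  have hker : Nat.card ψ.ker ≤ Nat.card (V.subgroupOf R ⊓ K : Subgroup R) := by
    have hmem : ∀ a : ψ.ker, α (a.1 : G) ∈ A := fun a => by
      have h0 : q ⟨(a.1 : G)⁻¹ * α a.1, hVR (hu a.1 a.1.2)⟩ = 1 := a.2
      have h1 : ((a.1 : G)⁻¹ * α (a.1 : G)) ∈ A := (QuotientGroup.eq_one_iff (N := K) _).1 h0
      simpa using mul_mem (hWA a.1.2) h1
    have hR' : ∀ a : ψ.ker, α (a.1 : G) ∈ R := fun a =>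
      le_sup_left (b := shift A b) ⟨hmem a, hα1 _ (hWA a.1.2)⟩
    refine Nat.card_le_card_of_injective
      (fun a => (⟨⟨α (a.1 : G), hR' a⟩, mem_omegaOne (hR' a) ?_, hmem a⟩ :
        (V.subgroupOf R ⊓ K : Subgroup R))) ?_
    · show (b⁻¹ * (a.1 : G) * b) ^ p = 1
      rw [show b⁻¹ * (a.1 : G) * b = MulAut.conj b⁻¹ (a.1 : G) by simp, ← map_pow, hWpow _ a.1.2,
        map_one]
    · intro a a' h
      have h1 : b⁻¹ * (a.1 : G) * b = b⁻¹ * (a'.1 : G) * b :=
        congrArg (fun t : (V.subgroupOf R ⊓ K : Subgroup R) => ((t : R) : G)) h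
      exact Subtype.ext (Subtype.ext (mul_left_cancel (mul_right_cancel h1)))
  have hrange : ψ.range ≤ (V.subgroupOf R).map q := by
    rintro _ ⟨a, rfl⟩
    exact ⟨_, hu a a.2, rfl⟩
  have e1 := card_mul_index ψ.ker
  rw [index_ker] at e1
  have e2 : Nat.card ((V.subgroupOf R).map q) * Nat.card (V.subgroupOf R ⊓ K : Subgroup R) =
      Nat.card V := by
    have e3 := card_mul_index (K.subgroupOf (V.subgroupOf R))
    have e4 : (K.subgroupOf (V.subgroupOf R)).index = Nat.card ((V.subgroupOf R).map q) := by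
      have h5 := index_ker (q.comp (V.subgroupOf R).subtype)
      rw [← MonoidHom.comap_ker, QuotientGroup.ker_mk', MonoidHom.range_comp, range_subtype] at h5
      exact h5
    rw [e4, Nat.card_congr (subgroupOfEquivOfLe hVR).toEquiv, mul_comm] at e3
    rw [← e3, ← inf_subgroupOf_right K, Nat.card_congr (subgroupOfEquivOfLe inf_le_right).toEquiv,
      inf_comm]
  rw [← e1, ← e2, mul_comm (Nat.card ψ.ker)]
  exact Nat.mul_le_mul (card_le_of_le hrange) hker

end CfsgLib.LocalEvenSix.ReplacementRank
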